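import Mathlib

/-!
Codes for the elements of `(SL₂(3) ∗ SL₂(3)).2` (owner: helper23). The code of `(a, b, d)` is
`(24 * a + b) * 2 + d`; the parameter `ε` says that the square of the outer element is `z ^ ε`.
-/

set_option autoImplicit false
set_option maxRecDepth 100000

namespace CfsgLib.Recog.GTwoThree

abbrev SL := Matrix.SpecialLinearGroup (Fin 2) (ZMod 3)

/-- The entries of the elements of `SL₂(3)`; `i + 12` is the negative of `i`. -/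
def entTab : List (List ℕ) := [[0, 1, 2, 0], [0, 1, 2, 1], [0, 1, 2, 2], [1, 0, 0, 1], [1, 0, 1, 1], [1, 0, 2, 1], [1, 1, 0, 1], [1, 1, 1, 2], [1, 1, 2, 0], [1, 2, 0, 1], [1, 2, 1, 0], [1, 2, 2, 2], [0, 2, 1, 0], [0, 2, 1, 2], [0, 2, 1, 1], [2, 0, 0, 2], [2, 0, 2, 2], [2, 0, 1, 2], [2, 2, 0, 2], [2, 2, 2, 1], [2, 2, 1, 0], [2, 1, 0, 2], [2, 1, 2, 0], [2, 1, 1, 1]]

/-- Multiplication. -/
def mulTab : List (List ℕ) := [
  [15, 21, 18, 0, 8, 22, 2, 11, 16, 1, 5, 19, 3, 9, 6, 12, 20, 10, 14, 23, 4, 13, 17, 7],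
  [16, 22, 19, 1, 6, 23, 0, 9, 17, 2, 3, 20, 4, 10, 7, 13, 18, 11, 12, 21, 5, 14, 15, 8],
  [17, 23, 20, 2, 7, 21, 1, 10, 15, 0, 4, 18, 5, 11, 8, 14, 19, 9, 13, 22, 3, 12, 16, 6],
  [0, 1, 2, 3, 4, 5, 6, 7, 8, 9, 10, 11, 12, 13, 14, 15, 16, 17, 18, 19, 20, 21, 22, 23],
  [1, 2, 0, 4, 5, 3, 7, 8, 6, 10, 11, 9, 13, 14, 12, 16, 17, 15, 19, 20, 18, 22, 23, 21],
  [2, 0, 1, 5, 3, 4, 8, 6, 7, 11, 9, 10, 14, 12, 13, 17, 15, 16, 20, 18, 19, 23, 21, 22],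
  [22, 19, 16, 6, 23, 1, 9, 17, 0, 3, 20, 2, 10, 7, 4, 18, 11, 13, 21, 5, 12, 15, 8, 14],
  [23, 20, 17, 7, 21, 2, 10, 15, 1, 4, 18, 0, 11, 8, 5, 19, 9, 14, 22, 3, 13, 16, 6, 12],
  [21, 18, 15, 8, 22, 0, 11, 16, 2, 5, 19, 1, 9, 6, 3, 20, 10, 12, 23, 4, 14, 17, 7, 13],
  [8, 5, 11, 9, 14, 19, 3, 13, 22, 6, 12, 16, 20, 17, 23, 21, 2, 7, 15, 1, 10, 18, 0, 4],
  [6, 3, 9, 10, 12, 20, 4, 14, 23, 7, 13, 17, 18, 15, 21, 22, 0, 8, 16, 2, 11, 19, 1, 5],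
  [7, 4, 10, 11, 13, 18, 5, 12, 21, 8, 14, 15, 19, 16, 22, 23, 1, 6, 17, 0, 9, 20, 2, 3],
  [3, 9, 6, 12, 20, 10, 14, 23, 4, 13, 17, 7, 15, 21, 18, 0, 8, 22, 2, 11, 16, 1, 5, 19],
  [4, 10, 7, 13, 18, 11, 12, 21, 5, 14, 15, 8, 16, 22, 19, 1, 6, 23, 0, 9, 17, 2, 3, 20],
  [5, 11, 8, 14, 19, 9, 13, 22, 3, 12, 16, 6, 17, 23, 20, 2, 7, 21, 1, 10, 15, 0, 4, 18],
  [12, 13, 14, 15, 16, 17, 18, 19, 20, 21, 22, 23, 0, 1, 2, 3, 4, 5, 6, 7, 8, 9, 10, 11],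
  [13, 14, 12, 16, 17, 15, 19, 20, 18, 22, 23, 21, 1, 2, 0, 4, 5, 3, 7, 8, 6, 10, 11, 9],
  [14, 12, 13, 17, 15, 16, 20, 18, 19, 23, 21, 22, 2, 0, 1, 5, 3, 4, 8, 6, 7, 11, 9, 10],
  [10, 7, 4, 18, 11, 13, 21, 5, 12, 15, 8, 14, 22, 19, 16, 6, 23, 1, 9, 17, 0, 3, 20, 2],
  [11, 8, 5, 19, 9, 14, 22, 3, 13, 16, 6, 12, 23, 20, 17, 7, 21, 2, 10, 15, 1, 4, 18, 0],
  [9, 6, 3, 20, 10, 12, 23, 4, 14, 17, 7, 13, 21, 18, 15, 8, 22, 0, 11, 16, 2, 5, 19, 1],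
  [20, 17, 23, 21, 2, 7, 15, 1, 10, 18, 0, 4, 8, 5, 11, 9, 14, 19, 3, 13, 22, 6, 12, 16],
  [18, 15, 21, 22, 0, 8, 16, 2, 11, 19, 1, 5, 6, 3, 9, 10, 12, 20, 4, 14, 23, 7, 13, 17],
  [19, 16, 22, 23, 1, 6, 17, 0, 9, 20, 2, 3, 7, 4, 10, 11, 13, 18, 5, 12, 21, 8, 14, 15]]

/-- Inverses. -/
def invTab : List ℕ := [12, 10, 20, 3, 5, 4, 9, 19, 14, 6, 1, 23, 0, 22, 8, 15, 17, 16, 21, 7, 2, 18, 13, 11]

/-- Conjugation by `diag (1, -1)`. -/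
def dTab : List ℕ := [12, 14, 13, 3, 5, 4, 9, 11, 10, 6, 8, 7, 0, 2, 1, 15, 17, 16, 21, 23, 22, 18, 20, 19]

def sMul (a b : ℕ) : ℕ := (mulTab.getD a []).getD b 0
def sInv (a : ℕ) : ℕ := invTab.getD a 0
def sD (a : ℕ) : ℕ := dTab.getD a 0
def sNeg (a : ℕ) : ℕ := if a < 12 then a + 12 else a - 12
def sOne : ℕ := 3

/-- The code of a triple. -/
def code (a b d : ℕ) : ℕ := if a < 12 then (a * 24 + b) * 2 + d else ((a - 12) * 24 + sNeg b) * 2 + d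

def cA (p : ℕ) : ℕ := p / 48
def cB (p : ℕ) : ℕ := p / 2 % 24
def cD (p : ℕ) : ℕ := p % 2

/-- Conjugation by the `d`-th power of the outer element. -/
def tw (d a : ℕ) : ℕ := if d = 0 then a else sD a

/-- The product of two codes. -/
def cMul (ε p q : ℕ) : ℕ :=
  let a := sMul (cA p) (tw (cD p) (cA q))
  code (if ε = 1 ∧ cD p = 1 ∧ cD q = 1 then sNeg a else a) (sMul (cB p) (tw (cD p) (cB q)))
    ((cD p + cD q) % 2)

/-- The inverse of a code. -/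
def cInv (ε p : ℕ) : ℕ :=
  let a := tw (cD p) (sInv (cA p))
  code (if ε = 1 ∧ cD p = 1 then sNeg a else a) (tw (cD p) (sInv (cB p))) (cD p)

def cConj (ε g x : ℕ) : ℕ := cMul ε (cMul ε g x) (cInv ε g)

/-- The product of a list of codes. -/
def cProd (ε : ℕ) (l : List ℕ) : ℕ := l.foldl (cMul ε) 150

def cOne : ℕ := 150
def cZ : ℕ := 174
def cE : ℕ := 0
def cDv : ℕ := 350
def cC1 : ℕ := 294
def cC2 : ℕ := 156
def cI1 : ℕ := 30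
def cI2 : ℕ := 168
def cJ1 : ℕ := 342
def cJ2 : ℕ := 158
def cS : ℕ := 151
def cR : ℕ := 22
def cU : ℕ := 300
def cT : ℕ := 574

def matOf (a : ℕ) : Matrix (Fin 2) (Fin 2) (ZMod 3) :=
  !![((entTab.getD a []).getD 0 0 : ZMod 3), ((entTab.getD a []).getD 1 0 : ZMod 3);
     ((entTab.getD a []).getD 2 0 : ZMod 3), ((entTab.getD a []).getD 3 0 : ZMod 3)]

def matD : Matrix (Fin 2) (Fin 2) (ZMod 3) := !![1, 0; 0, -1]

theorem det_matOf : ∀ a : Fin 24, (matOf a.val).det = 1 := by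
  simp only [Matrix.det_fin_two]
  decide +kernel

/-- The element of `SL₂(3)` with the given number. -/
def slOf (a : Fin 24) : SL := ⟨matOf a.val, det_matOf a⟩

theorem tab_lt : ∀ a : Fin 24, sInv a.val < 24 ∧ sD a.val < 24 ∧ sNeg a.val < 24 ∧
    ∀ b : Fin 24, sMul a.val b.val < 24 := by decide +kernel

theorem matOf_mul : ∀ a b : Fin 24, matOf (sMul a.val b.val) = matOf a.val * matOf b.val := by decide +kernel

theorem matOf_neg : ∀ a : Fin 24, matOf (sNeg a.val) = -matOf a.val := by decide +kernel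

theorem matOf_sD : ∀ a : Fin 24, matOf (sD a.val) = matD * matOf a.val * matD := by decide +kernel

theorem matOf_one : matOf sOne = 1 := by decide +kernel

theorem sMul_inv : ∀ a : Fin 24, sMul a.val (sInv a.val) = sOne ∧ sMul (sInv a.val) a.val = sOne := by
  decide +kernel

theorem matOf_surj : ∀ a b c d : ZMod 3, a * d - b * c = 1 →
    ∃ i : Fin 24, matOf i.val = !![a, b; c, d] := by decide +kernel

theorem slOf_surjective (g : SL) : ∃ a : Fin 24, slOf a = g := by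
  have hd : g.1 0 0 * g.1 1 1 - g.1 0 1 * g.1 1 0 = 1 := by
    rw [← Matrix.det_fin_two]; exact g.2
  obtain ⟨i, hi⟩ := matOf_surj _ _ _ _ hd
  exact ⟨i, Subtype.ext (hi.trans (Matrix.eta_fin_two g.1).symm)⟩

theorem slOf_injective : Function.Injective slOf := by
  have h : ∀ a b : Fin 24, matOf a.val = matOf b.val → a = b := by decide +kernel
  exact fun a b e => h a b (congrArg Subtype.val e)

end CfsgLib.Recog.GTwoThree
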