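import Mathlib
import Cfsg.Agent.Lib.Recog.GTwoThree.Codes

/-!
The frame of the centraliser in the recognition of `G₂(3)`: two commuting copies of `SL₂(3)`
sharing the centre, with index two in the centraliser of the involution (owner: helper23).
-/

set_option autoImplicit false
set_option maxRecDepth 100000

namespace CfsgLib.Recog.GTwoThree

/-- The element of `SL₂(3)` with a natural number. -/
def sl (a : ℕ) : SL := if h : a < 24 then slOf ⟨a, h⟩ else 1

theorem sl_eq (a : Fin 24) : sl a.val = slOf a := by simp [sl]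

theorem sMul_lt {a b : ℕ} (ha : a < 24) (hb : b < 24) : sMul a b < 24 :=
  (tab_lt ⟨a, ha⟩).2.2.2 ⟨b, hb⟩

theorem sInv_lt {a : ℕ} (ha : a < 24) : sInv a < 24 := (tab_lt ⟨a, ha⟩).1

theorem sD_lt {a : ℕ} (ha : a < 24) : sD a < 24 := (tab_lt ⟨a, ha⟩).2.1

theorem sNeg_lt {a : ℕ} (ha : a < 24) : sNeg a < 24 := (tab_lt ⟨a, ha⟩).2.2.1

theorem sl_mul {a b : ℕ} (ha : a < 24) (hb : b < 24) : sl (sMul a b) = sl a * sl b := by
  rw [sl, sl, sl, dif_pos ha, dif_pos hb, dif_pos (sMul_lt ha hb)]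
  exact Subtype.ext (matOf_mul ⟨a, ha⟩ ⟨b, hb⟩)

theorem sl_inj {a b : ℕ} (ha : a < 24) (hb : b < 24) (h : sl a = sl b) : a = b := by
  rw [sl, sl, dif_pos ha, dif_pos hb] at h
  exact congrArg Fin.val (slOf_injective h)

theorem sl_surj (g : SL) : ∃ a < 24, sl a = g := by
  obtain ⟨a, rfl⟩ := slOf_surjective g
  exact ⟨a.val, a.isLt, sl_eq a⟩

/-- The automorphism of `SL₂(3)`: conjugation by `a` after the `d`-th power of the outer one. -/
def sTau (a d x : ℕ) : ℕ := sMul (sMul a (tw d x)) (sInv a)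

/-- Words in the two standard generators `6` and `4`. -/
def wordTab : List (List ℕ) := [[6, 4, 4, 6], [6, 4, 4], [4, 6, 4, 4], [], [4], [4, 4], [6], [4, 6],
  [4, 4, 6], [6, 6], [4, 6, 6], [4, 4, 6, 6], [4, 6, 6, 4], [6, 6, 4, 6], [6, 6, 4], [6, 4, 6, 4],
  [6, 4, 6, 4, 4], [6, 4, 6], [6, 6, 4, 6, 4], [6, 6, 4, 4], [6, 4, 6, 6], [4, 6, 4], [4, 4, 6, 4],
  [6, 4]]

theorem wordTab_spec : ∀ a : Fin 24, (wordTab.getD a.val []).foldl sMul 3 = a.val ∧
    (∀ x ∈ wordTab.getD a.val [], x = 6 ∨ x = 4) := by decide +kernel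

/-- What holds at the two generators and is closed under products holds everywhere. -/
theorem sl_induction {P : ℕ → Prop} (h1 : P 3) (h6 : P 6) (h4 : P 4)
    (hmul : ∀ a b, a < 24 → b < 24 → P a → P b → P (sMul a b)) : ∀ a < 24, P a := by
  have key : ∀ (l : List ℕ) (a : ℕ), a < 24 → P a → (∀ x ∈ l, x = 6 ∨ x = 4) →
      P (l.foldl sMul a) := by
    intro l
    induction l with
    | nil => intro a _ h _; exact h
    | cons x l ih =>
      intro a ha h hl
      have hx := hl x List.mem_cons_self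
      have hx24 : x < 24 := by rcases hx with rfl | rfl <;> norm_num
      have hPx : P x := by rcases hx with rfl | rfl <;> assumption
      exact ih _ (sMul_lt ha hx24) (hmul _ _ ha hx24 h hPx)
        fun y hy => hl y (List.mem_cons_of_mem _ hy)
  intro a ha
  obtain ⟨h, hl⟩ := wordTab_spec ⟨a, ha⟩
  have := key _ 3 (by norm_num) h1 hl
  rwa [h] at this

theorem sTau_lt {a d x : ℕ} (ha : a < 24) (hx : x < 24) : sTau a d x < 24 := by
  refine sMul_lt (sMul_lt ha ?_) (sInv_lt ha)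
  unfold tw; split
  · exact hx
  · exact sD_lt hx

theorem sTau_fix : ∀ a : Fin 24, ∀ d : Fin 2, sTau a d 15 = 15 ∧ sTau a d 3 = 3 := by
  decide +kernel

theorem sD_hom : ((List.range 24).all fun x => (List.range 24).all fun y =>
    Nat.beq (sD (sMul x y)) (sMul (sD x) (sD y))) = true := by decide +kernel

theorem sD_invol : ∀ a : Fin 24, sD (sD a.val) = a.val := by decide +kernel

theorem sl_one : sl 3 = 1 :=
  Subtype.ext ((congrArg Subtype.val (sl_eq ⟨3, by norm_num⟩)).trans matOf_one)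

theorem sl_sInv {a : ℕ} (ha : a < 24) : sl (sInv a) = (sl a)⁻¹ := by
  refine eq_inv_of_mul_eq_one_left ?_
  rw [← sl_mul (sInv_lt ha) ha, (sMul_inv ⟨a, ha⟩).2, sOne, sl_one]

theorem tw_lt {d x : ℕ} (hx : x < 24) : tw d x < 24 := by
  unfold tw; split
  · exact hx
  · exact sD_lt hx

theorem tw_mul {d x y : ℕ} (hx : x < 24) (hy : y < 24) :
    tw d (sMul x y) = sMul (tw d x) (tw d y) := by
  unfold tw; split
  · rfl
  · have h := List.all_eq_true.1 sD_hom x (List.mem_range.2 hx)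
    exact Nat.eq_of_beq_eq_true (List.all_eq_true.1 h y (List.mem_range.2 hy))

theorem sl_sTau {a d x : ℕ} (ha : a < 24) (hx : x < 24) :
    sl (sTau a d x) = sl a * sl (tw d x) * (sl a)⁻¹ := by
  rw [sTau, sl_mul (sMul_lt ha (tw_lt hx)) (sInv_lt ha), sl_mul ha (tw_lt hx), sl_sInv ha]

theorem sTau_mul {a d x y : ℕ} (ha : a < 24) (hx : x < 24) (hy : y < 24) :
    sTau a d (sMul x y) = sMul (sTau a d x) (sTau a d y) := by
  apply sl_inj (sTau_lt ha (sMul_lt hx hy)) (sMul_lt (sTau_lt ha hx) (sTau_lt ha hy))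
  rw [sl_mul (sTau_lt ha hx) (sTau_lt ha hy), sl_sTau ha (sMul_lt hx hy), sl_sTau ha hx,
    sl_sTau ha hy, tw_mul hx hy, sl_mul (tw_lt hx) (tw_lt hy)]
  group

theorem sTau_inj {a d x y : ℕ} (ha : a < 24) (hx : x < 24) (hy : y < 24)
    (h : sTau a d x = sTau a d y) : x = y := by
  have h' := congrArg sl h
  rw [sl_sTau ha hx, sl_sTau ha hy] at h'
  have h2 : tw d x = tw d y := sl_inj (tw_lt hx) (tw_lt hy) (mul_left_cancel (mul_right_cancel h'))
  unfold tw at h2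
  split at h2
  · exact h2
  · have := congrArg sD h2
    rwa [sD_invol ⟨x, hx⟩, sD_invol ⟨y, hy⟩] at this

theorem sTau_surj {a d : ℕ} (ha : a < 24) {x : ℕ} (hx : x < 24) :
    ∃ y < 24, sTau a d y = x := by
  let f : Fin 24 → Fin 24 := fun y => ⟨sTau a d y.val, sTau_lt ha y.isLt⟩
  have hf : Function.Injective f := fun y y' h =>
    Fin.ext (sTau_inj ha y.isLt y'.isLt (congrArg Fin.val h))
  obtain ⟨y, hy⟩ := Finite.surjective_of_injective hf ⟨x, hx⟩
  exact ⟨y.val, y.isLt, congrArg Fin.val hy⟩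

/-- Pairs of images of the two generators. -/
theorem auto_pairs : ∀ u v : Fin 24, sMul (sMul u u) u = 3 → sMul (sMul v v) v = 3 →
    sMul (sMul u v) (sMul u v) = 15 →
    ∃ a : Fin 24, ∃ d : Fin 2, sTau a d 6 = u.val ∧ sTau a d 4 = v.val := by decide +kernel

theorem gen_facts : sMul (sMul 6 6) 6 = 3 ∧ sMul (sMul 4 4) 4 = 3 ∧
    sMul (sMul 6 4) (sMul 6 4) = 15 := by decide +kernel

theorem center_facts : (∀ a : Fin 24, (∀ c : Fin 24, sMul a.val c.val = sMul c.val a.val) →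
      a.val = 3 ∨ a.val = 15) ∧
    ∀ c : Fin 24, sMul 15 c.val = sMul c.val 15 ∧ sMul 15 c.val = sNeg c.val ∧
      sMul 3 c.val = c.val ∧ sMul c.val 3 = c.val := by decide +kernel

/-- The frame of the centraliser of the involution. -/
structure Frame {G : Type*} [Group G] (H : Subgroup G) (z : G) where
  p : ℕ → G
  r : ℕ → G
  K : Subgroup G
  p_mul : ∀ a b, a < 24 → b < 24 → p (sMul a b) = p a * p b
  r_mul : ∀ a b, a < 24 → b < 24 → r (sMul a b) = r a * r b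
  comm : ∀ a b, a < 24 → b < 24 → p a * r b = r b * p a
  p_inj : ∀ a b, a < 24 → b < 24 → p a = p b → a = b
  r_inj : ∀ a b, a < 24 → b < 24 → r a = r b → a = b
  meet : ∀ a b, a < 24 → b < 24 → p a = r b → a = 3 ∧ b = 3 ∨ a = 15 ∧ b = 15
  p_z : p 15 = z
  r_z : r 15 = z
  mem_H : ∀ g, g ∈ H ↔ g * z = z * g
  mem_K : ∀ g, g ∈ K ↔ ∃ a < 24, ∃ b < 24, g = p a * r b
  K_le : K ≤ H
  two : ∀ g h, g ∈ H → h ∈ H → g ∉ K → h ∉ K → g * h ∈ K
  p_normal : ∀ h ∈ H, ∀ a < 24, ∃ b < 24, h * p a * h⁻¹ = p b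
  r_normal : ∀ h ∈ H, ∀ a < 24, ∃ b < 24, h * r a * h⁻¹ = r b
  card : Nat.card H = 576

namespace Frame

variable {G : Type*} [Group G] {H : Subgroup G} {z : G} (F : Frame H z)

theorem p_one : F.p 3 = 1 := by
  have h := F.p_mul 3 3 (by norm_num) (by norm_num)
  rw [show sMul 3 3 = 3 from by decide +kernel] at h
  exact left_eq_mul.1 h

theorem r_one : F.r 3 = 1 := by
  have h := F.r_mul 3 3 (by norm_num) (by norm_num)
  rw [show sMul 3 3 = 3 from by decide +kernel] at h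
  exact left_eq_mul.1 h

include F in
theorem z_sq : z * z = 1 := by
  rw [← F.p_z, ← F.p_mul 15 15 (by norm_num) (by norm_num),
    show sMul 15 15 = 3 from by decide +kernel, F.p_one]

include F in
theorem z_ne : z ≠ 1 := fun h =>
  absurd (F.p_inj 15 3 (by norm_num) (by norm_num) (by rw [F.p_z, F.p_one, h])) (by norm_num)

/-- The frame turned by two automorphisms of `SL₂(3)`. -/
def twist (a d b e : ℕ) (ha : a < 24) (hd : d < 2) (hb : b < 24) (he : e < 2) : Frame H z where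
  p x := F.p (sTau a d x)
  r x := F.r (sTau b e x)
  K := F.K
  p_mul x y hx hy := by
    rw [sTau_mul ha hx hy, F.p_mul _ _ (sTau_lt ha hx) (sTau_lt ha hy)]
  r_mul x y hx hy := by
    rw [sTau_mul hb hx hy, F.r_mul _ _ (sTau_lt hb hx) (sTau_lt hb hy)]
  comm x y hx hy := F.comm _ _ (sTau_lt ha hx) (sTau_lt hb hy)
  p_inj x y hx hy h := sTau_inj ha hx hy (F.p_inj _ _ (sTau_lt ha hx) (sTau_lt ha hy) h)
  r_inj x y hx hy h := sTau_inj hb hx hy (F.r_inj _ _ (sTau_lt hb hx) (sTau_lt hb hy) h)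
  meet x y hx hy h := by
    have ca := (sTau_fix ⟨a, ha⟩ ⟨d, hd⟩)
    have cb := (sTau_fix ⟨b, hb⟩ ⟨e, he⟩)
    rcases F.meet _ _ (sTau_lt ha hx) (sTau_lt hb hy) h with ⟨h1, h2⟩ | ⟨h1, h2⟩
    · exact Or.inl ⟨sTau_inj ha hx (by norm_num) (h1.trans ca.2.symm),
        sTau_inj hb hy (by norm_num) (h2.trans cb.2.symm)⟩
    · exact Or.inr ⟨sTau_inj ha hx (by norm_num) (h1.trans ca.1.symm),
        sTau_inj hb hy (by norm_num) (h2.trans cb.1.symm)⟩
  p_z := by rw [(sTau_fix ⟨a, ha⟩ ⟨d, hd⟩).1]; exact F.p_z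
  r_z := by rw [(sTau_fix ⟨b, hb⟩ ⟨e, he⟩).1]; exact F.r_z
  mem_H := F.mem_H
  mem_K g := by
    rw [F.mem_K g]
    constructor
    · rintro ⟨x, hx, y, hy, rfl⟩
      obtain ⟨x', hx', rfl⟩ := sTau_surj (d := d) ha hx
      obtain ⟨y', hy', rfl⟩ := sTau_surj (d := e) hb hy
      exact ⟨x', hx', y', hy', rfl⟩
    · rintro ⟨x, hx, y, hy, rfl⟩
      exact ⟨_, sTau_lt ha hx, _, sTau_lt hb hy, rfl⟩
  K_le := F.K_le
  two := F.two
  p_normal h hh x hx := by
    obtain ⟨y, hy, e1⟩ := F.p_normal h hh _ (sTau_lt ha hx)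
    obtain ⟨w, hw, rfl⟩ := sTau_surj (d := d) ha hy
    exact ⟨w, hw, e1⟩
  r_normal h hh x hx := by
    obtain ⟨y, hy, e1⟩ := F.r_normal h hh _ (sTau_lt hb hx)
    obtain ⟨w, hw, rfl⟩ := sTau_surj (d := e) hb hy
    exact ⟨w, hw, e1⟩
  card := F.card

/-- A conjugation acts on a copy of `SL₂(3)` as one of the automorphisms `sTau a d`. -/
theorem conj_eq_tau (q : ℕ → G) (q_mul : ∀ a b, a < 24 → b < 24 → q (sMul a b) = q a * q b)
    (q_inj : ∀ a b, a < 24 → b < 24 → q a = q b → a = b) (q_z : q 15 = z) (h : G)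
    (hz : h * z = z * h) (hn : ∀ a < 24, ∃ b < 24, h * q a * h⁻¹ = q b) :
    ∃ a < 24, ∃ d < 2, ∀ x < 24, h * q x * h⁻¹ = q (sTau a d x) := by
  choose f hf24 hf using hn
  have hmul : ∀ x y (hx : x < 24) (hy : y < 24),
      f (sMul x y) (sMul_lt hx hy) = sMul (f x hx) (f y hy) := by
    intro x y hx hy
    apply q_inj _ _ (hf24 _ _) (sMul_lt (hf24 _ _) (hf24 _ _))
    rw [← hf, q_mul x y hx hy, q_mul _ _ (hf24 _ _) (hf24 _ _), ← hf x hx, ← hf y hy]
    group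
  have q1 : q 3 = 1 := by
    have h' := q_mul 3 3 (by norm_num) (by norm_num)
    rw [show sMul 3 3 = 3 from by decide +kernel] at h'
    exact left_eq_mul.1 h'
  obtain ⟨g6, g4, g64⟩ := gen_facts
  have hu := hf 6 (by norm_num)
  have hv := hf 4 (by norm_num)
  set u := f 6 (by norm_num) with hu'
  set v := f 4 (by norm_num) with hv'
  have hu24 : u < 24 := hf24 _ _
  have hv24 : v < 24 := hf24 _ _
  have key : ∀ w w' : ℕ, w < 24 → w' < 24 → h * q w * h⁻¹ = q w' →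
      sMul (sMul w w) w = 3 → sMul (sMul w' w') w' = 3 := by
    intro w w' hw hw' e1 e2
    apply q_inj _ _ (sMul_lt (sMul_lt hw' hw') hw') (by norm_num)
    rw [q_mul _ _ (sMul_lt hw' hw') hw', q_mul _ _ hw' hw', ← e1, q1]
    have : q w * q w * q w = 1 := by
      rw [← q_mul _ _ hw hw, ← q_mul _ _ (sMul_lt hw hw) hw, e2, q1]
    calc _ = h * (q w * q w * q w) * h⁻¹ := by group
      _ = 1 := by rw [this]; group
  have h3 : sMul (sMul u v) (sMul u v) = 15 := by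
    apply q_inj _ _ (sMul_lt (sMul_lt hu24 hv24) (sMul_lt hu24 hv24)) (by norm_num)
    rw [q_mul _ _ (sMul_lt hu24 hv24) (sMul_lt hu24 hv24), q_mul _ _ hu24 hv24, ← hu, ← hv, q_z]
    have e : q 6 * q 4 * (q 6 * q 4) = z := by
      rw [← q_mul 6 4 (by norm_num) (by norm_num),
        ← q_mul _ _ (sMul_lt (by norm_num) (by norm_num)) (sMul_lt (by norm_num) (by norm_num)),
        g64, q_z]
    calc _ = h * (q 6 * q 4 * (q 6 * q 4)) * h⁻¹ := by group
      _ = z := by rw [e, hz]; group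
  obtain ⟨a, d, ea, eb⟩ := auto_pairs ⟨u, hu24⟩ ⟨v, hv24⟩ (key 6 u (by norm_num) hu24 hu g6)
    (key 4 v (by norm_num) hv24 hv g4) h3
  refine ⟨a.val, a.isLt, d.val, d.isLt, ?_⟩
  refine sl_induction ?_ ?_ ?_ ?_
  · rw [(sTau_fix a d).2, q1]; group
  · rw [hu, ea]
  · rw [hv, eb]
  · intro x y hx hy ex ey
    rw [sTau_mul a.isLt hx hy, q_mul x y hx hy,
      q_mul _ _ (sTau_lt a.isLt hx) (sTau_lt a.isLt hy), ← ex, ← ey]
    group

theorem p_tau {h : G} (hh : h ∈ H) :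
    ∃ a < 24, ∃ d < 2, ∀ x < 24, h * F.p x * h⁻¹ = F.p (sTau a d x) :=
  conj_eq_tau F.p F.p_mul F.p_inj F.p_z h ((F.mem_H h).1 hh) (F.p_normal h hh)

theorem r_tau {h : G} (hh : h ∈ H) :
    ∃ a < 24, ∃ d < 2, ∀ x < 24, h * F.r x * h⁻¹ = F.r (sTau a d x) :=
  conj_eq_tau F.r F.r_mul F.r_inj F.r_z h ((F.mem_H h).1 hh) (F.r_normal h hh)

end Frame

end CfsgLib.Recog.GTwoThree
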