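import Mathlib
import Cfsg.Agent.Lib.Recog.GTwoThree.Frame

/-!
The frame obtained from two normal subgroups isomorphic to `SL₂(3)` (owner: helper23).
-/

set_option autoImplicit false

namespace CfsgLib.Recog.GTwoThree

theorem cube_facts : (∀ a : Fin 24, sMul (sMul a.val a.val) a.val = 3 →
      a.val = 2 ∨ a.val = 3 ∨ a.val = 4 ∨ a.val = 5 ∨ a.val = 6 ∨ a.val = 9 ∨ a.val = 13 ∨
      a.val = 20 ∨ a.val = 22) ∧ sMul (sMul 6 6) 6 = 3 ∧ sMul (sMul 4 4) 4 = 3 := by
  decide +kernel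

theorem exists_frame {G : Type*} [Group G] [Finite G] (H H₁ H₂ : Subgroup G) (h1 : H₁ ≤ H)
    (h2 : H₂ ≤ H) (hn1 : (H₁.subgroupOf H).Normal) (hn2 : (H₂.subgroupOf H).Normal)
    (hiso1 : Nonempty (↥H₁ ≃* SL)) (hiso2 : Nonempty (↥H₂ ≃* SL))
    (hidx : (H₁ ⊔ H₂).relIndex H = 2)
    (hint1 : H₁ ⊓ H₂ = H₁ ⊓ Subgroup.centralizer (H₁ : Set G))
    (hint2 : H₁ ⊓ H₂ = H₂ ⊓ Subgroup.centralizer (H₂ : Set G))
    (hHC : H = Subgroup.centralizer ((H₁ ⊓ H₂ : Subgroup G) : Set G)) :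
    ∃ z : G, z ∈ H₁ ⊓ H₂ ∧ Nonempty (Frame H z) := by
  obtain ⟨e1⟩ := hiso1
  obtain ⟨e2⟩ := hiso2
  let p : ℕ → G := fun a => (e1.symm (sl a) : G)
  let r : ℕ → G := fun a => (e2.symm (sl a) : G)
  have hp : ∀ a, p a ∈ H₁ := fun a => (e1.symm (sl a)).2
  have hr : ∀ a, r a ∈ H₂ := fun a => (e2.symm (sl a)).2
  have p_mul : ∀ a b, a < 24 → b < 24 → p (sMul a b) = p a * p b := fun a b ha hb => by
    simp only [p, sl_mul ha hb, map_mul, Subgroup.coe_mul]
  have r_mul : ∀ a b, a < 24 → b < 24 → r (sMul a b) = r a * r b := fun a b ha hb => by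
    simp only [r, sl_mul ha hb, map_mul, Subgroup.coe_mul]
  have p_inj : ∀ a b, a < 24 → b < 24 → p a = p b → a = b := fun a b ha hb h =>
    sl_inj ha hb (e1.symm.injective (Subtype.ext h))
  have r_inj : ∀ a b, a < 24 → b < 24 → r a = r b → a = b := fun a b ha hb h =>
    sl_inj ha hb (e2.symm.injective (Subtype.ext h))
  have p_surj : ∀ g ∈ H₁, ∃ a < 24, p a = g := fun g hg => by
    obtain ⟨a, ha, h⟩ := sl_surj (e1 ⟨g, hg⟩)
    exact ⟨a, ha, by simp [p, h]⟩
  have r_surj : ∀ g ∈ H₂, ∃ a < 24, r a = g := fun g hg => by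
    obtain ⟨a, ha, h⟩ := sl_surj (e2 ⟨g, hg⟩)
    exact ⟨a, ha, by simp [r, h]⟩
  have p1 : p 3 = 1 := by simp [p, sl_one]
  have r1 : r 3 = 1 := by simp [r, sl_one]
  obtain ⟨hcf, hcc⟩ := center_facts
  have pZ : p 15 ∈ H₁ ⊓ H₂ := by
    rw [hint1]
    refine ⟨hp 15, Subgroup.mem_centralizer_iff.2 fun g hg => ?_⟩
    obtain ⟨a, ha, rfl⟩ := p_surj g hg
    rw [← p_mul a 15 ha (by norm_num), ← p_mul 15 a (by norm_num) ha, (hcc ⟨a, ha⟩).1]
  have rZ : r 15 ∈ H₁ ⊓ H₂ := by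
    rw [hint2]
    refine ⟨hr 15, Subgroup.mem_centralizer_iff.2 fun g hg => ?_⟩
    obtain ⟨a, ha, rfl⟩ := r_surj g hg
    rw [← r_mul a 15 ha (by norm_num), ← r_mul 15 a (by norm_num) ha, (hcc ⟨a, ha⟩).1]
  have pZmem : ∀ a < 24, p a ∈ H₁ ⊓ H₂ → a = 3 ∨ a = 15 := fun a ha h => by
    rw [hint1] at h
    refine hcf ⟨a, ha⟩ fun c => p_inj _ _ (sMul_lt ha c.isLt) (sMul_lt c.isLt ha) ?_
    rw [p_mul a c ha c.isLt, p_mul c a c.isLt ha]
    exact (Subgroup.mem_centralizer_iff.1 h.2 _ (hp c)).symm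
  have rZmem : ∀ a < 24, r a ∈ H₁ ⊓ H₂ → a = 3 ∨ a = 15 := fun a ha h => by
    rw [hint2] at h
    refine hcf ⟨a, ha⟩ fun c => r_inj _ _ (sMul_lt ha c.isLt) (sMul_lt c.isLt ha) ?_
    rw [r_mul a c ha c.isLt, r_mul c a c.isLt ha]
    exact (Subgroup.mem_centralizer_iff.1 h.2 _ (hr c)).symm
  have r_z : r 15 = p 15 := by
    obtain ⟨a, ha, e⟩ := p_surj _ rZ.1
    rcases pZmem a ha (e.symm ▸ rZ) with rfl | rfl
    · exact absurd (r_inj 15 3 (by norm_num) (by norm_num) (by rw [← e, p1, r1])) (by norm_num)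
    · exact e.symm
  have Zcases : ∀ g ∈ H₁ ⊓ H₂, g = 1 ∨ g = p 15 := fun g hg => by
    obtain ⟨a, ha, rfl⟩ := p_surj g hg.1
    rcases pZmem a ha hg with rfl | rfl
    · exact Or.inl p1
    · exact Or.inr rfl
  have mem_H : ∀ g, g ∈ H ↔ g * p 15 = p 15 * g := fun g => by
    rw [hHC, Subgroup.mem_centralizer_iff]
    refine ⟨fun h => (h _ pZ).symm, fun h x hx => ?_⟩
    rcases Zcases x hx with rfl | rfl
    · simp
    · exact h.symm
  have p_normal : ∀ h ∈ H, ∀ a < 24, ∃ b < 24, h * p a * h⁻¹ = p b := fun h hh a _ => by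
    obtain ⟨b, hb, e⟩ := p_surj _ (hn1.conj_mem ⟨p a, h1 (hp a)⟩ (hp a) ⟨h, hh⟩)
    exact ⟨b, hb, e.symm⟩
  have r_normal : ∀ h ∈ H, ∀ a < 24, ∃ b < 24, h * r a * h⁻¹ = r b := fun h hh a _ => by
    obtain ⟨b, hb, e⟩ := r_surj _ (hn2.conj_mem ⟨r a, h2 (hr a)⟩ (hr a) ⟨h, hh⟩)
    exact ⟨b, hb, e.symm⟩
  -- elements of order three of the second copy centralise the first
  have comm0 : ∀ a < 24, ∀ b < 24, sMul (sMul b b) b = 3 → p a * r b = r b * p a := by
    intro a ha b hb h3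
    have hbH : r b ∈ H := h2 (hr b)
    have haH : p a ∈ H := h1 (hp a)
    have hz : r b * p 15 = p 15 * r b := (mem_H _).1 hbH
    set c := r b * p a * (r b)⁻¹ * (p a)⁻¹ with hc
    have hcZ : c ∈ H₁ ⊓ H₂ := by
      constructor
      · obtain ⟨u, _, e⟩ := p_normal _ hbH a ha
        rw [hc, e]; exact H₁.mul_mem (hp u) (H₁.inv_mem (hp a))
      · obtain ⟨u, _, e⟩ := r_normal _ haH (sInv b) (sInv_lt hb)
        have hinv : r (sInv b) = (r b)⁻¹ := by
          refine eq_inv_of_mul_eq_one_left ?_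
          rw [← r_mul _ _ (sInv_lt hb) hb, (sMul_inv ⟨b, hb⟩).2, sOne, r1]
        rw [hinv] at e
        have : c = r b * (p a * (r b)⁻¹ * (p a)⁻¹) := by rw [hc]; group
        rw [this, e]; exact H₂.mul_mem (hr b) (hr u)
    have hb3 : r b * r b * r b = 1 := by
      rw [← r_mul b b hb hb, ← r_mul _ b (sMul_lt hb hb) hb, h3, r1]
    have step : r b * p a * (r b)⁻¹ = c * p a := by rw [hc]; group
    have hcc' : r b * c * (r b)⁻¹ = c := by
      rcases Zcases c hcZ with e | e <;> rw [e]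
      · group
      · rw [hz]; group
    have s1 : ∀ X, r b * (c * X) * (r b)⁻¹ = c * (r b * X * (r b)⁻¹) := fun X => by
      calc r b * (c * X) * (r b)⁻¹ = r b * c * (r b)⁻¹ * (r b * X * (r b)⁻¹) := by group
        _ = _ := by rw [hcc']
    have h' : p a = c * c * c * p a := by
      calc p a = r b * r b * r b * p a * (r b * r b * r b)⁻¹ := by rw [hb3]; group
        _ = r b * (r b * (r b * p a * (r b)⁻¹) * (r b)⁻¹) * (r b)⁻¹ := by group
        _ = c * c * c * p a := by rw [step, s1, step, s1, s1, step]; simp only [mul_assoc]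
    have hcone : c = 1 := by
      rcases Zcases c hcZ with e | e
      · exact e
      · have hsq : p 15 * p 15 = 1 := by
          rw [← p_mul 15 15 (by norm_num) (by norm_num),
            show sMul 15 15 = 3 from by decide +kernel, p1]
        rw [e, hsq, one_mul] at h'
        exact absurd (right_eq_mul.1 h') fun h15 =>
          absurd (p_inj 15 3 (by norm_num) (by norm_num) (by rw [h15, p1])) (by norm_num)
    rw [hcone, one_mul] at step
    calc p a * r b = r b * p a * (r b)⁻¹ * r b := by rw [step]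
      _ = r b * p a := by group
  have comm : ∀ a b, a < 24 → b < 24 → p a * r b = r b * p a := by
    intro a b ha hb
    refine sl_induction (P := fun b => p a * r b = r b * p a) ?_ ?_ ?_ ?_ b hb
    · simp [r1]
    · exact comm0 a ha 6 (by norm_num) cube_facts.2.1
    · exact comm0 a ha 4 (by norm_num) cube_facts.2.2
    · intro x y hx hy ex ey
      rw [r_mul x y hx hy, ← mul_assoc, ex, mul_assoc, ey, mul_assoc]
  have meet : ∀ a b, a < 24 → b < 24 → p a = r b → a = 3 ∧ b = 3 ∨ a = 15 ∧ b = 15 := by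
    intro a b ha hb h
    rcases pZmem a ha ⟨hp a, h ▸ hr b⟩ with rfl | rfl
    · exact Or.inl ⟨rfl, (r_inj b 3 hb (by norm_num) (by rw [← h, p1, r1]))⟩
    · exact Or.inr ⟨rfl, (r_inj b 15 hb (by norm_num) (by rw [← h, r_z]))⟩
  have mem_K : ∀ g, g ∈ H₁ ⊔ H₂ ↔ ∃ a < 24, ∃ b < 24, g = p a * r b := by
    intro g
    constructor
    · intro hg
      have hcom : ∀ (x : H₁) (y : H₂), Commute (x : G) (y : G) := fun x y => by
        obtain ⟨a, ha, ea⟩ := p_surj _ x.2
        obtain ⟨b, hb, eb⟩ := r_surj _ y.2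
        rw [← ea, ← eb]; exact comm a b ha hb
      have hrange := MonoidHom.noncommCoprod_range H₁.subtype H₂.subtype hcom
      rw [Subgroup.range_subtype, Subgroup.range_subtype] at hrange
      rw [← hrange] at hg
      obtain ⟨⟨x, y⟩, rfl⟩ := hg
      obtain ⟨a, ha, ea⟩ := p_surj _ x.2
      obtain ⟨b, hb, eb⟩ := r_surj _ y.2
      exact ⟨a, ha, b, hb, by rw [ea, eb]; rfl⟩
    · rintro ⟨a, _, b, _, rfl⟩
      exact mul_mem (Subgroup.mem_sup_left (hp a)) (Subgroup.mem_sup_right (hr b))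
  have K_le : H₁ ⊔ H₂ ≤ H := sup_le h1 h2
  have hindex : ((H₁ ⊔ H₂).subgroupOf H).index = 2 := hidx
  have two : ∀ g h, g ∈ H → h ∈ H → g ∉ H₁ ⊔ H₂ → h ∉ H₁ ⊔ H₂ → g * h ∈ H₁ ⊔ H₂ := by
    intro g h hg hh ng nh
    have := (Subgroup.mul_mem_iff_of_index_two hindex (a := ⟨g, hg⟩) (b := ⟨h, hh⟩)).2
      (iff_of_false ng nh)
    exact this
  -- the order of `H₁H₂`
  have hK : Nat.card ↥(H₁ ⊔ H₂) = 288 := by
    let f : Fin 12 × Fin 24 → ↥(H₁ ⊔ H₂) := fun x =>
      ⟨p x.1 * r x.2, (mem_K _).2 ⟨x.1, by omega, x.2, x.2.isLt, rfl⟩⟩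
    have hf : Function.Bijective f := by
      constructor
      · rintro ⟨a, b⟩ ⟨a', b'⟩ h
        have h' : p a * r b = p a' * r b' := congrArg Subtype.val h
        have ha : a.val < 24 := by omega
        have ha' : a'.val < 24 := by omega
        have hi : p (sInv a') = (p a')⁻¹ := by
          refine eq_inv_of_mul_eq_one_left ?_
          rw [← p_mul _ _ (sInv_lt ha') ha', (sMul_inv ⟨a', ha'⟩).2, sOne, p1]
        have hj : r (sInv b) = (r b)⁻¹ := by
          refine eq_inv_of_mul_eq_one_left ?_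
          rw [← r_mul _ _ (sInv_lt b.isLt) b.isLt, (sMul_inv b).2, sOne, r1]
        have e : p (sMul (sInv a') a) = r (sMul b' (sInv b)) := by
          rw [p_mul _ _ (sInv_lt ha') ha, r_mul _ _ b'.isLt (sInv_lt b.isLt), hi, hj]
          calc (p a')⁻¹ * p a = (p a')⁻¹ * (p a * r b) * (r b)⁻¹ := by group
            _ = r b' * (r b)⁻¹ := by rw [h']; group
        rcases meet _ _ (sMul_lt (sInv_lt ha') ha) (sMul_lt b'.isLt (sInv_lt b.isLt)) e with
          ⟨u, v⟩ | ⟨u, v⟩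
        · have key : ∀ x y : Fin 24, sMul (sInv x.val) y.val = 3 → x = y := by decide +kernel
          have key2 : ∀ x y : Fin 24, sMul y.val (sInv x.val) = 3 → x = y := by decide +kernel
          have k1 := congrArg Fin.val (key ⟨a', ha'⟩ ⟨a, ha⟩ u)
          exact Prod.ext (Fin.ext k1.symm) (key2 b b' v)
        · exfalso
          have key : ∀ x y : Fin 12, sMul (sInv x.val) y.val ≠ 15 := by decide +kernel
          exact key a' a u
      · rintro ⟨g, hg⟩
        obtain ⟨a, ha, b, hb, rfl⟩ := (mem_K g).1 hg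
        by_cases h12 : a < 12
        · exact ⟨(⟨a, h12⟩, ⟨b, hb⟩), Subtype.ext rfl⟩
        · refine ⟨(⟨a - 12, by omega⟩, ⟨sNeg b, sNeg_lt hb⟩), Subtype.ext ?_⟩
          show p (a - 12) * r (sNeg b) = p a * r b
          have hneg : sMul 15 a = a - 12 := by
            rw [(hcc ⟨a, ha⟩).2.1]; simp [sNeg, h12]
          rw [← hneg, ← (hcc ⟨b, hb⟩).2.1, p_mul 15 a (by norm_num) ha,
            r_mul 15 b (by norm_num) hb, r_z]
          have hsq : p 15 * p 15 = 1 := by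
            rw [← p_mul 15 15 (by norm_num) (by norm_num),
              show sMul 15 15 = 3 from by decide +kernel, p1]
          have hzc : p 15 * p a = p a * p 15 := ((mem_H _).1 (h1 (hp a))).symm
          calc p 15 * p a * (p 15 * r b) = p a * (p 15 * p 15) * r b := by rw [hzc]; group
            _ = p a * r b := by rw [hsq, mul_one]
    rw [← Nat.card_congr (Equiv.ofBijective f hf)]
    simp
  have card : Nat.card H = 576 := by
    have h := Subgroup.card_mul_index ((H₁ ⊔ H₂).subgroupOf H)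
    rw [hindex, Nat.card_congr (Subgroup.subgroupOfEquivOfLe K_le).toEquiv, hK] at h
    omega
  exact ⟨p 15, pZ, ⟨⟨p, r, H₁ ⊔ H₂, p_mul, r_mul, comm, p_inj, r_inj, meet, rfl, r_z, mem_H,
    mem_K, K_le, two, p_normal, r_normal, card⟩⟩⟩

end CfsgLib.Recog.GTwoThree
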