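import Mathlib
import Cfsg.Prelude.Def_Transfer
import Cfsg.Prelude.Def_Solvable
import Cfsg.Agent.Lib.Recog.TwoSymFourFacts
import Cfsg.Agent.Lib.Recog.GTwoThree.Init

/-!
The position of the normal four-group of the local subgroup in the centraliser of the involution,
and the model of the centraliser by codes (owner: helper23).
-/

set_option autoImplicit false
set_option maxRecDepth 100000

namespace CfsgLib.Recog.GTwoThree

/-- The quaternion subgroup of `SL₂(3)`. -/
def q8 : List ℕ := [0, 3, 7, 11, 12, 15, 19, 23]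

/-- The codes of the fixed elementary abelian subgroup of order eight. -/
def e0 : List ℕ := [150, 174, 0, 24, 350, 374, 550, 574]

/-- The six ways to turn the second copy. -/
def turns : List (ℕ × ℕ) := [(3, 0), (6, 0), (9, 0), (3, 1), (6, 1), (9, 1)]

def sq7 (a : ℕ) : ℕ := (List.range 7).foldl (fun x _ => sMul x x) a

theorem q8_facts : (∀ a : Fin 24, (sq7 a.val = 3 ∨ sq7 a.val = 15) → a.val ∈ q8) ∧
    (∀ a ∈ q8, a < 24 ∧ sInv a ∈ q8 ∧ sMul (sMul a a) (sMul a a) = 3 ∧ ∀ b ∈ q8, sMul a b ∈ q8 ∧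
      (sMul (sMul a b) (sInv (sMul b a)) = 3 ∨ sMul (sMul a b) (sInv (sMul b a)) = 15)) ∧
    (∀ a b : Fin 24, ∀ q ∈ q8, sTau a.val 0 q = sMul (sMul a.val q) (sInv a.val)) := by
  decide +kernel

theorem inner_facts : ∀ a : Fin 24, (∀ q ∈ q8, sTau a.val 1 q = q ∨ sTau a.val 1 q = sNeg q) →
    False := by decide +kernel

theorem tau_q8 : ∀ a : Fin 24, ∀ d : Fin 2, ∀ q ∈ q8, sTau a.val d.val q ∈ q8 := by decide +kernel

theorem square_facts : ∀ a b : Fin 24, (sMul a.val a.val = 3 ∨ sMul a.val a.val = 15) →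
    sMul a.val a.val = sMul b.val b.val → (a.val ∈ q8 ∧ b.val ∈ q8) := by decide +kernel

theorem code_facts : ∀ a b : Fin 24, ∀ d : Fin 2, code a.val b.val d.val < 576 ∧
    cD (code a.val b.val d.val) = d.val ∧
    ((cA (code a.val b.val d.val) = a.val ∧ cB (code a.val b.val d.val) = b.val ∧ a.val < 12) ∨
     (cA (code a.val b.val d.val) = sNeg a.val ∧ cB (code a.val b.val d.val) = sNeg b.val ∧
      12 ≤ a.val)) := by decide +kernel

theorem code_inj_facts : ∀ a b : Fin 24, ∀ d : Fin 2,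
    code (sNeg a.val) (sNeg b.val) d.val = code a.val b.val d.val := by decide +kernel

theorem dec_lt {p : ℕ} (hp : p < 576) : cA p < 12 ∧ cB p < 24 ∧ cD p < 2 := by
  unfold cA cB cD; omega

theorem dec_eq {p q : ℕ} (ha : cA p = cA q) (hb : cB p = cB q) (hd : cD p = cD q) : p = q := by
  unfold cA cB cD at *; omega

/-- The images of a triple of codes fix the position up to a turn. -/
def turned (t : ℕ × ℕ) (a b : ℕ) : Bool :=
  e0.any fun x => Nat.beq (code (cA x) (sTau t.1 t.2 (cB x)) 0) (code a b 0)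

theorem plane_facts : ((List.range 12).all fun a => (List.range 24).all fun b =>
    (List.range 12).all fun c => (List.range 24).all fun e =>
    !(Nat.beq (sMul a a) 15 && Nat.beq (sMul b b) 15 && Nat.beq (sMul c c) 15 &&
      Nat.beq (sMul e e) 15 && Nat.beq (code (sMul a c) (sMul b e) 0) (code (sMul c a) (sMul e b) 0)
      && !(Nat.beq a c && (Nat.beq b e || Nat.beq b (sNeg e)))) ||
    turns.any fun t => turned t a b && turned t c e) = true := by decide +kernel

theorem outer_facts : ((List.range 24).all fun a => (List.range 24).all fun b =>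
    !(([0, 350] : List ℕ).all fun x =>
        e0.any fun y => Nat.beq (code (sTau a 1 (cA x)) (sTau b 0 (cB x)) 0) y) &&
    !(([0, 350] : List ℕ).all fun x =>
        e0.any fun y => Nat.beq (code (sTau a 0 (cA x)) (sTau b 1 (cB x)) 0) y)) = true := by
  decide +kernel

theorem e0_facts : (∀ x ∈ e0, x < 576 ∧ cD x = 0) ∧
    (∀ x ∈ e0, ∀ y ∈ e0, code (sMul (cA x) (cA y)) (sMul (cB x) (cB y)) 0 ∈ e0) := by
  decide +kernel

/-- The model of the centraliser of the involution. -/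
structure Model {G : Type*} [Group G] (z : G) (ε : ℕ) where
  val : ℕ → G
  mul : ∀ p q, p < 576 → q < 576 → val (cMul ε p q) = val p * val q
  inj : ∀ p q, p < 576 → q < 576 → val p = val q → p = q
  mem : ∀ g, g * z = z * g ↔ ∃ p < 576, val p = g
  val_z : val 174 = z

namespace Frame

variable {G : Type*} [Group G] {H : Subgroup G} {z : G} (F : Frame H z)

theorem pr_inv {a : ℕ} (ha : a < 24) : F.p (sInv a) = (F.p a)⁻¹ ∧ F.r (sInv a) = (F.r a)⁻¹ := by
  constructor <;> refine eq_inv_of_mul_eq_one_left ?_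
  · rw [← F.p_mul _ _ (sInv_lt ha) ha, (sMul_inv ⟨a, ha⟩).2, sOne, F.p_one]
  · rw [← F.r_mul _ _ (sInv_lt ha) ha, (sMul_inv ⟨a, ha⟩).2, sOne, F.r_one]

theorem pr_mul {a b c d : ℕ} (ha : a < 24) (hb : b < 24) (hc : c < 24) (hd : d < 24) :
    F.p a * F.r b * (F.p c * F.r d) = F.p (sMul a c) * F.r (sMul b d) := by
  rw [F.p_mul a c ha hc, F.r_mul b d hb hd]
  calc F.p a * F.r b * (F.p c * F.r d) = F.p a * (F.r b * F.p c) * F.r d := by group
    _ = _ := by rw [← F.comm c b hc hb]; group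

theorem p_mem {a : ℕ} (ha : a < 24) : F.p a ∈ F.K :=
  (F.mem_K _).2 ⟨a, ha, 3, by norm_num, by rw [F.r_one, mul_one]⟩

theorem r_mem {a : ℕ} (ha : a < 24) : F.r a ∈ F.K :=
  (F.mem_K _).2 ⟨3, by norm_num, a, ha, by rw [F.p_one, one_mul]⟩

theorem pr_neg {a b : ℕ} (ha : a < 24) (hb : b < 24) :
    F.p (sNeg a) * F.r (sNeg b) = F.p a * F.r b := by
  rw [← (center_facts.2 ⟨a, ha⟩).2.1, ← (center_facts.2 ⟨b, hb⟩).2.1,
    F.p_mul 15 a (by norm_num) ha, F.r_mul 15 b (by norm_num) hb, F.p_z, F.r_z]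
  have hz : z * F.p a = F.p a * z := ((F.mem_H _).1 (F.K_le (F.p_mem ha))).symm
  calc z * F.p a * (z * F.r b) = F.p a * (z * z) * F.r b := by rw [hz]; group
    _ = _ := by rw [F.z_sq, mul_one]

theorem pr_code {a b d : ℕ} (ha : a < 24) (hb : b < 24) (hd : d < 2) :
    F.p (cA (code a b d)) * F.r (cB (code a b d)) = F.p a * F.r b := by
  obtain ⟨_, _, h | h⟩ := code_facts ⟨a, ha⟩ ⟨b, hb⟩ ⟨d, hd⟩
  · rw [show cA (code a b d) = a from h.1, show cB (code a b d) = b from h.2.1]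
  · rw [show cA (code a b d) = sNeg a from h.1, show cB (code a b d) = sNeg b from h.2.1]
    exact F.pr_neg ha hb

theorem pr_eq {a b c e : ℕ} (ha : a < 24) (hb : b < 24) (hc : c < 24) (he : e < 24)
    (h : F.p a * F.r b = F.p c * F.r e) : a = c ∧ b = e ∨ a = sNeg c ∧ b = sNeg e := by
  have h' : F.p (sMul (sInv c) a) = F.r (sMul e (sInv b)) := by
    rw [F.p_mul _ _ (sInv_lt hc) ha, F.r_mul _ _ he (sInv_lt hb), (F.pr_inv hc).1,
      (F.pr_inv hb).2]
    calc (F.p c)⁻¹ * F.p a = (F.p c)⁻¹ * (F.p a * F.r b) * (F.r b)⁻¹ := by group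
      _ = F.r e * (F.r b)⁻¹ := by rw [h]; group
  have k1 : ∀ x y : Fin 24, (sMul (sInv x.val) y.val = 3 → y.val = x.val) ∧
      (sMul (sInv x.val) y.val = 15 → y.val = sNeg x.val) ∧
      (sMul x.val (sInv y.val) = 3 → y.val = x.val) ∧
      (sMul x.val (sInv y.val) = 15 → y.val = sNeg x.val) := by decide +kernel
  rcases F.meet _ _ (sMul_lt (sInv_lt hc) ha) (sMul_lt he (sInv_lt hb)) h' with ⟨u, v⟩ | ⟨u, v⟩
  · exact Or.inl ⟨(k1 ⟨c, hc⟩ ⟨a, ha⟩).1 u, (k1 ⟨e, he⟩ ⟨b, hb⟩).2.2.1 v⟩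
  · exact Or.inr ⟨(k1 ⟨c, hc⟩ ⟨a, ha⟩).2.1 u, (k1 ⟨e, he⟩ ⟨b, hb⟩).2.2.2 v⟩

theorem code_eq_of_pr {a b c e : ℕ} (ha : a < 24) (hb : b < 24) (hc : c < 24) (he : e < 24)
    (h : F.p a * F.r b = F.p c * F.r e) : code a b 0 = code c e 0 := by
  rcases F.pr_eq ha hb hc he h with ⟨rfl, rfl⟩ | ⟨rfl, rfl⟩
  · rfl
  · exact code_inj_facts ⟨c, hc⟩ ⟨e, he⟩ 0

/-- The automorphism of a pair under a conjugation. -/
theorem conj_pr {h : G} {a d b e x y : ℕ}
    (hp : ∀ u < 24, h * F.p u * h⁻¹ = F.p (sTau a d u))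
    (hr : ∀ u < 24, h * F.r u * h⁻¹ = F.r (sTau b e u)) (hx : x < 24) (hy : y < 24) :
    h * (F.p x * F.r y) * h⁻¹ = F.p (sTau a d x) * F.r (sTau b e y) := by
  rw [← hp x hx, ← hr y hy]; group

/-- An element outside `H₁H₂` inducing inner automorphisms on both factors gives an element
outside `H₁H₂` centralising it. -/
theorem exists_central {h : G} (hh : h ∈ H) (hK : h ∉ F.K) {a b : ℕ} (ha : a < 24) (hb : b < 24)
    (hp : ∀ u < 24, h * F.p u * h⁻¹ = F.p (sTau a 0 u))
    (hr : ∀ u < 24, h * F.r u * h⁻¹ = F.r (sTau b 0 u)) :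
    ∃ c ∈ H, c ∉ F.K ∧ ∀ k ∈ F.K, c * k = k * c := by
  have hk : F.p a * F.r b ∈ F.K := mul_mem (F.p_mem ha) (F.r_mem hb)
  refine ⟨(F.p a * F.r b)⁻¹ * h, mul_mem (inv_mem (F.K_le hk)) hh, fun hm => hK ?_, ?_⟩
  · simpa [mul_assoc] using mul_mem hk hm
  · intro k hk'
    obtain ⟨x, hx, y, hy, rfl⟩ := (F.mem_K k).1 hk'
    have hsx : sTau a 0 x = sMul (sMul a x) (sInv a) := rfl
    have hsy : sTau b 0 y = sMul (sMul b y) (sInv b) := rfl
    have e1 : h * (F.p x * F.r y) * h⁻¹ =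
        F.p a * F.r b * (F.p x * F.r y) * (F.p a * F.r b)⁻¹ := by
      rw [F.conj_pr hp hr hx hy, hsx, hsy, F.pr_mul ha hb hx hy]
      have hi : (F.p a * F.r b)⁻¹ = F.p (sInv a) * F.r (sInv b) := by
        rw [(F.pr_inv ha).1, (F.pr_inv hb).2, mul_inv_rev]
        have := (F.comm (sInv a) (sInv b) (sInv_lt ha) (sInv_lt hb)).symm
        rwa [(F.pr_inv ha).1, (F.pr_inv hb).2] at this
      rw [hi, F.pr_mul (sMul_lt ha hx) (sMul_lt hb hy) (sInv_lt ha) (sInv_lt hb)]
    calc (F.p a * F.r b)⁻¹ * h * (F.p x * F.r y)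
        = (F.p a * F.r b)⁻¹ * (h * (F.p x * F.r y) * h⁻¹) * h := by group
      _ = _ := by rw [e1]; group

theorem coset {c g : G} (hc : c ∈ H) (hcK : c ∉ F.K) (hg : g ∈ H) :
    g ∈ F.K ∨ ∃ k ∈ F.K, g = k * c := by
  by_cases h : g ∈ F.K
  · exact Or.inl h
  · refine Or.inr ⟨g * c⁻¹, F.two g c⁻¹ hg (inv_mem hc) h (fun hm => hcK ?_), by group⟩
    simpa using inv_mem hm

end Frame

/-- The subgroup data coming from the local subgroup. -/
structure LocalData {G : Type*} [Group G] (H : Subgroup G) (z : G) where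
  E : Subgroup G
  M : Subgroup G
  le : E ≤ M
  card_E : Nat.card E = 8
  comm_E : ∀ x ∈ E, ∀ y ∈ E, x * y = y * x
  sq_E : ∀ x ∈ E, x * x = 1
  mem_z : z ∈ E
  norm : ∀ g ∈ M, ∀ x ∈ E, g * x * g⁻¹ ∈ E
  cent : ∀ g ∈ M, (∀ x ∈ E, g * x = x * g) → g ∈ E
  card_M : Nat.card M = 1344
  card_HM : Nat.card (H ⊓ M : Subgroup G) = 192

theorem exists_localData {G : Type*} [Group G] [Finite G] {H : Subgroup G} {z : G}
    (F : Frame H z) (M : Subgroup G) [(Cfsg.pCore 2 ↥M).Normal]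
    (hM : Nonempty ((↥M ⧸ Cfsg.pCore 2 ↥M) ≃* Matrix.SpecialLinearGroup (Fin 3) (ZMod 2)))
    (hOel : Cfsg.IsElementaryAbelian 2 (Cfsg.pCore 2 ↥M))
    (hOcard : Nat.card ↥(Cfsg.pCore 2 ↥M) = 8)
    (hz : z ∈ (Cfsg.pCore 2 ↥M).map M.subtype) :
    ∃ D : LocalData H z, D.M = M := by
  classical
  obtain ⟨ψ⟩ := hM
  obtain ⟨hsimp, h168⟩ := CfsgLib.Recog.TwoSFour.seven_simple ψ
  obtain ⟨hcomm, hexp⟩ := hOel
  set O := Cfsg.pCore 2 ↥M with hO
  have hcardM : Nat.card M = 1344 := by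
    rw [Subgroup.card_eq_card_quotient_mul_card_subgroup O, h168, hOcard]
  set E := O.map M.subtype with hE
  have hcardE : Nat.card E = 8 := by
    rw [hE, ← Nat.card_congr (Subgroup.equivMapOfInjective O _ M.subtype_injective).toEquiv,
      hOcard]
  have hmem : ∀ x ∈ E, ∃ o ∈ O, (o : G) = x := fun x hx => by
    obtain ⟨o, ho, rfl⟩ := Subgroup.mem_map.1 hx
    exact ⟨o, ho, rfl⟩
  have hOc : ∀ a ∈ O, ∀ b ∈ O, a * b = b * a := fun a ha b hb =>
    congrArg Subtype.val (hcomm.is_comm.comm ⟨a, ha⟩ ⟨b, hb⟩)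
  have hcommE : ∀ x ∈ E, ∀ y ∈ E, x * y = y * x := fun x hx y hy => by
    obtain ⟨a, ha, rfl⟩ := hmem x hx
    obtain ⟨b, hb, rfl⟩ := hmem y hy
    exact congrArg Subtype.val (hOc a ha b hb)
  have hnorm : ∀ g ∈ M, ∀ x ∈ E, g * x * g⁻¹ ∈ E := fun g hg x hx => by
    obtain ⟨a, ha, rfl⟩ := hmem x hx
    exact Subgroup.mem_map.2 ⟨_, Subgroup.Normal.conj_mem ‹O.Normal› a ha ⟨g, hg⟩, rfl⟩
  have hsq : ∀ x ∈ E, x * x = 1 := fun x hx => by
    obtain ⟨a, ha, rfl⟩ := hmem x hx
    exact congrArg Subtype.val ((pow_two a).symm.trans (hexp a ha))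
  -- the centraliser of `z` in `M` has order 192
  let S : Subgroup M := H.subgroupOf M
  have hindex : S.index ≤ 7 := by
    let f : M ⧸ S → {x : E // x ≠ 1} := fun q =>
      Quotient.liftOn' q (fun g => ⟨⟨(g : G) * z * (g : G)⁻¹, hnorm g g.2 z hz⟩, fun h =>
        F.z_ne (by simpa using congrArg Subtype.val h)⟩) fun g g' hgg => by
        have h := (F.mem_H _).1 (QuotientGroup.leftRel_apply.1 hgg : (g⁻¹ * g' : M) ∈ S)
        change (g : G)⁻¹ * g' * z = z * ((g : G)⁻¹ * g') at h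
        refine Subtype.ext (Subtype.ext ?_)
        calc (g : G) * z * (g : G)⁻¹ = (g : G) * (z * ((g : G)⁻¹ * g')) * (g' : G)⁻¹ := by group
          _ = _ := by rw [← h]; group
    have hf : Function.Injective f := by
      intro q q'
      induction q using Quotient.inductionOn' with
      | h g =>
        induction q' using Quotient.inductionOn' with
        | h g' =>
          intro h
          refine Quotient.sound' (QuotientGroup.leftRel_apply.2 ((F.mem_H _).2 ?_))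
          have h' : (g : G) * z * (g : G)⁻¹ = (g' : G) * z * (g' : G)⁻¹ :=
            congrArg (fun x => (x.1 : G)) h
          change (g : G)⁻¹ * g' * z = z * ((g : G)⁻¹ * g')
          calc (g : G)⁻¹ * g' * z = (g : G)⁻¹ * ((g' : G) * z * (g' : G)⁻¹) * g' := by group
            _ = z * ((g : G)⁻¹ * g') := by rw [← h']; group
    have hc := Nat.card_le_card_of_injective f hf
    have h7 : Nat.card {x : E // x ≠ 1} = 7 := by
      haveI := Fintype.ofFinite E
      rw [Nat.card_eq_fintype_card, Fintype.card_subtype_compl, Fintype.card_subtype_eq,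
        ← Nat.card_eq_fintype_card, hcardE]
    rw [h7] at hc
    exact hc
  have hS := Subgroup.card_mul_index S
  rw [hcardM] at hS
  have hSHM : Nat.card S = Nat.card (H ⊓ M : Subgroup G) := by
    rw [← Nat.card_congr (Subgroup.subgroupOfEquivOfLe (inf_le_right : H ⊓ M ≤ M)).toEquiv,
      Subgroup.inf_subgroupOf_right]
  have hdvd : Nat.card S ∣ 576 := by
    rw [hSHM, ← F.card]; exact Subgroup.card_dvd_of_le inf_le_left
  have h192 : Nat.card S = 192 := by
    have h1 : Nat.card S ∣ 192 := by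
      have := Nat.dvd_gcd hdvd (Dvd.intro _ hS); simpa using this
    have h2 : Nat.card S ≤ 192 := Nat.le_of_dvd (by norm_num) h1
    nlinarith
  -- the centraliser of `E` in `M`
  have hcent : ∀ g ∈ M, (∀ x ∈ E, g * x = x * g) → g ∈ E := by
    let C : Subgroup M := Subgroup.centralizer (O : Set M)
    haveI : IsSimpleGroup (M ⧸ O) := hsimp
    have hOC : O ≤ C := fun a ha => Subgroup.mem_centralizer_iff.2 fun b hb => hOc b hb a ha
    have hCn : (C.map (QuotientGroup.mk' O)).Normal :=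
      Subgroup.Normal.map inferInstance _ (QuotientGroup.mk'_surjective O)
    have hCle : C = O := by
      rcases hCn.eq_bot_or_eq_top with h | h
      · exact le_antisymm (fun x hx => (QuotientGroup.eq_one_iff x).1
          (Subgroup.mem_bot.1 (h ▸ Subgroup.mem_map_of_mem (QuotientGroup.mk' O) hx))) hOC
      · exfalso
        have hCtop : C = ⊤ := by
          rw [← Subgroup.comap_top (QuotientGroup.mk' O), ← h,
            Subgroup.comap_map_eq, QuotientGroup.ker_mk', sup_eq_left.2 hOC]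
        have hStop : S = ⊤ := by
          refine eq_top_iff.2 fun g _ => ?_
          obtain ⟨o, ho, e⟩ := hmem z hz
          have := Subgroup.mem_centralizer_iff.1 (hCtop ▸ Subgroup.mem_top g : g ∈ C) o ho
          exact (F.mem_H _).2 (by rw [← e]; exact congrArg Subtype.val this.symm)
        rw [hStop, Subgroup.card_top, hcardM] at h192
        omega
    intro g hg hx
    have hgC : (⟨g, hg⟩ : M) ∈ C := Subgroup.mem_centralizer_iff.2 fun o ho =>
      Subtype.ext (hx o (Subgroup.mem_map_of_mem M.subtype ho)).symm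
    rw [hCle] at hgC
    exact Subgroup.mem_map_of_mem M.subtype hgC
  exact ⟨⟨E, M, Subgroup.map_subtype_le O, hcardE, hcommE, hsq, hz, hnorm, hcent, hcardM,
    hSHM ▸ h192⟩, rfl⟩

namespace LocalData

variable {G : Type*} [Group G] {H : Subgroup G} {z : G}

theorem le_H (D : LocalData H z) (F : Frame H z) : D.E ≤ H := fun x hx =>
  (F.mem_H x).2 (D.comm_E x hx z D.mem_z)

/-- Three elements generating the subgroup of order eight. -/
theorem exists_basis (D : LocalData H z) (F : Frame H z) [Finite G] :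
    ∃ e d, e ∈ D.E ∧ d ∈ D.E ∧ (e ≠ 1 ∧ e ≠ z) ∧
      (d ≠ 1 ∧ d ≠ z ∧ d ≠ e ∧ d ≠ z * e) ∧
      ∀ x ∈ D.E, x ∈ ({1, z, e, z * e, d, z * d, e * d, z * (e * d)} : Set G) := by
  classical
  have pick : ∀ s : Finset G, s.card < 8 → ∃ x ∈ D.E, x ∉ s := by
    intro s hs
    by_contra h
    push_neg at h
    have : Nat.card D.E ≤ s.card := by
      rw [← Nat.card_eq_finsetCard]
      exact Nat.card_le_card_of_injective (fun x : D.E => (⟨x.1, h x.1 x.2⟩ : s))
        fun a b hab => Subtype.ext (congrArg (fun y : s => y.1) hab)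
    rw [D.card_E] at this
    omega
  obtain ⟨e, he, hne⟩ := pick {1, z} (lt_of_le_of_lt Finset.card_le_two (by norm_num))
  obtain ⟨d, hd, hnd⟩ := pick {1, z, e, z * e} (lt_of_le_of_lt Finset.card_le_four (by norm_num))
  simp only [Finset.mem_insert, Finset.mem_singleton, not_or] at hne hnd
  refine ⟨e, d, he, hd, hne, hnd, fun x hx => ?_⟩
  have hz := D.mem_z
  let f : Fin 2 × Fin 2 × Fin 2 → D.E := fun t =>
    ⟨z ^ (t.1 : ℕ) * (e ^ (t.2.1 : ℕ) * d ^ (t.2.2 : ℕ)),
      mul_mem (pow_mem hz _) (mul_mem (pow_mem he _) (pow_mem hd _))⟩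
  have z2 := D.sq_E z hz
  have e2 := D.sq_E e he
  have d2 := D.sq_E d hd
  have hker : ∀ i j k : Fin 2, z ^ (i : ℕ) * (e ^ (j : ℕ) * d ^ (k : ℕ)) = 1 →
      i = 0 ∧ j = 0 ∧ k = 0 := by
    intro i j k h
    fin_cases k <;> fin_cases j <;> fin_cases i <;> simp at h ⊢
    · exact F.z_ne h
    · exact hne.1 h
    · exact hne.2 ((inv_eq_of_mul_eq_one_right h).symm.trans (inv_eq_of_mul_eq_one_right z2))
    · exact hnd.1 h
    · exact hnd.2.1 ((inv_eq_of_mul_eq_one_right h).symm.trans (inv_eq_of_mul_eq_one_right z2))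
    · exact hnd.2.2.1 ((inv_eq_of_mul_eq_one_right h).symm.trans (inv_eq_of_mul_eq_one_right e2))
    · have h2 : z * e * d = 1 := by rw [mul_assoc]; exact h
      have hze : z * e * (z * e) = 1 := D.sq_E _ (mul_mem hz he)
      exact hnd.2.2.2 ((inv_eq_of_mul_eq_one_right h2).symm.trans (inv_eq_of_mul_eq_one_right hze))
  have hf : Function.Injective f := by
    rintro ⟨i, j, k⟩ ⟨i', j', k'⟩ h
    have h' := congrArg Subtype.val h
    simp only [f] at h'
    have pw : ∀ (u : G), u * u = 1 → ∀ a b : Fin 2,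
        u ^ (a : ℕ) * u ^ (b : ℕ) = u ^ ((a + b : Fin 2) : ℕ) := by
      intro u hu a b; fin_cases a <;> fin_cases b <;> simp [hu]
    have hprod : z ^ ((i + i' : Fin 2) : ℕ) * (e ^ ((j + j' : Fin 2) : ℕ) *
        d ^ ((k + k' : Fin 2) : ℕ)) = 1 := by
      have hs := D.sq_E _ (f (i', j', k')).2
      simp only [f] at hs
      rw [← pw z z2 i i', ← pw e e2 j j', ← pw d d2 k k']
      have c := fun a b (ha : a ∈ D.E) (hb : b ∈ D.E) => (show Commute a b from D.comm_E a ha b hb)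
      calc _ = z ^ (i : ℕ) * (e ^ (j : ℕ) * d ^ (k : ℕ)) *
            (z ^ (i' : ℕ) * (e ^ (j' : ℕ) * d ^ (k' : ℕ))) := by
            have hjk : ∀ u ∈ D.E, ∀ v ∈ D.E, ∀ w : G, u * (v * w) = v * (u * w) :=
              fun u hu v hv w => by rw [← mul_assoc, D.comm_E u hu v hv, mul_assoc]
            simp only [mul_assoc]
            rw [hjk _ (pow_mem hd (k : ℕ)) _ (pow_mem hz (i' : ℕ)),
              hjk _ (pow_mem he (j : ℕ)) _ (pow_mem hz (i' : ℕ)),
              hjk _ (pow_mem hd (k : ℕ)) _ (pow_mem he (j' : ℕ))]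
        _ = 1 := by rw [h']; exact hs
    obtain ⟨a, b, c⟩ := hker _ _ _ hprod
    have key : ∀ a b : Fin 2, a + b = 0 → a = b := by decide
    rw [key _ _ a, key _ _ b, key _ _ c]
  have hbij : Function.Bijective f := by
    haveI := Fintype.ofFinite D.E
    rw [Fintype.bijective_iff_injective_and_card]
    refine ⟨hf, ?_⟩
    rw [← Nat.card_eq_fintype_card, ← Nat.card_eq_fintype_card, D.card_E]
    simp
  obtain ⟨⟨i, j, k⟩, h⟩ := hbij.2 ⟨x, hx⟩
  have h' := congrArg Subtype.val h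
  simp only [f] at h'
  rw [← h']
  fin_cases i <;> fin_cases j <;> fin_cases k <;> simp [mul_assoc]

end LocalData

end CfsgLib.Recog.GTwoThree
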