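import Mathlib
import Cfsg.Agent.Lib.Recog.GTwoThree.Position

/-!
The normalised model: the centraliser by codes, the subgroup of order eight in standard position
(owner: helper23).
-/

set_option autoImplicit false
set_option maxRecDepth 100000

namespace CfsgLib.Recog.GTwoThree

/-- The local subgroup seen in the model. -/
structure Local {G : Type*} [Group G] {z : G} {ε : ℕ} (μ : Model z ε) where
  M : Subgroup G
  card : Nat.card M = 1344
  val_mem : ∀ x ∈ e0, μ.val x ∈ M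
  norm : ∀ g ∈ M, ∀ x ∈ e0, ∃ y ∈ e0, g * μ.val x * g⁻¹ = μ.val y
  cent : ∀ g ∈ M, (∀ x ∈ e0, g * μ.val x = μ.val x * g) → ∃ x ∈ e0, μ.val x = g

theorem involution_facts : (∀ a : Fin 24, sTau a.val 0 3 = 3 ∧ (sMul a.val a.val = 3 →
      a.val = 3 ∨ a.val = 15)) ∧
    (∀ x : Fin 24, sTau 3 0 x.val = x.val) ∧
    (∀ t ∈ turns, t.1 < 24 ∧ t.2 < 2) ∧
    (∀ a : Fin 24, ∀ b : Fin 24, sTau a.val 1 b.val =
      sMul (sMul a.val (sD b.val)) (sInv a.val)) ∧
    (code 3 15 0 = 174 ∧ code 3 3 0 = 150 ∧ code 15 15 0 = 150 ∧ cA 174 = 3 ∧ cB 174 = 15 ∧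
      cD 174 = 0) := by decide +kernel

namespace Frame

variable {G : Type*} [Group G] {H : Subgroup G} {z : G} (F : Frame H z)

/-- The quaternion product in the frame, as a subgroup. -/
def quat : Subgroup G where
  carrier := {g | ∃ a ∈ q8, ∃ b ∈ q8, g = F.p a * F.r b}
  one_mem' := ⟨3, by decide, 3, by decide, by rw [F.p_one, F.r_one, mul_one]⟩
  mul_mem' := by
    rintro _ _ ⟨a, ha, b, hb, rfl⟩ ⟨c, hc, d, hd, rfl⟩
    obtain ⟨la, _, _, ma⟩ := q8_facts.2.1 a ha
    obtain ⟨lb, _, _, mb⟩ := q8_facts.2.1 b hb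
    exact ⟨_, (ma c hc).1, _, (mb d hd).1,
      F.pr_mul la lb (q8_facts.2.1 c hc).1 (q8_facts.2.1 d hd).1⟩
  inv_mem' := by
    rintro _ ⟨a, ha, b, hb, rfl⟩
    obtain ⟨la, ia, -, -⟩ := q8_facts.2.1 a ha
    obtain ⟨lb, ib, -, -⟩ := q8_facts.2.1 b hb
    refine ⟨_, ia, _, ib, ?_⟩
    rw [(F.pr_inv la).1, (F.pr_inv lb).2, mul_inv_rev]
    have := (F.comm (sInv a) (sInv b) (sInv_lt la) (sInv_lt lb)).symm
    rwa [(F.pr_inv la).1, (F.pr_inv lb).2] at this

theorem mem_quat {g : G} : g ∈ F.quat ↔ ∃ a ∈ q8, ∃ b ∈ q8, g = F.p a * F.r b := Iff.rfl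

theorem quat_le : F.quat ≤ H := fun g hg => by
  obtain ⟨a, ha, b, hb, rfl⟩ := hg
  exact F.K_le (mul_mem (F.p_mem (q8_facts.2.1 a ha).1) (F.r_mem (q8_facts.2.1 b hb).1))

theorem quat_normal : H ≤ Subgroup.normalizer F.quat := by
  refine Subgroup.le_normalizer_iff.2 ?_
  rintro h hh _ ⟨x, hx, y, hy, rfl⟩
  obtain ⟨a, ha, d, hd, hp⟩ := F.p_tau hh
  obtain ⟨b, hb, e, he, hr⟩ := F.r_tau hh
  exact ⟨_, tau_q8 ⟨a, ha⟩ ⟨d, hd⟩ x hx, _, tau_q8 ⟨b, hb⟩ ⟨e, he⟩ y hy,
    F.conj_pr hp hr (q8_facts.2.1 x hx).1 (q8_facts.2.1 y hy).1⟩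

theorem pr_one {a b : ℕ} (ha : a < 24) (hb : b < 24) (h : F.p a * F.r b = 1) :
    a = 3 ∧ b = 3 ∨ a = 15 ∧ b = 15 := by
  rcases F.pr_eq ha hb (c := 3) (e := 3) (by norm_num) (by norm_num)
      (by rw [h, F.p_one, F.r_one, mul_one]) with h' | h'
  · exact Or.inl h'
  · exact Or.inr h'

theorem quat_pgroup : IsPGroup 2 F.quat := by
  rintro ⟨g, a, ha, b, hb, rfl⟩
  refine ⟨2, Subtype.ext ?_⟩
  obtain ⟨la, _, a4, -⟩ := q8_facts.2.1 a ha
  obtain ⟨lb, _, b4, -⟩ := q8_facts.2.1 b hb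
  show (F.p a * F.r b) ^ (2 ^ 2) = 1
  rw [show (2 : ℕ) ^ 2 = 2 * 2 from rfl, pow_mul, pow_two, pow_two, F.pr_mul la lb la lb,
    F.pr_mul (sMul_lt la la) (sMul_lt lb lb) (sMul_lt la la) (sMul_lt lb lb), a4, b4, F.p_one,
    F.r_one, mul_one]

theorem pr_pow {a b : ℕ} (ha : a < 24) (hb : b < 24) :
    (F.p a * F.r b) ^ 128 = F.p (sq7 a) * F.r (sq7 b) ∧ sq7 a < 24 ∧ sq7 b < 24 := by
  have key : ∀ n a b, a < 24 → b < 24 →
      (F.p a * F.r b) ^ (2 ^ n) = F.p ((List.range n).foldl (fun x _ => sMul x x) a) *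
        F.r ((List.range n).foldl (fun x _ => sMul x x) b) ∧
      (List.range n).foldl (fun x _ => sMul x x) a < 24 ∧
      (List.range n).foldl (fun x _ => sMul x x) b < 24 := by
    intro n
    induction n with
    | zero => intro a b ha hb; exact ⟨by simp, ha, hb⟩
    | succ n ih =>
      intro a b ha hb
      obtain ⟨h, la, lb⟩ := ih a b ha hb
      rw [List.range_succ, List.foldl_append, List.foldl_append]
      refine ⟨?_, sMul_lt la la, sMul_lt lb lb⟩
      rw [pow_succ, pow_mul, h, pow_two, F.pr_mul la lb la lb]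
      rfl
  exact key 7 a b ha hb

theorem exists_not_mem [Finite G] : ∃ h ∈ H, h ∉ F.K := by
  by_contra hne
  push_neg at hne
  have h : Nat.card H ≤ 288 := by
    let f : Fin 12 × Fin 24 → G := fun x => F.p x.1 * F.r x.2
    have hsub : ∀ g : H, ∃ x, f x = g := by
      rintro ⟨g, hg⟩
      obtain ⟨a, ha, b, hb, rfl⟩ := (F.mem_K g).1 (hne g hg)
      by_cases h12 : a < 12
      · exact ⟨(⟨a, h12⟩, ⟨b, hb⟩), rfl⟩
      · refine ⟨(⟨a - 12, by omega⟩, ⟨sNeg b, sNeg_lt hb⟩), ?_⟩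
        show F.p (a - 12) * F.r (sNeg b) = _
        rw [show a - 12 = sNeg a by simp [sNeg, h12]]; exact F.pr_neg ha hb
    choose g hg using hsub
    have := Nat.card_le_card_of_injective g fun u v h => Subtype.ext (by rw [← hg u, ← hg v, h])
    simpa using this
  rw [F.card] at h
  omega

end Frame

section Setup

variable {G : Type*} [Group G] [Finite G] {H : Subgroup G} {z : G}

theorem exists_sylow (F : Frame H z) (D : LocalData H z) :
    ∃ T : Subgroup G, T ≤ H ∧ T ≤ D.M ∧ Nat.card T = 64 ∧ D.E ≤ T ∧ F.quat ≤ T := by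
  haveI : Fact (Nat.Prime 2) := ⟨Nat.prime_two⟩
  obtain ⟨T0, hT0⟩ := Sylow.exists_subgroup_card_pow_prime (G := (H ⊓ D.M : Subgroup G)) 2 (n := 6)
    (by rw [D.card_HM]; norm_num)
  set T := T0.map (H ⊓ D.M).subtype with hT
  have hTle : T ≤ H ⊓ D.M := Subgroup.map_subtype_le T0
  have hcard : Nat.card T = 64 := by
    rw [hT, ← Nat.card_congr (Subgroup.equivMapOfInjective T0 _
      (H ⊓ D.M).subtype_injective).toEquiv, hT0]
    norm_num
  have hTp : IsPGroup 2 T := IsPGroup.of_card (n := 6) (by rw [hcard]; norm_num)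
  have absorb : ∀ N : Subgroup G, N ≤ H → IsPGroup 2 N → T ≤ Subgroup.normalizer N → N ≤ T := by
    intro N hN hNp hTN
    obtain ⟨k, hk⟩ := (IsPGroup.to_sup_of_normal_left' hNp hTp hTN).exists_card_eq
    have hdvd : Nat.card (N ⊔ T : Subgroup G) ∣ 576 :=
      F.card ▸ Subgroup.card_dvd_of_le (sup_le hN (hTle.trans inf_le_left))
    rw [hk] at hdvd
    have hk6 : k ≤ 6 := by
      by_contra hlt
      have : 2 ^ 7 ∣ 576 := (pow_dvd_pow 2 (by omega)).trans hdvd
      norm_num at this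
    have hle : Nat.card (N ⊔ T : Subgroup G) ≤ Nat.card T := by
      rw [hk, hcard]; exact (Nat.pow_le_pow_right (by norm_num) hk6).trans (by norm_num)
    exact (Subgroup.eq_of_le_of_card_ge (le_sup_right : T ≤ N ⊔ T) hle).symm ▸ le_sup_left
  refine ⟨T, hTle.trans inf_le_left, hTle.trans inf_le_right, hcard,
    absorb _ (D.le_H F) (IsPGroup.of_card (n := 3) (by rw [D.card_E]; norm_num)) ?_,
    absorb _ F.quat_le F.quat_pgroup ((hTle.trans inf_le_left).trans F.quat_normal)⟩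
  exact Subgroup.le_normalizer_iff.2 fun g hg x hx => D.norm g (hTle hg).2 x hx

/-- Some element of the centraliser induces an outer automorphism. -/
theorem no_central (F : Frame H z) (D : LocalData H z) {c : G} (hc : c ∈ H) (hcK : c ∉ F.K)
    (hcc : ∀ k ∈ F.K, c * k = k * c) : False := by
  classical
  obtain ⟨T, hTH, hTM, hT64, hET, -⟩ := exists_sylow F D
  have hc2K : c * c ∈ F.K := F.two c c hc hc hcK hcK
  have hc2 : c * c = 1 ∨ c * c = z := by
    obtain ⟨a, ha, b, hb, e⟩ := (F.mem_K _).1 hc2K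
    have hcom : ∀ k ∈ F.K, c * c * k = k * (c * c) := fun k hk => by
      rw [mul_assoc, hcc k hk, ← mul_assoc, hcc k hk, mul_assoc]
    have hu : ∀ v : Fin 24, code (sMul a v) b 0 = code (sMul v a) b 0 := fun v => by
      refine F.code_eq_of_pr (sMul_lt ha v.isLt) hb (sMul_lt v.isLt ha) hb ?_
      have h := hcom _ (F.p_mem v.isLt)
      rw [e] at h
      rw [F.p_mul _ _ ha v.isLt, F.p_mul _ _ v.isLt ha]
      calc F.p a * F.p v * F.r b = F.p a * (F.p v * F.r b) := by group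
        _ = F.p a * (F.r b * F.p v) := by rw [F.comm v b v.isLt hb]
        _ = F.p a * F.r b * F.p v := by group
        _ = F.p v * (F.p a * F.r b) := h
        _ = _ := by group
    have hv : ∀ v : Fin 24, code a (sMul b v) 0 = code a (sMul v b) 0 := fun v => by
      refine F.code_eq_of_pr ha (sMul_lt hb v.isLt) ha (sMul_lt v.isLt hb) ?_
      have h := hcom _ (F.r_mem v.isLt)
      rw [e] at h
      rw [F.r_mul _ _ hb v.isLt, F.r_mul _ _ v.isLt hb]
      calc F.p a * (F.r b * F.r v) = F.p a * F.r b * F.r v := by group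
        _ = F.r v * (F.p a * F.r b) := h
        _ = F.r v * F.p a * F.r b := by group
        _ = F.p a * (F.r v * F.r b) := by rw [← F.comm a v ha v.isLt]; group
    have kc : ∀ a b : Fin 24,
        ((∀ v ∈ ([6, 4] : List ℕ), code (sMul a v) b 0 = code (sMul v a) b 0) →
          a.val = 3 ∨ a.val = 15) ∧
        ((∀ v ∈ ([6, 4] : List ℕ), code a (sMul b v) 0 = code a (sMul v b) 0) →
          b.val = 3 ∨ b.val = 15) := by decide +kernel
    obtain ⟨k1, k2⟩ := kc ⟨a, ha⟩ ⟨b, hb⟩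
    have m64 : ∀ v ∈ ([6, 4] : List ℕ), v < 24 := by decide
    have ea := k1 fun v hv' => hu ⟨v, m64 v hv'⟩
    have eb := k2 fun v hv' => hv ⟨v, m64 v hv'⟩
    rw [e]
    rcases ea with ea | ea <;> rcases eb with eb | eb <;> simp only at ea eb <;> rw [ea, eb]
    · left; rw [F.p_one, F.r_one, mul_one]
    · right; rw [F.p_one, F.r_z, one_mul]
    · right; rw [F.p_z, F.r_one, mul_one]
    · left; rw [F.p_z, F.r_z, F.z_sq]
  have hc128 : c ^ 128 = 1 := by
    rw [show (128 : ℕ) = 2 * (2 * 32) from rfl, pow_mul, pow_two, pow_mul]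
    rcases hc2 with h | h <;> rw [h]
    · simp
    · rw [pow_two, F.z_sq, one_pow]
  -- every element of `T` is in the quaternion product times a power of `c`
  have hdec : ∀ t ∈ T, ∃ k ∈ F.quat, t = k ∨ t = k * c := by
    intro t ht
    have ht128 : t ^ 128 = 1 := by
      have h : (⟨t, ht⟩ : T) ^ Nat.card T = 1 := pow_card_eq_one'
      rw [hT64] at h
      have := congrArg Subtype.val h
      rw [show (128 : ℕ) = 64 * 2 from rfl, pow_mul]
      simp only [Subgroup.coe_pow, Subgroup.coe_one] at this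
      rw [this, one_pow]
    have step : ∀ k ∈ F.K, k ^ 128 = 1 → k ∈ F.quat := by
      intro k hk hk1
      obtain ⟨a, ha, b, hb, rfl⟩ := (F.mem_K k).1 hk
      obtain ⟨e, la, lb⟩ := F.pr_pow ha hb
      rw [e] at hk1
      obtain ⟨ua, ub⟩ | ⟨ua, ub⟩ := F.pr_one la lb hk1
      · exact ⟨a, q8_facts.1 ⟨a, ha⟩ (Or.inl ua), b, q8_facts.1 ⟨b, hb⟩ (Or.inl ub), rfl⟩
      · exact ⟨a, q8_facts.1 ⟨a, ha⟩ (Or.inr ua), b, q8_facts.1 ⟨b, hb⟩ (Or.inr ub), rfl⟩
    rcases F.coset hc hcK (hTH ht) with h | ⟨k, hk, rfl⟩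
    · exact ⟨t, step t h ht128, Or.inl rfl⟩
    · refine ⟨k, step k hk ?_, Or.inr rfl⟩
      rw [Commute.mul_pow (show Commute k c from (hcc k hk).symm) 128, hc128, mul_one] at ht128
      exact ht128
  -- commutators in `T` lie in the centre
  have hcomm : ∀ t ∈ T, ∀ x ∈ T, t * x * t⁻¹ = x ∨ t * x * t⁻¹ = z * x := by
    have base : ∀ k ∈ F.quat, ∀ l ∈ F.quat, k * l = l * k ∨ k * l = z * (l * k) := by
      rintro _ ⟨a, ha, b, hb, rfl⟩ _ ⟨c', hc', d, hd, rfl⟩
      obtain ⟨la, _, _, ma⟩ := q8_facts.2.1 a ha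
      obtain ⟨lb, _, _, mb⟩ := q8_facts.2.1 b hb
      obtain ⟨lc, _, -, -⟩ := q8_facts.2.1 c' hc'
      obtain ⟨ld, _, -, -⟩ := q8_facts.2.1 d hd
      rw [F.pr_mul la lb lc ld, F.pr_mul lc ld la lb]
      have hk : ∀ x y : Fin 24, (sMul x (sInv y) = 3 → x.val = y.val) ∧
          (sMul x (sInv y) = 15 → x.val = sNeg y.val) := by decide +kernel
      have hz : ∀ u v, u < 24 → v < 24 → F.p (sNeg u) * F.r v = z * (F.p u * F.r v) := by
        intro u v hu hv
        rw [← (center_facts.2 ⟨u, hu⟩).2.1, F.p_mul _ _ (by norm_num) hu, F.p_z, mul_assoc]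
      have hz' : ∀ u v, u < 24 → v < 24 → F.p u * F.r (sNeg v) = z * (F.p u * F.r v) := by
        intro u v hu hv
        rw [← (center_facts.2 ⟨v, hv⟩).2.1, F.r_mul _ _ (by norm_num) hv, ← mul_assoc,
          F.comm u 15 hu (by norm_num), F.r_z, mul_assoc]
      obtain ⟨k1, k1'⟩ := hk ⟨_, sMul_lt la lc⟩ ⟨_, sMul_lt lc la⟩
      obtain ⟨k2, k2'⟩ := hk ⟨_, sMul_lt lb ld⟩ ⟨_, sMul_lt ld lb⟩
      dsimp only at k1 k1' k2 k2'
      rcases (ma c' hc').2 with u | u <;> rcases (mb d hd).2 with v | v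
      · left; rw [k1 u, k2 v]
      · right; rw [k1 u, k2' v, hz' _ _ (sMul_lt lc la) (sMul_lt ld lb)]
      · right; rw [k1' u, k2 v, hz _ _ (sMul_lt lc la) (sMul_lt ld lb)]
      · left; rw [k1' u, k2' v, F.pr_neg (sMul_lt lc la) (sMul_lt ld lb)]
    intro t ht x hx
    obtain ⟨k, hk, hkt⟩ := hdec t ht
    obtain ⟨l, hl, hlx⟩ := hdec x hx
    have quatK : ∀ u ∈ F.quat, u ∈ F.K := fun u hu => by
      obtain ⟨a, ha, b, hb, rfl⟩ := hu
      exact mul_mem (F.p_mem (q8_facts.2.1 a ha).1) (F.r_mem (q8_facts.2.1 b hb).1)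
    have hck : c * k = k * c := hcc k (quatK k hk)
    have hcl : c * l = l * c := hcc l (quatK l hl)
    have hkx : t * x * t⁻¹ = k * x * k⁻¹ := by
      rcases hkt with rfl | rfl
      · rfl
      · have hcx : c * x = x * c := by
          rcases hlx with rfl | rfl
          · exact hcl
          · rw [← mul_assoc, hcl]
        calc k * c * x * (k * c)⁻¹ = k * (c * x) * c⁻¹ * k⁻¹ := by group
          _ = _ := by rw [hcx]; group
    rw [hkx]
    have hkl : k * x * k⁻¹ = k * l * k⁻¹ * (l⁻¹ * x) := by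
      rcases hlx with rfl | rfl
      · group
      · calc k * (l * c) * k⁻¹ = k * l * (c * k⁻¹) := by group
          _ = k * l * (k⁻¹ * c) := by
            rw [(Commute.inv_right (show Commute c k from hck)).eq]
          _ = _ := by group
    rcases base k hk l hl with h | h
    · left; rw [hkl, h]; group
    · right; rw [hkl, h]; group
  obtain ⟨e, d, he, hd, -, -, hgen⟩ := D.exists_basis F
  let f : T → Bool × Bool := fun t =>
    (decide ((t : G) * e * (t : G)⁻¹ = e), decide ((t : G) * d * (t : G)⁻¹ = d))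
  have hfib : ∀ v, Nat.card {t : T // f t = v} ≤ 8 := by
    intro v
    by_cases hne : Nonempty {t : T // f t = v}
    · obtain ⟨t0⟩ := hne
      have hmem : ∀ t : {t : T // f t = v}, ((t0.1 : G))⁻¹ * (t.1 : G) ∈ D.E := by
        intro t
        have hf := t.2.trans t0.2.symm
        simp only [f, Prod.mk.injEq, decide_eq_decide] at hf
        have same : ∀ x ∈ T, ((t.1 : G) * x * (t.1 : G)⁻¹ = x ↔
            (t0.1 : G) * x * (t0.1 : G)⁻¹ = x) →
            (t.1 : G) * x * (t.1 : G)⁻¹ = (t0.1 : G) * x * (t0.1 : G)⁻¹ := by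
          intro x hx hiff
          rcases hcomm _ t.1.2 x hx with h1 | h1 <;> rcases hcomm _ t0.1.2 x hx with h0 | h0
          · rw [h1, h0]
          · rw [h1, hiff.1 h1]
          · rw [hiff.2 h0, h0]
          · rw [h1, h0]
        refine D.cent _ (mul_mem (inv_mem (hTM t0.1.2)) (hTM t.1.2)) fun x hx => ?_
        have e1 := same e (hET he) hf.1
        have e2 := same d (hET hd) hf.2
        have hz1 : ∀ u ∈ H, u * z = z * u := fun u hu => (F.mem_H u).1 hu
        have ce : Commute ((t0.1 : G)⁻¹ * t.1) e := by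
          show _ = _
          calc (t0.1 : G)⁻¹ * t.1 * e = (t0.1 : G)⁻¹ * ((t.1 : G) * e * (t.1 : G)⁻¹) * t.1 := by
                group
            _ = e * ((t0.1 : G)⁻¹ * t.1) := by rw [e1]; group
        have cd : Commute ((t0.1 : G)⁻¹ * t.1) d := by
          show _ = _
          calc (t0.1 : G)⁻¹ * t.1 * d = (t0.1 : G)⁻¹ * ((t.1 : G) * d * (t.1 : G)⁻¹) * t.1 := by
                group
            _ = d * ((t0.1 : G)⁻¹ * t.1) := by rw [e2]; group
        have cz : Commute ((t0.1 : G)⁻¹ * t.1) z :=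
          hz1 _ (mul_mem (inv_mem (hTH t0.1.2)) (hTH t.1.2))
        have := hgen x hx
        simp only [Set.mem_insert_iff, Set.mem_singleton_iff] at this
        rcases this with rfl | rfl | rfl | rfl | rfl | rfl | rfl | rfl
        · exact Commute.one_right _
        · exact cz
        · exact ce
        · exact cz.mul_right ce
        · exact cd
        · exact cz.mul_right cd
        · exact ce.mul_right cd
        · exact cz.mul_right (ce.mul_right cd)
      rw [← D.card_E]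
      exact Nat.card_le_card_of_injective (fun t => (⟨_, hmem t⟩ : D.E)) fun u v h =>
        Subtype.ext (Subtype.ext (mul_left_cancel (congrArg Subtype.val h)))
    · haveI := not_nonempty_iff.1 hne
      simp
  have hle : Nat.card T ≤ 32 := by
    haveI := Fintype.ofFinite T
    rw [Nat.card_congr (Equiv.sigmaFiberEquiv f).symm, Nat.card_sigma]
    exact (Finset.sum_le_sum fun v _ => hfib v).trans (by simp)
  omega

end Setup

end CfsgLib.Recog.GTwoThree
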