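import Mathlib
import Cfsg.Agent.Lib.Recog.GTwoThree.Setup

/-!
Construction of the normalised model (owner: helper23).
-/

set_option autoImplicit false
set_option maxRecDepth 100000

namespace CfsgLib.Recog.GTwoThree

theorem split_facts : ∀ t ∈ turns, t.1 < 24 ∧ t.2 < 2 := by decide +kernel

theorem sD_tau : ∀ a : Fin 24, ∀ b : Fin 24,
    sMul (sMul (sInv a.val) (sTau a.val 1 b.val)) a.val = sD b.val := by decide +kernel

theorem neg_sTau : ∀ a : Fin 24, ∀ d : Fin 2, ∀ x : Fin 24,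
    sTau a.val d.val (sNeg x.val) = sNeg (sTau a.val d.val x.val) := by decide +kernel

theorem tau_zero_one : (∀ x : Fin 24, sTau 3 0 x.val = x.val) ∧ ∀ x : Fin 24, tw 1 x.val = sD x.val ∧ tw 0 x.val = x.val := by
  decide +kernel

theorem e0_code : ∀ x ∈ e0, code (cA x) (cB x) 0 = x ∧ cA x < 24 ∧ cB x < 24 := by decide +kernel

theorem order_two_code : ∀ a b : Fin 24, code (sMul a.val a.val) (sMul b.val b.val) 0 = 150 →
    sMul a.val a.val = sMul b.val b.val ∧ (sMul a.val a.val = 3 ∨ sMul a.val a.val = 15 →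
      (code a.val b.val 0 ≠ 150 → code a.val b.val 0 ≠ 174 → sMul a.val a.val = 15)) := by
  decide +kernel

theorem two_cases : ∀ a b : Fin 24, code (sMul a.val a.val) (sMul b.val b.val) 0 = 150 →
    code a.val b.val 0 ≠ 150 → code a.val b.val 0 ≠ 174 →
    sMul a.val a.val = 15 ∧ sMul b.val b.val = 15 := by decide +kernel

section

variable {G : Type*} [Group G] [Finite G] {H : Subgroup G} {z : G}

theorem e_le_K (F : Frame H z) (D : LocalData H z) : D.E ≤ F.K := by
  intro x hx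
  by_contra hxK
  have hxH := D.le_H F hx
  obtain ⟨T, hTH, hTM, -, hET, hQT⟩ := exists_sylow F D
  have inner : ∀ (q : ℕ → G), (∀ u < 24, q u ∈ F.K) → ∀ (a d : ℕ), a < 24 → d < 2 →
      (∀ u < 24, x * q u * x⁻¹ = q (sTau a d u)) →
      (∀ u ∈ q8, q (sTau a d u) = q u ∨ q (sTau a d u) = q (sNeg u)) →
      (∀ u v, u < 24 → v < 24 → q u = q v → u = v) → d = 0 := by
    intro q _ a d ha hd _ hq hinj
    by_contra hne
    obtain rfl : d = 1 := by omega
    refine inner_facts ⟨a, ha⟩ fun u hu => ?_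
    have hu' := (q8_facts.2.1 u hu).1
    exact (hq u hu).imp (hinj _ _ (sTau_lt ha hu') hu') (hinj _ _ (sTau_lt ha hu') (sNeg_lt hu'))
  obtain ⟨a, ha, d, hd, hp⟩ := F.p_tau hxH
  obtain ⟨b, hb, e, he, hr⟩ := F.r_tau hxH
  -- the commutator with an element of the quaternion product is in `E ∩ H_i`
  have comm : ∀ (k : G), k ∈ F.quat → k * x * k⁻¹ * x⁻¹ ∈ D.E := fun k hk =>
    D.E.mul_mem (D.norm k (hTM (hQT hk)) x hx) (D.E.inv_mem hx)
  have sq : ∀ w : Fin 24, sMul w.val w.val = 3 → w.val = 3 ∨ w.val = 15 := fun w =>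
    (involution_facts.1 w).2
  have mid : ∀ u v : Fin 24, (sMul u.val (sInv v.val) = 3 → u.val = v.val) ∧
      (sMul u.val (sInv v.val) = 15 → v.val = sNeg u.val) := by decide +kernel
  have hd0 : d = 0 := by
    refine inner F.p (fun u hu => F.p_mem hu) a d ha hd hp (fun u hu => ?_) F.p_inj
    have hu' := (q8_facts.2.1 u hu).1
    have hw : sMul u (sInv (sTau a d u)) < 24 := sMul_lt hu' (sInv_lt (sTau_lt ha hu'))
    have e1 : F.p u * x * (F.p u)⁻¹ * x⁻¹ = F.p (sMul u (sInv (sTau a d u))) := by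
      rw [F.p_mul _ _ hu' (sInv_lt (sTau_lt ha hu')), (F.pr_inv (sTau_lt ha hu')).1, ← hp u hu']
      group
    have h2 := D.sq_E _ (e1 ▸ comm (F.p u) ⟨u, hu, 3, by decide, by rw [F.r_one, mul_one]⟩)
    rw [← F.p_mul _ _ hw hw, ← F.p_one] at h2
    rcases sq ⟨_, hw⟩ (F.p_inj _ _ (sMul_lt hw hw) (by norm_num) h2) with h | h
    · exact Or.inl (congrArg F.p ((mid ⟨u, hu'⟩ ⟨_, sTau_lt ha hu'⟩).1 h).symm)
    · exact Or.inr (congrArg F.p ((mid ⟨u, hu'⟩ ⟨_, sTau_lt ha hu'⟩).2 h))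
  have he0 : e = 0 := by
    refine inner F.r (fun u hu => F.r_mem hu) b e hb he hr (fun u hu => ?_) F.r_inj
    have hu' := (q8_facts.2.1 u hu).1
    have hw : sMul u (sInv (sTau b e u)) < 24 := sMul_lt hu' (sInv_lt (sTau_lt hb hu'))
    have e1 : F.r u * x * (F.r u)⁻¹ * x⁻¹ = F.r (sMul u (sInv (sTau b e u))) := by
      rw [F.r_mul _ _ hu' (sInv_lt (sTau_lt hb hu')), (F.pr_inv (sTau_lt hb hu')).2, ← hr u hu']
      group
    have h2 := D.sq_E _ (e1 ▸ comm (F.r u) ⟨3, by decide, u, hu, by rw [F.p_one, one_mul]⟩)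
    rw [← F.r_mul _ _ hw hw, ← F.r_one] at h2
    rcases sq ⟨_, hw⟩ (F.r_inj _ _ (sMul_lt hw hw) (by norm_num) h2) with h | h
    · exact Or.inl (congrArg F.r ((mid ⟨u, hu'⟩ ⟨_, sTau_lt hb hu'⟩).1 h).symm)
    · exact Or.inr (congrArg F.r ((mid ⟨u, hu'⟩ ⟨_, sTau_lt hb hu'⟩).2 h))
  subst hd0 he0
  obtain ⟨c, hc, hcK, hcc⟩ := F.exists_central hxH hxK ha hb hp hr
  exact no_central F D hc hcK hcc

theorem exists_position (F : Frame H z) (D : LocalData H z) :
    ∃ F' : Frame H z, ∀ g, g ∈ D.E ↔ ∃ x ∈ e0, g = F'.p (cA x) * F'.r (cB x) := by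
  obtain ⟨e, d, he, hd, hne, hnd, hgen⟩ := D.exists_basis F
  have form : ∀ g ∈ D.E, g ≠ 1 → g ≠ z → ∃ a < 12, ∃ b < 24,
      g = F.p a * F.r b ∧ sMul a a = 15 ∧ sMul b b = 15 := by
    intro g hg h1 hz'
    obtain ⟨a, ha, b, hb, rfl⟩ := (F.mem_K g).1 (e_le_K F D hg)
    have h2 := D.sq_E _ hg
    rw [F.pr_mul ha hb ha hb] at h2
    have h150 : code (sMul a a) (sMul b b) 0 = 150 := by
      rw [F.code_eq_of_pr (sMul_lt ha ha) (sMul_lt hb hb) (c := 3) (e := 3) (by norm_num)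
        (by norm_num) (by rw [h2, F.p_one, F.r_one, mul_one])]
      exact involution_facts.2.2.2.2.2.1
    have n150 : code a b 0 ≠ 150 := fun h => h1 (by
      rw [← F.pr_code ha hb (d := 0) (by norm_num), h, show cA 150 = 3 from rfl,
        show cB 150 = 3 from rfl, F.p_one, F.r_one, mul_one])
    have n174 : code a b 0 ≠ 174 := fun h => hz' (by
      rw [← F.pr_code ha hb (d := 0) (by norm_num), h, show cA 174 = 3 from rfl,
        show cB 174 = 15 from rfl, F.p_one, F.r_z, one_mul])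
    obtain ⟨sa, sb⟩ := two_cases ⟨a, ha⟩ ⟨b, hb⟩ h150 n150 n174
    by_cases h12 : a < 12
    · exact ⟨a, h12, b, hb, rfl, sa, sb⟩
    · have hn : ∀ u : Fin 24, sMul (sNeg u.val) (sNeg u.val) = sMul u.val u.val := by decide +kernel
      refine ⟨sNeg a, by simp [sNeg, h12]; omega, sNeg b, sNeg_lt hb, (F.pr_neg ha hb).symm, ?_, ?_⟩
      · exact (hn ⟨a, ha⟩).trans sa
      · exact (hn ⟨b, hb⟩).trans sb
  obtain ⟨a, ha12, b, hb, rfl, sa, sb⟩ := form e he hne.1 hne.2
  obtain ⟨c, hc12, g, hg, rfl, sc, sg⟩ := form d hd hnd.1 hnd.2.1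
  have ha : a < 24 := by omega
  have hc : c < 24 := by omega
  have hcm : code (sMul a c) (sMul b g) 0 = code (sMul c a) (sMul g b) 0 := by
    refine F.code_eq_of_pr (sMul_lt ha hc) (sMul_lt hb hg) (sMul_lt hc ha) (sMul_lt hg hb) ?_
    rw [← F.pr_mul ha hb hc hg, ← F.pr_mul hc hg ha hb]
    exact D.comm_E _ he _ hd
  have hind : ¬ (a = c ∧ (b = g ∨ b = sNeg g)) := by
    rintro ⟨rfl, rfl | hb'⟩
    · exact hnd.2.2.1 rfl
    · refine hnd.2.2.2 ?_
      have h2 : sNeg b = g := by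
        rw [hb']
        have : ∀ u : Fin 24, sNeg (sNeg u.val) = u.val := by decide +kernel
        exact this ⟨g, hg⟩
      rw [← h2, ← (center_facts.2 ⟨b, hb⟩).2.1, F.r_mul _ _ (by norm_num) hb, ← mul_assoc,
        F.comm a 15 ha (by norm_num), F.r_z, mul_assoc]
  have hp := plane_facts
  simp only [List.all_eq_true, List.mem_range] at hp
  have h := hp a ha12 b hb c hc12 g hg
  simp only [Bool.or_eq_true, Bool.not_eq_true', List.any_eq_true, Bool.and_eq_true] at h
  rcases h with h | ⟨t, ht, t1, t2⟩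
  · exfalso
    simp [sa, sb, sc, sg, hcm] at h
    refine hind ⟨h.1, ?_⟩
    by_cases hbg : b = g
    · exact Or.inl hbg
    · refine Or.inr (h.2 ?_)
      cases hq : Nat.beq b g with
      | false => rfl
      | true => exact absurd (Nat.eq_of_beq_eq_true hq) hbg
  · obtain ⟨ht1, ht2⟩ := split_facts t ht
    let F' := F.twist 3 0 t.1 t.2 (by norm_num) (by norm_num) ht1 ht2
    have hS : ∀ x ∈ e0, F'.p (cA x) * F'.r (cB x) = F.p (cA x) * F.r (sTau t.1 t.2 (cB x)) := by
      intro x hx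
      show F.p (sTau 3 0 (cA x)) * _ = _
      rw [show sTau 3 0 (cA x) = cA x from tau_zero_one.1 ⟨cA x, (e0_code x hx).2.1⟩]
      rfl
    have mk : ∀ u v, u < 24 → v < 24 → turned t u v = true →
        ∃ x ∈ e0, F.p u * F.r v = F'.p (cA x) * F'.r (cB x) := by
      intro u v hu hv htu
      simp only [turned, List.any_eq_true] at htu
      obtain ⟨x, hx, hbeq⟩ := htu
      have hcode := Nat.eq_of_beq_eq_true hbeq
      refine ⟨x, hx, ?_⟩
      obtain ⟨-, la, lb⟩ := e0_code x hx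
      rw [hS x hx, ← F.pr_code la (sTau_lt ht1 lb) (d := 0) (by norm_num), hcode,
        F.pr_code hu hv (by norm_num)]
    have closed : ∀ g g' : G, (∃ x ∈ e0, g = F'.p (cA x) * F'.r (cB x)) →
        (∃ x ∈ e0, g' = F'.p (cA x) * F'.r (cB x)) →
        ∃ x ∈ e0, g * g' = F'.p (cA x) * F'.r (cB x) := by
      rintro _ _ ⟨x, hx, rfl⟩ ⟨y, hy, rfl⟩
      obtain ⟨-, la, lb⟩ := e0_code x hx
      obtain ⟨-, lc, ld⟩ := e0_code y hy
      refine ⟨_, e0_facts.2 x hx y hy, ?_⟩
      rw [F'.pr_mul la lb lc ld, F'.pr_code (sMul_lt la lc) (sMul_lt lb ld) (by norm_num)]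
    have se := mk a b ha hb t1
    have sd := mk c g hc hg t2
    have s1 : ∃ x ∈ e0, (1 : G) = F'.p (cA x) * F'.r (cB x) :=
      ⟨150, by decide, by rw [show cA 150 = 3 from rfl, show cB 150 = 3 from rfl, F'.p_one,
        F'.r_one, mul_one]⟩
    have sz : ∃ x ∈ e0, z = F'.p (cA x) * F'.r (cB x) :=
      ⟨174, by decide, by rw [show cA 174 = 3 from rfl, show cB 174 = 15 from rfl, F'.p_one,
        F'.r_z, one_mul]⟩
    have hsub : ∀ u ∈ D.E, ∃ x ∈ e0, u = F'.p (cA x) * F'.r (cB x) := by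
      intro u hu
      have := hgen u hu
      simp only [Set.mem_insert_iff, Set.mem_singleton_iff] at this
      rcases this with rfl | rfl | rfl | rfl | rfl | rfl | rfl | rfl
      · exact s1
      · exact sz
      · exact se
      · exact closed _ _ sz se
      · exact sd
      · exact closed _ _ sz sd
      · exact closed _ _ se sd
      · exact closed _ _ sz (closed _ _ se sd)
    refine ⟨F', fun u => ⟨hsub u, ?_⟩⟩
    -- a counting argument gives the converse
    let f : D.E → {x // x ∈ e0} := fun u =>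
      ⟨(hsub u.1 u.2).choose, (hsub u.1 u.2).choose_spec.1⟩
    have hf : Function.Injective f := fun u v h => Subtype.ext (by
      rw [(hsub u.1 u.2).choose_spec.2, (hsub v.1 v.2).choose_spec.2,
        show (hsub u.1 u.2).choose = (hsub v.1 v.2).choose from congrArg Subtype.val h])
    have hb' : Function.Bijective f := by
      haveI := Fintype.ofFinite D.E
      rw [Fintype.bijective_iff_injective_and_card]
      refine ⟨hf, ?_⟩
      rw [← Nat.card_eq_fintype_card, D.card_E]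
      decide
    rintro ⟨x, hx, rfl⟩
    obtain ⟨u, hu⟩ := hb'.2 ⟨x, hx⟩
    rw [← show (hsub u.1 u.2).choose = x from congrArg Subtype.val hu,
      ← (hsub u.1 u.2).choose_spec.2]
    exact u.2

theorem exists_setup (F₀ : Frame H z) (D : LocalData H z) :
    ∃ ε < 2, ∃ μ : Model z ε, ∃ L : Local μ, L.M = D.M := by
  obtain ⟨F, hE⟩ := exists_position F₀ D
  obtain ⟨T, hTH, hTM, hT64, -, -⟩ := exists_sylow F D
  obtain ⟨t, htT, htK⟩ : ∃ t ∈ T, t ∉ F.K := by
    by_contra hne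
    push_neg at hne
    have h := Subgroup.card_dvd_of_le (fun t ht => hne t ht : T ≤ F.K)
    have hle : Nat.card F.K * 2 ≤ 576 := by
      have h2 : Nat.card F.K ≠ Nat.card H := by
        intro e
        obtain ⟨h', hh', hn⟩ := F.exists_not_mem
        exact hn ((Subgroup.eq_of_le_of_card_ge F.K_le e.ge).symm ▸ hh')
      have hd := Subgroup.card_dvd_of_le F.K_le
      rw [F.card] at hd h2
      obtain ⟨m, hm⟩ := hd
      rcases m with _ | _ | m
      · omega
      · omega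
      · nlinarith
    -- `F.K` is covered by 288 pairs
    have h288 : 288 ≤ Nat.card F.K := by
      let f : Fin 12 × Fin 24 → F.K := fun x => ⟨F.p x.1 * F.r x.2,
        mul_mem (F.p_mem (by omega)) (F.r_mem x.2.isLt)⟩
      have hf : Function.Injective f := by
        rintro ⟨a, b⟩ ⟨a', b'⟩ h
        have h' : F.p a * F.r b = F.p a' * F.r b' := congrArg Subtype.val h
        rcases F.pr_eq (by omega) b.isLt (by omega) b'.isLt h' with ⟨u, v⟩ | ⟨u, -⟩
        · exact Prod.ext (Fin.ext u) (Fin.ext v)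
        · exfalso
          have : a'.val < 12 := a'.isLt
          simp [sNeg, this] at u
          omega
      simpa using Nat.card_le_card_of_injective f hf
    rw [hT64, show Nat.card F.K = 288 by omega] at h
    norm_num at h
  obtain ⟨a, ha, d₁, hd₁, hp⟩ := F.p_tau (hTH htT)
  obtain ⟨b, hb, d₂, hd₂, hr⟩ := F.r_tau (hTH htT)
  have inner : ¬ (d₁ = 0 ∧ d₂ = 0) := by
    rintro ⟨rfl, rfl⟩
    obtain ⟨c, hc, hcK, hcc⟩ := F.exists_central (hTH htT) htK ha hb hp hr
    exact no_central F D hc hcK hcc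
  have hd : d₁ = 1 ∧ d₂ = 1 := by
    have key : ∀ x ∈ ([0, 350] : List ℕ),
        e0.any (fun y => Nat.beq (code (sTau a d₁ (cA x)) (sTau b d₂ (cB x)) 0) y) = true := by
      intro x hx
      have hx0 : x ∈ e0 := by revert x; decide
      obtain ⟨hcode, la, lb⟩ := e0_code x hx0
      obtain ⟨y, hy, e⟩ := (hE _).1 (D.norm t (hTM htT) _ ((hE _).2 ⟨x, hx0, rfl⟩))
      rw [F.conj_pr hp hr la lb] at e
      obtain ⟨hcy, ya, yb⟩ := e0_code y hy
      refine List.any_eq_true.2 ⟨y, hy, ?_⟩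
      rw [F.code_eq_of_pr (sTau_lt ha la) (sTau_lt hb lb) ya yb e, hcy]
      exact Nat.beq_refl y
    have ho := outer_facts
    simp only [List.all_eq_true, List.mem_range, Bool.and_eq_true, Bool.not_eq_true'] at ho
    obtain ⟨o1, o2⟩ := ho a ha b hb
    rcases Nat.lt_succ_iff.1 hd₁ |> Nat.le_one_iff_eq_zero_or_eq_one.1 with rfl | rfl <;>
      rcases Nat.lt_succ_iff.1 hd₂ |> Nat.le_one_iff_eq_zero_or_eq_one.1 with rfl | rfl
    · exact absurd ⟨rfl, rfl⟩ inner
    · exact absurd (List.all_eq_true.2 key) (by rw [o2]; simp)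
    · exact absurd (List.all_eq_true.2 key) (by rw [o1]; simp)
    · exact ⟨rfl, rfl⟩
  obtain ⟨rfl, rfl⟩ := hd
  set k := F.p a * F.r b with hk
  have hkK : k ∈ F.K := mul_mem (F.p_mem ha) (F.r_mem hb)
  set s := k⁻¹ * t with hs
  have hsH : s ∈ H := mul_mem (inv_mem (F.K_le hkK)) (hTH htT)
  have hsK : s ∉ F.K := fun h => htK (by simpa [hs] using mul_mem hkK h)
  have spr : ∀ x y, x < 24 → y < 24 →
      s * (F.p x * F.r y) * s⁻¹ = F.p (sD x) * F.r (sD y) := by
    intro x y hx hy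
    calc s * (F.p x * F.r y) * s⁻¹ = k⁻¹ * (t * (F.p x * F.r y) * t⁻¹) * k := by rw [hs]; group
      _ = F.p (sInv a) * F.r (sInv b) * (F.p (sTau a 1 x) * F.r (sTau b 1 y)) *
          (F.p a * F.r b) := by
          rw [F.conj_pr hp hr hx hy, hk]
          congr 2
          rw [(F.pr_inv ha).1, (F.pr_inv hb).2, mul_inv_rev]
          have := (F.comm (sInv a) (sInv b) (sInv_lt ha) (sInv_lt hb)).symm
          rwa [(F.pr_inv ha).1, (F.pr_inv hb).2] at this
      _ = _ := by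
          rw [F.pr_mul (sInv_lt ha) (sInv_lt hb) (sTau_lt ha hx) (sTau_lt hb hy),
            F.pr_mul (sMul_lt (sInv_lt ha) (sTau_lt ha hx)) (sMul_lt (sInv_lt hb) (sTau_lt hb hy))
              ha hb, sD_tau ⟨a, ha⟩ ⟨x, hx⟩, sD_tau ⟨b, hb⟩ ⟨y, hy⟩]
  have sz : Commute s z := (F.mem_H s).1 hsH
  have hs2 : ∃ ε < 2, s * s = z ^ ε := by
    obtain ⟨u, hu, v, hv, e⟩ := (F.mem_K _).1 (F.two s s hsH hsH hsK hsK)
    have hcom : ∀ x y, x < 24 → y < 24 →
        (F.p u * F.r v) * (F.p x * F.r y) = F.p x * F.r y * (F.p u * F.r v) := by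
      intro x y hx hy
      have h : s * s * (F.p x * F.r y) * (s * s)⁻¹ = F.p x * F.r y := by
        calc _ = s * (s * (F.p x * F.r y) * s⁻¹) * s⁻¹ := by group
          _ = F.p (sD (sD x)) * F.r (sD (sD y)) := by
              rw [spr x y hx hy, spr _ _ (sD_lt hx) (sD_lt hy)]
          _ = _ := by rw [sD_invol ⟨x, hx⟩, sD_invol ⟨y, hy⟩]
      rw [← e]
      calc s * s * (F.p x * F.r y) = s * s * (F.p x * F.r y) * (s * s)⁻¹ * (s * s) := by group
        _ = _ := by rw [h]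
    have kc : ∀ a b : Fin 24,
        (∀ x ∈ ([6, 4] : List ℕ), code (sMul a x) b 0 = code (sMul x a) b 0) →
        (∀ x ∈ ([6, 4] : List ℕ), code a (sMul b x) 0 = code a (sMul x b) 0) →
        (a.val = 3 ∨ a.val = 15) ∧ (b.val = 3 ∨ b.val = 15) := by decide +kernel
    have m64 : ∀ x ∈ ([6, 4] : List ℕ), x < 24 := by decide
    obtain ⟨cu, cv⟩ := kc ⟨u, hu⟩ ⟨v, hv⟩
      (fun x hx => by
        refine F.code_eq_of_pr (sMul_lt hu (m64 x hx)) hv (sMul_lt (m64 x hx) hu) hv ?_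
        have h := hcom x 3 (m64 x hx) (by norm_num)
        rwa [F.pr_mul hu hv (m64 x hx) (by norm_num), F.pr_mul (m64 x hx) (by norm_num) hu hv,
          (center_facts.2 ⟨v, hv⟩).2.2.2, (center_facts.2 ⟨v, hv⟩).2.2.1] at h)
      (fun x hx => by
        refine F.code_eq_of_pr hu (sMul_lt hv (m64 x hx)) hu (sMul_lt (m64 x hx) hv) ?_
        have h := hcom 3 x (by norm_num) (m64 x hx)
        rwa [F.pr_mul hu hv (by norm_num) (m64 x hx), F.pr_mul (by norm_num) (m64 x hx) hu hv,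
          (center_facts.2 ⟨u, hu⟩).2.2.2, (center_facts.2 ⟨u, hu⟩).2.2.1] at h)
    rcases cu with cu | cu <;> rcases cv with cv | cv <;> simp only at cu cv <;> subst cu cv
    · exact ⟨0, by norm_num, by rw [e, F.p_one, F.r_one, mul_one, pow_zero]⟩
    · exact ⟨1, by norm_num, by rw [e, F.p_one, F.r_z, one_mul, pow_one]⟩
    · exact ⟨1, by norm_num, by rw [e, F.p_z, F.r_one, mul_one, pow_one]⟩
    · exact ⟨0, by norm_num, by rw [e, F.p_z, F.r_z, F.z_sq, pow_zero]⟩
  obtain ⟨ε, hε, hs2⟩ := hs2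
  let val : ℕ → G := fun q => F.p (cA q) * F.r (cB q) * s ^ cD q
  have val_code : ∀ x y d, x < 24 → y < 24 → d < 2 →
      val (code x y d) = F.p x * F.r y * s ^ d := by
    intro x y d hx hy hd'
    show _ * _ * s ^ cD _ = _
    rw [F.pr_code hx hy hd', show cD (code x y d) = d from (code_facts ⟨x, hx⟩ ⟨y, hy⟩ ⟨d, hd'⟩).2.1]
  have ztw : ∀ x : ℕ, x < 24 → F.p (sNeg x) = F.p x * z := fun x hx => by
    rw [← (center_facts.2 ⟨x, hx⟩).2.1, (center_facts.2 ⟨x, hx⟩).1, F.p_mul _ _ hx (by norm_num),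
      F.p_z]
  have mul : ∀ p q, p < 576 → q < 576 → val (cMul ε p q) = val p * val q := by
    intro p q hp' hq'
    obtain ⟨la, lb, ld⟩ := dec_lt hp'
    obtain ⟨lc, le', lf⟩ := dec_lt hq'
    have la' : cA p < 24 := by omega
    have lc' : cA q < 24 := by omega
    have hA := sMul_lt la' (tw_lt (d := cD p) lc')
    have hB := sMul_lt lb (tw_lt (d := cD p) le')
    have move : s ^ cD p * (F.p (cA q) * F.r (cB q)) =
        F.p (tw (cD p) (cA q)) * F.r (tw (cD p) (cB q)) * s ^ cD p := by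
      rcases Nat.le_one_iff_eq_zero_or_eq_one.1 (Nat.lt_succ_iff.1 ld) with h | h <;> rw [h]
      · simp [tw]
      · rw [← spr _ _ lc' le' |>.trans (by rfl : F.p (sD (cA q)) * F.r (sD (cB q)) =
          F.p (tw 1 (cA q)) * F.r (tw 1 (cB q))), pow_one]
        group
    have rhs : val p * val q = F.p (sMul (cA p) (tw (cD p) (cA q))) *
        F.r (sMul (cB p) (tw (cD p) (cB q))) * (s ^ cD p * s ^ cD q) := by
      rw [← F.pr_mul la' lb (tw_lt lc') (tw_lt le')]
      show F.p (cA p) * F.r (cB p) * s ^ cD p * (F.p (cA q) * F.r (cB q) * s ^ cD q) = _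
      calc _ = F.p (cA p) * F.r (cB p) * (s ^ cD p * (F.p (cA q) * F.r (cB q))) * s ^ cD q := by
            group
        _ = _ := by rw [move]; group
    rw [rhs]
    unfold cMul
    dsimp only
    split_ifs with h
    · obtain ⟨h1, h2, h3⟩ := h
      rw [val_code _ _ _ (sNeg_lt hA) hB (by omega), ztw _ hA, h2, h3]
      subst h1
      have hzc : F.r (sMul (cB p) (tw 1 (cB q))) * z = z * F.r (sMul (cB p) (tw 1 (cB q))) :=
        (F.mem_H _).1 (F.K_le (F.r_mem (sMul_lt lb (tw_lt le'))))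
      simp only [pow_one, hs2, show (1 + 1) % 2 = 0 from rfl, pow_zero, mul_one]
      rw [mul_assoc, ← hzc, ← mul_assoc]
    · rw [val_code _ _ _ hA hB (Nat.mod_lt _ (by norm_num)), ← pow_add]
      congr 1
      rcases Nat.le_one_iff_eq_zero_or_eq_one.1 (Nat.lt_succ_iff.1 ld) with h1 | h1 <;>
        rcases Nat.le_one_iff_eq_zero_or_eq_one.1 (Nat.lt_succ_iff.1 lf) with h2 | h2 <;>
        rw [h1, h2] at h ⊢
      all_goals try rfl
      have : ε = 0 := by
        rcases Nat.le_one_iff_eq_zero_or_eq_one.1 (Nat.lt_succ_iff.1 hε) with h' | h'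
        · exact h'
        · exact absurd ⟨h', rfl, rfl⟩ h
      subst this
      rw [show (1 + 1) % 2 = 0 from rfl, pow_zero, show (1 + 1) = 2 from rfl, pow_two, hs2,
        pow_zero]
  have inj : ∀ p q, p < 576 → q < 576 → val p = val q → p = q := by
    intro p q hp' hq' h
    obtain ⟨la, lb, ld⟩ := dec_lt hp'
    obtain ⟨lc, le', lf⟩ := dec_lt hq'
    have hdd : cD p = cD q := by
      have hkp : F.p (cA p) * F.r (cB p) ∈ F.K := mul_mem (F.p_mem (by omega)) (F.r_mem lb)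
      have hkq : F.p (cA q) * F.r (cB q) ∈ F.K := mul_mem (F.p_mem (by omega)) (F.r_mem le')
      rcases Nat.le_one_iff_eq_zero_or_eq_one.1 (Nat.lt_succ_iff.1 ld) with h1 | h1 <;>
        rcases Nat.le_one_iff_eq_zero_or_eq_one.1 (Nat.lt_succ_iff.1 lf) with h2 | h2 <;>
        simp only [val, h1, h2, pow_zero, pow_one, mul_one] at h ⊢
      · exfalso; refine hsK ?_
        have := mul_mem (inv_mem hkq) hkp
        rwa [h, inv_mul_cancel_left] at this
      · exfalso; refine hsK ?_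
        have := mul_mem (inv_mem hkp) hkq
        rwa [← h, inv_mul_cancel_left] at this
    simp only [val, hdd] at h
    rcases F.pr_eq (by omega) lb (by omega) le' (mul_right_cancel h) with ⟨u, v⟩ | ⟨u, -⟩
    · exact dec_eq u v hdd
    · exfalso; simp [sNeg, lc] at u; omega
  have mem : ∀ g, g * z = z * g ↔ ∃ p < 576, val p = g := by
    intro g
    constructor
    · intro hg
      have hgH := (F.mem_H g).2 hg
      rcases F.coset hsH hsK hgH with h | ⟨k', hk', rfl⟩
      · obtain ⟨x, hx, y, hy, rfl⟩ := (F.mem_K g).1 h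
        exact ⟨code x y 0, (code_facts ⟨x, hx⟩ ⟨y, hy⟩ 0).1,
          by rw [val_code x y 0 hx hy (by norm_num), pow_zero, mul_one]⟩
      · obtain ⟨x, hx, y, hy, rfl⟩ := (F.mem_K k').1 hk'
        exact ⟨code x y 1, (code_facts ⟨x, hx⟩ ⟨y, hy⟩ 1).1,
          by rw [val_code x y 1 hx hy (by norm_num), pow_one]⟩
    · rintro ⟨p, hp', rfl⟩
      obtain ⟨la, lb, -⟩ := dec_lt hp'
      exact (F.mem_H _).1 (mul_mem (F.K_le (mul_mem (F.p_mem (by omega)) (F.r_mem lb)))
        (pow_mem hsH _))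
  have val_z : val 174 = z := by
    show F.p 3 * F.r 15 * s ^ 0 = z
    rw [F.p_one, F.r_z, one_mul, pow_zero, mul_one]
  let μ : Model z ε := ⟨val, mul, inj, mem, val_z⟩
  have hval : ∀ x ∈ e0, val x = F.p (cA x) * F.r (cB x) := fun x hx => by
    show _ * _ * s ^ cD x = _
    rw [(e0_facts.1 x hx).2, pow_zero, mul_one]
  refine ⟨ε, hε, μ, ⟨D.M, D.card_M, fun x hx => D.le ((hE _).2 ⟨x, hx, hval x hx⟩), ?_, ?_⟩, rfl⟩
  · intro g hg x hx
    obtain ⟨y, hy, e⟩ := (hE _).1 (D.norm g hg _ ((hE _).2 ⟨x, hx, hval x hx⟩))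
    exact ⟨y, hy, e.trans (hval y hy).symm⟩
  · intro g hg hcom
    obtain ⟨y, hy, e⟩ := (hE g).1 (D.cent g hg fun u hu => by
      obtain ⟨x, hx, rfl⟩ := (hE u).1 hu
      rw [← hval x hx]; exact hcom x hx)
    exact ⟨y, hy, (hval y hy).trans e.symm⟩

end

end CfsgLib.Recog.GTwoThree
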