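import Mathlib
import Cfsg.Agent.Lib.Recog.GTwoThree.Normal

/-!
Calculation in the model by codes, and the action of the local subgroup on frames of the subgroup
of order eight (owner: helper23).
-/

set_option autoImplicit false
set_option maxRecDepth 100000

namespace CfsgLib.Recog.GTwoThree

theorem cMul_lt {ε p q : ℕ} (hp : p < 576) (hq : q < 576) : cMul ε p q < 576 := by
  obtain ⟨la, lb, -⟩ := dec_lt hp
  obtain ⟨lc, le', -⟩ := dec_lt hq
  have hA : sMul (cA p) (tw (cD p) (cA q)) < 24 := sMul_lt (by omega) (tw_lt (by omega))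
  have hB : sMul (cB p) (tw (cD p) (cB q)) < 24 := sMul_lt lb (tw_lt le')
  have hd : (cD p + cD q) % 2 < 2 := Nat.mod_lt _ (by norm_num)
  have h1 := (code_facts ⟨_, hA⟩ ⟨_, hB⟩ ⟨_, hd⟩).1
  have h2 := (code_facts ⟨_, sNeg_lt hA⟩ ⟨_, hB⟩ ⟨_, hd⟩).1
  unfold cMul
  dsimp only
  split_ifs
  · exact h2
  · exact h1

theorem cInv_facts : ((List.range 2).all fun ε => (List.range 576).all fun p =>
    Nat.ble (cInv ε p) 575 && Nat.beq (cMul ε (cInv ε p) p) 150) = true := by decide +kernel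

theorem cInv_lt {ε p : ℕ} (hε : ε < 2) (hp : p < 576) :
    cInv ε p < 576 ∧ cMul ε (cInv ε p) p = 150 := by
  have h := List.all_eq_true.1 cInv_facts ε (List.mem_range.2 hε)
  have h2 := List.all_eq_true.1 h p (List.mem_range.2 hp)
  rw [Bool.and_eq_true] at h2
  exact ⟨Nat.lt_succ_of_le (Nat.le_of_ble_eq_true h2.1), Nat.eq_of_beq_eq_true h2.2⟩

theorem cConj_lt {ε g x : ℕ} (hε : ε < 2) (hg : g < 576) (hx : x < 576) : cConj ε g x < 576 :=
  cMul_lt (cMul_lt hg hx) (cInv_lt hε hg).1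

namespace Model

variable {G : Type*} [Group G] {z : G} {ε : ℕ} (μ : Model z ε)

theorem val_one : μ.val 150 = 1 := by
  have h := μ.mul 150 150 (by norm_num) (by norm_num)
  have key : ∀ e < 2, cMul e 150 150 = 150 := by decide +kernel
  by_cases he : ε = 1
  · subst he
    rw [key 1 (by norm_num)] at h
    exact left_eq_mul.1 h
  · have : cMul ε 150 150 = 150 := by
      have h0 : cMul ε 150 150 = cMul 0 150 150 := by simp [cMul, he]
      rw [h0]; exact key 0 (by norm_num)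
    rw [this] at h
    exact left_eq_mul.1 h

theorem val_inv (hε : ε < 2) {p : ℕ} (hp : p < 576) : μ.val (cInv ε p) = (μ.val p)⁻¹ := by
  obtain ⟨h1, h2⟩ := cInv_lt hε hp
  refine eq_inv_of_mul_eq_one_left ?_
  rw [← μ.mul _ _ h1 hp, h2, μ.val_one]

theorem val_conj (hε : ε < 2) {g x : ℕ} (hg : g < 576) (hx : x < 576) :
    μ.val (cConj ε g x) = μ.val g * μ.val x * (μ.val g)⁻¹ := by
  rw [cConj, μ.mul _ _ (cMul_lt hg hx) (cInv_lt hε hg).1, μ.mul g x hg hx, μ.val_inv hε hg]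

theorem comm_z {p : ℕ} (hp : p < 576) : μ.val p * z = z * μ.val p :=
  (μ.mem _).2 ⟨p, hp, rfl⟩

theorem cProd_val {l : List ℕ} (hl : ∀ x ∈ l, x < 576) :
    cProd ε l < 576 ∧ μ.val (cProd ε l) = (l.map μ.val).prod := by
  have key : ∀ (l : List ℕ) (a : ℕ), a < 576 → (∀ x ∈ l, x < 576) →
      l.foldl (cMul ε) a < 576 ∧ μ.val (l.foldl (cMul ε) a) = μ.val a * (l.map μ.val).prod := by
    intro l
    induction l with
    | nil => intro a ha _; exact ⟨ha, by simp⟩
    | cons x l ih =>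
      intro a ha h
      have hx := h x List.mem_cons_self
      obtain ⟨h1, h2⟩ := ih (cMul ε a x) (cMul_lt ha hx) fun y hy => h y (List.mem_cons_of_mem _ hy)
      refine ⟨h1, h2.trans ?_⟩
      rw [μ.mul a x ha hx, List.map_cons, List.prod_cons, mul_assoc]
  obtain ⟨h1, h2⟩ := key l 150 (by norm_num) hl
  exact ⟨h1, h2.trans (by rw [μ.val_one, one_mul])⟩

end Model

/-- The product in the group of order eight. -/
def eMul (x y : ℕ) : ℕ := code (sMul (cA x) (cA y)) (sMul (cB x) (cB y)) 0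

theorem eMul_facts : (∀ x ∈ e0, ∀ y ∈ e0, ∀ ε < 2, eMul x y ∈ e0 ∧ cMul ε x y = eMul x y) ∧
    e0 = [150, 174, 0, eMul 174 0, 350, eMul 174 350, eMul 0 350, eMul 174 (eMul 0 350)] ∧
    eMul 174 0 = 24 := by decide +kernel

/-- The images of a frame. -/
def validFrame (t : ℕ × ℕ × ℕ) : Bool :=
  !Nat.beq t.1 150 && !Nat.beq t.2.1 150 && !Nat.beq t.2.1 t.1 && !Nat.beq t.2.2 150 &&
    !Nat.beq t.2.2 t.1 && !Nat.beq t.2.2 t.2.1 && !Nat.beq t.2.2 (eMul t.1 t.2.1)

def frames : List (ℕ × ℕ × ℕ) :=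
  ((e0.flatMap fun a => e0.flatMap fun b => e0.map fun c => (a, b, c)).filter validFrame)

theorem frames_card : frames.toFinset.card = 168 := by decide +kernel

theorem mem_frames {a b c : ℕ} (ha : a ∈ e0) (hb : b ∈ e0) (hc : c ∈ e0)
    (h : validFrame (a, b, c) = true) : (a, b, c) ∈ frames := by
  refine List.mem_filter.2 ⟨?_, h⟩
  simp only [List.mem_flatMap, List.mem_map]
  exact ⟨a, ha, b, hb, c, hc, rfl⟩

namespace Local

variable {G : Type*} [Group G] [Finite G] {z : G} {ε : ℕ} {μ : Model z ε} (L : Local μ)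

theorem hom_ext_e0 (hε : ε < 2) {g g' : G}
    (h1 : g * μ.val 174 * g⁻¹ = g' * μ.val 174 * g'⁻¹)
    (h2 : g * μ.val 0 * g⁻¹ = g' * μ.val 0 * g'⁻¹)
    (h3 : g * μ.val 350 * g⁻¹ = g' * μ.val 350 * g'⁻¹) :
    ∀ x ∈ e0, g * μ.val x * g⁻¹ = g' * μ.val x * g'⁻¹ := by
  have hmul : ∀ x ∈ e0, ∀ y ∈ e0, g * μ.val x * g⁻¹ = g' * μ.val x * g'⁻¹ →
      g * μ.val y * g⁻¹ = g' * μ.val y * g'⁻¹ →
      g * μ.val (eMul x y) * g⁻¹ = g' * μ.val (eMul x y) * g'⁻¹ := by
    intro x hx y hy ex ey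
    rw [← (eMul_facts.1 x hx y hy ε hε).2, μ.mul x y (e0_facts.1 x hx).1 (e0_facts.1 y hy).1]
    calc g * (μ.val x * μ.val y) * g⁻¹ = g * μ.val x * g⁻¹ * (g * μ.val y * g⁻¹) := by group
      _ = g' * μ.val x * g'⁻¹ * (g' * μ.val y * g'⁻¹) := by rw [ex, ey]
      _ = _ := by group
  intro x hx
  rw [eMul_facts.2.1] at hx
  have hz : (174 : ℕ) ∈ e0 := by decide
  have he : (0 : ℕ) ∈ e0 := by decide
  have hd : (350 : ℕ) ∈ e0 := by decide
  simp only [List.mem_cons, List.not_mem_nil, or_false] at hx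
  rcases hx with rfl | rfl | rfl | rfl | rfl | rfl | rfl | rfl
  · simp [μ.val_one]
  · exact h1
  · exact h2
  · exact hmul _ hz _ he h1 h2
  · exact h3
  · exact hmul _ hz _ hd h1 h3
  · exact hmul _ he _ hd h2 h3
  · exact hmul _ hz _ (eMul_facts.1 0 he 350 hd ε hε).1 h1 (hmul _ he _ hd h2 h3)

/-- The local subgroup induces every frame of the group of order eight. -/
theorem exists_frame_map (hε : ε < 2) {a b c : ℕ} (ha : a ∈ e0) (hb : b ∈ e0) (hc : c ∈ e0)
    (h : validFrame (a, b, c) = true) :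
    ∃ g ∈ L.M, g * μ.val 174 * g⁻¹ = μ.val a ∧ g * μ.val 0 * g⁻¹ = μ.val b ∧
      g * μ.val 350 * g⁻¹ = μ.val c := by
  classical
  have hz : (174 : ℕ) ∈ e0 := by decide
  have he : (0 : ℕ) ∈ e0 := by decide
  have hd : (350 : ℕ) ∈ e0 := by decide
  choose f hf0 hf using L.norm
  let Φ : L.M → ℕ × ℕ × ℕ := fun g => (f g g.2 174 hz, f g g.2 0 he, f g g.2 350 hd)
  have lt : ∀ x ∈ e0, x < 576 := fun x hx => (e0_facts.1 x hx).1
  have hΦ : ∀ g, Φ g ∈ frames := by
    intro g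
    obtain ⟨g, hg⟩ := g
    refine mem_frames (hf0 _ hg _ hz) (hf0 _ hg _ he) (hf0 _ hg _ hd) ?_
    have ne : ∀ x y (hx : x ∈ e0) (hy : y ∈ e0), x ≠ y → f g hg x hx ≠ f g hg y hy := by
      intro x y hx hy hne e
      have h' : g * μ.val x * g⁻¹ = g * μ.val y * g⁻¹ := by rw [hf g hg x hx, hf g hg y hy, e]
      exact hne (μ.inj _ _ (lt x hx) (lt y hy) (mul_left_cancel (mul_right_cancel h')))
    have ne1 : ∀ x (hx : x ∈ e0), x ≠ 150 → f g hg x hx ≠ 150 := by
      intro x hx hne e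
      have h' := hf g hg x hx
      rw [e, μ.val_one, conj_eq_one_iff, ← μ.val_one] at h'
      exact hne (μ.inj _ _ (lt x hx) (by norm_num) h')
    have ne2 : f g hg 350 hd ≠ eMul (f g hg 174 hz) (f g hg 0 he) := by
      intro e
      have h' : g * μ.val 350 * g⁻¹ = g * μ.val 24 * g⁻¹ := by
        rw [hf g hg 350 hd, e, ← (eMul_facts.1 _ (hf0 g hg _ hz) _ (hf0 g hg _ he) ε hε).2,
          μ.mul _ _ (lt _ (hf0 g hg _ hz)) (lt _ (hf0 g hg _ he)), ← hf g hg 174 hz,
          ← hf g hg 0 he, ← eMul_facts.2.2, ← (eMul_facts.1 174 hz 0 he ε hε).2,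
          μ.mul _ _ (by norm_num) (by norm_num)]
        group
      exact absurd (μ.inj _ _ (by norm_num) (by norm_num)
        (mul_left_cancel (mul_right_cancel h'))) (by norm_num)
    have nb : ∀ {x y : ℕ}, x ≠ y → (!Nat.beq x y) = true := fun {x y} h => by
      cases hq : Nat.beq x y with
      | false => rfl
      | true => exact absurd (Nat.eq_of_beq_eq_true hq) h
    simp only [validFrame, Bool.and_eq_true, Φ]
    exact ⟨⟨⟨⟨⟨⟨nb (ne1 _ hz (by norm_num)), nb (ne1 _ he (by norm_num))⟩,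
      nb (ne _ _ he hz (by norm_num))⟩, nb (ne1 _ hd (by norm_num))⟩,
      nb (ne _ _ hd hz (by norm_num))⟩, nb (ne _ _ hd he (by norm_num))⟩, nb ne2⟩
  haveI := Fintype.ofFinite L.M
  have hfib : ∀ t ∈ Finset.univ.image Φ, (Finset.univ.filter fun g => Φ g = t).card ≤ 8 := by
    intro t ht
    obtain ⟨g0, -, rfl⟩ := Finset.mem_image.1 ht
    have hmem : ∀ g : L.M, Φ g = Φ g0 → ∃ x ∈ e0, μ.val x = (g0 : G)⁻¹ * g := by
      intro g hg
      simp only [Φ, Prod.mk.injEq] at hg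
      obtain ⟨e1, e2, e3⟩ := hg
      refine L.cent _ (mul_mem (inv_mem g0.2) g.2) fun x hx => ?_
      have := hom_ext_e0 hε (g := (g : G)) (g' := (g0 : G))
        (by rw [hf _ g.2 _ hz, hf _ g0.2 _ hz, e1]) (by rw [hf _ g.2 _ he, hf _ g0.2 _ he, e2])
        (by rw [hf _ g.2 _ hd, hf _ g0.2 _ hd, e3]) x hx
      calc (g0 : G)⁻¹ * g * μ.val x = (g0 : G)⁻¹ * (g * μ.val x * (g : G)⁻¹) * g := by group
        _ = _ := by rw [this]; group
    choose k hk0 hk using hmem
    calc (Finset.univ.filter fun g => Φ g = Φ g0).card ≤ e0.toFinset.card := by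
          refine Finset.card_le_card_of_injOn (fun g => if h : Φ g = Φ g0 then k g h else 150)
            (fun g hg => ?_) (fun g hg g' hg' e => ?_)
          · simp only [Finset.mem_coe, Finset.mem_filter] at hg
            simp only [dif_pos hg.2, Finset.mem_coe, List.mem_toFinset]
            exact hk0 g hg.2
          · simp only [Finset.mem_coe, Finset.mem_filter] at hg hg'
            simp only [dif_pos hg.2, dif_pos hg'.2] at e
            have := (hk g hg.2).symm.trans ((congrArg μ.val e).trans (hk g' hg'.2))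
            exact Subtype.ext (mul_left_cancel this)
      _ ≤ 8 := by decide
  have hle := Finset.card_le_mul_card_image (Finset.univ : Finset L.M) 8 hfib
  have hsub : Finset.univ.image Φ ⊆ frames.toFinset := fun t ht => by
    obtain ⟨g, -, rfl⟩ := Finset.mem_image.1 ht
    exact List.mem_toFinset.2 (hΦ g)
  have heq : Finset.univ.image Φ = frames.toFinset := by
    refine Finset.eq_of_subset_of_card_le hsub ?_
    rw [frames_card]
    rw [Finset.card_univ, ← Nat.card_eq_fintype_card, L.card] at hle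
    omega
  have hmem : (a, b, c) ∈ Finset.univ.image Φ := heq ▸ List.mem_toFinset.2 (mem_frames ha hb hc h)
  obtain ⟨g, -, hg⟩ := Finset.mem_image.1 hmem
  simp only [Φ, Prod.mk.injEq] at hg
  exact ⟨g, g.2, by rw [hf _ g.2 _ hz, hg.1], by rw [hf _ g.2 _ he, hg.2.1],
    by rw [hf _ g.2 _ hd, hg.2.2]⟩

include L in
/-- The normaliser of the group of order eight in the centraliser lies in the local subgroup. -/
theorem val_mem_of_norm (hε : ε < 2) {p a b : ℕ} (hp : p < 576) (ha : cConj ε p 0 = a)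
    (hb : cConj ε p 350 = b) (hv : validFrame (174, a, b) = true) (ha0 : a ∈ e0) (hb0 : b ∈ e0)
    (hc : ∀ q < 576, cConj ε q 0 = 0 → cConj ε q 350 = 350 → q ∈ e0) : μ.val p ∈ L.M := by
  obtain ⟨g, hg, g1, g2, g3⟩ := L.exists_frame_map hε (a := 174) (by decide) ha0 hb0 hv
  obtain ⟨q, hq, rfl⟩ := (μ.mem g).1 (by
    rw [← μ.val_z]
    calc g * μ.val 174 = g * μ.val 174 * g⁻¹ * g := by group
      _ = _ := by rw [g1])
  set r := cMul ε (cInv ε q) p with hr
  have hr576 : r < 576 := cMul_lt (cInv_lt hε hq).1 hp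
  have hrv : μ.val r = (μ.val q)⁻¹ * μ.val p := by
    rw [hr, μ.mul _ _ (cInv_lt hε hq).1 hp, μ.val_inv hε hq]
  have fix : ∀ x v, x < 576 → v < 576 → cConj ε p x = v →
      μ.val q * μ.val x * (μ.val q)⁻¹ = μ.val v → cConj ε r x = x := by
    intro x v hx hv e1 e2
    refine μ.inj _ _ (cConj_lt hε hr576 hx) hx ?_
    rw [μ.val_conj hε hr576 hx, hrv]
    calc (μ.val q)⁻¹ * μ.val p * μ.val x * ((μ.val q)⁻¹ * μ.val p)⁻¹
        = (μ.val q)⁻¹ * (μ.val p * μ.val x * (μ.val p)⁻¹) * μ.val q := by group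
      _ = _ := by rw [← μ.val_conj hε hp hx, e1, ← e2]; group
  have hr0 := hc r hr576 (fix 0 a (by norm_num) (e0_facts.1 a ha0).1 ha g2)
    (fix 350 b (by norm_num) (e0_facts.1 b hb0).1 hb g3)
  have hpe : μ.val p = μ.val q * μ.val r := by rw [hrv]; group
  rw [hpe]
  exact mul_mem hg (L.val_mem r hr0)

end Local

end CfsgLib.Recog.GTwoThree
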