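import Mathlib
import Cfsg.Agent.Lib.Recog.GTwoThree.ModelFacts

/-!
The amalgam of the centraliser and the local subgroup is unique (owner: helper23).
-/

set_option autoImplicit false
set_option maxRecDepth 100000

namespace CfsgLib.Recog.GTwoThree

/-- The action of the element of order three on the group of order eight. -/
def fE (x : ℕ) : ℕ :=
  if x = 174 then 0 else if x = 0 then 24 else if x = 24 then 174 else if x = 374 then 550
  else if x = 550 then 574 else if x = 574 then 374 else x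

/-- Its inverse. -/
def fI (x : ℕ) : ℕ := fE (fE x)

/-- The centraliser of `z` and `e` in the normaliser of the group of order eight. -/
def wSet : List ℕ := [0, 1, 6, 7, 24, 25, 30, 31, 144, 145, 150, 151, 168, 169, 174, 175, 350, 351,
  358, 359, 374, 375, 382, 383, 542, 543, 550, 551, 566, 567, 574, 575]

def wGens : List ℕ := [174, 0, 350, 1, 7]

/-- The images of the generators in the amalgam. -/
def alGens : List ℕ := [0, 24, 350, 31, 382]

/-- The other solution. -/
def alGens' : List ℕ := [0, 24, 350, 169, 542]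

/-- Words in the generators. -/
def wWord : List (List ℕ) := [[1], [3], [1, 4, 3], [4], [0, 1], [0, 3], [1, 3, 4], [0, 4], [3, 4],
  [0, 1, 4], [], [1, 3], [4, 3], [1, 4], [0], [0, 1, 3], [2], [3, 2], [2, 4, 3], [0, 4, 2], [0, 2],
  [0, 3, 2], [2, 3, 4], [4, 2], [3, 2, 4], [0, 2, 4], [1, 2], [2, 3], [0, 3, 2, 4], [2, 4],
  [0, 1, 2], [0, 2, 3]]

/-- Words in the generators when the outer element has square `z`. -/
def wWord' : List (List ℕ) := [[1], [3], [1, 3, 4], [4], [0, 1], [0, 3], [1, 4, 3], [0, 4], [4, 3],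
  [0, 1, 4], [], [1, 3], [3, 4], [1, 4], [0], [0, 1, 3], [2], [3, 2], [2, 3, 4], [0, 4, 2], [0, 2],
  [0, 3, 2], [2, 4, 3], [4, 2], [0, 3, 2, 4], [0, 2, 4], [1, 2], [2, 3], [3, 2, 4], [2, 4],
  [0, 1, 2], [0, 2, 3]]

def wordOf (ε x : ℕ) : List ℕ :=
  (if ε = 1 then wWord' else wWord).getD (wSet.findIdx fun w => Nat.beq w x) []

/-- The image of an element of `wSet` given by the images of the generators. -/
def img (ε : ℕ) (A : List ℕ) (x : ℕ) : ℕ := cProd ε ((wordOf ε x).map fun i => A.getD i 0)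

def candList (ε g : ℕ) : List ℕ :=
  (List.range 576).filter fun p => ([174, 0, 350] : List ℕ).all fun x =>
    Nat.beq (cConj ε p x) (fE (cConj ε g (fI x)))

/-- The candidates for a consistent choice of images. -/
def imgOk (ε : ℕ) (A : List ℕ) : Bool :=
  (wSet.all fun x => (List.range 5).all fun i =>
    Nat.beq (img ε A (cMul ε x (wGens.getD i 0))) (cMul ε (img ε A x) (A.getD i 0))) &&
  wSet.all fun x => let y := img ε A x
    !(wSet.any (Nat.beq y) && wSet.any (Nat.beq (img ε A y))) || Nat.beq (img ε A (img ε A y)) x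

theorem cand_facts : ((List.range 2).all fun ε => (candList ε 1).all fun p => (candList ε 7).all fun q =>
    !imgOk ε [0, 24, 350, p, q] || (Nat.beq ε 0 &&
      (([(7, 566), (31, 382), (145, 358), (169, 542)] : List (ℕ × ℕ)).any fun s =>
        Nat.beq s.1 p && Nat.beq s.2 q))) = true := by decide +kernel

theorem wSet_facts : (∀ x ∈ wSet, x < 576) ∧ (∀ i < 5, wGens.getD i 0 ∈ wSet) ∧
    (∀ x ∈ wSet, ∀ ε < 2, ∀ i ∈ wordOf ε x, i < 5) ∧
    ((List.range 2).all fun ε => wSet.all fun x =>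
      Nat.beq (cProd ε ((wordOf ε x).map fun i => wGens.getD i 0)) x &&
      (List.range 5).all fun i => wSet.any (Nat.beq (cMul ε x (wGens.getD i 0)))) = true := by
  decide +kernel

theorem conjugator_facts : ∀ ε < 2,
    (∀ g ∈ ([1, 7] : List ℕ), cConj ε g 0 = 0 ∧ cConj ε g 350 ∈ e0 ∧
      validFrame (174, 0, cConj ε g 350) = true) ∧
    (cConj ε 22 0 = 24 ∧ cConj ε 22 350 = 350 ∧ cMul ε 22 22 = 150) ∧
    (cConj ε 300 0 ∈ e0 ∧ cConj ε 300 350 ∈ e0 ∧
      validFrame (174, cConj ε 300 0, cConj ε 300 350) = true) ∧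
    ((List.range 576).all fun q =>
      !(Nat.beq (cConj ε q 0) 0 && Nat.beq (cConj ε q 350) 350) || e0.any (Nat.beq q)) = true := by
  decide +kernel

theorem twist_facts : (∀ x ∈ e0, fE x ∈ e0 ∧ fI x ∈ e0 ∧ fI (fE x) = x ∧ fE (fI x) = x ∧
      cConj 0 22 (fE (cConj 0 22 x)) = fI x) ∧
    (∀ x ∈ e0, cConj 0 300 (fE x) = x → x = 150 ∨ x = 574) := by decide +kernel

/-- The compatibility conditions on the element `w`. -/
def wOk (A : List ℕ) (w : ℕ) : Bool :=
  (wSet.all fun x => let y := cConj 0 22 x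
    !(wSet.any (Nat.beq y)) || (let u := cConj 0 22 (img 0 A y)
      !(wSet.any (Nat.beq u)) || Nat.beq (img 0 A u) (cConj 0 (fE w) x))) &&
  Nat.beq (cConj 0 22 w) (fE w) && Nat.beq (cMul 0 (cMul 0 w (fI w)) (fE w)) 150

theorem wOk_facts : (([(7, 566), (31, 382), (145, 358), (169, 542)] : List (ℕ × ℕ)).all fun s =>
    e0.all fun w => !wOk [0, 24, 350, s.1, s.2] w ||
      ((Nat.beq s.1 31 || Nat.beq s.1 169) && (Nat.beq w 150 || Nat.beq w 0))) = true := by
  decide +kernel

theorem move_facts : (∀ g ∈ wSet, cConj 0 0 g ∈ wSet) ∧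
    (∀ A ∈ ([alGens, alGens'] : List (List ℕ)), ∀ i < 5,
      cConj 0 0 (img 0 A (cConj 0 0 (wGens.getD i 0))) = A.getD i 0) ∧
    cMul 0 (cMul 0 (cConj 0 22 0) 0) (cMul 0 (fI (cMul 0 (cConj 0 22 0) 0)) 0) = 150 := by
  decide +kernel

/-- The outer element multiplied by `z`. -/
def flipS (p : ℕ) : ℕ := cMul 0 p (if cD p = 1 then 174 else 150)

theorem flip_facts : (List.range 5).map (fun i => flipS (wGens.getD i 0)) = [174, 0, 350, 25, 31] ∧
    (List.range 5).map (fun i => flipS (alGens.getD i 0)) = [0, 24, 350, 7, 382] ∧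
    (wGens.map fun g => flipS (img 0 alGens' (flipS g))) = alGens ∧
    (∀ g ∈ wGens, flipS g ∈ wSet) ∧ flipS 22 = 22 ∧ flipS 300 = 300 ∧ flipS 574 = 574 ∧
    flipS 150 = 150 := by decide +kernel

/-- The amalgam: an element `y` of order three with the given action and relations. -/
structure Amal {G : Type*} [Group G] {z : G} (μ : Model z 0) (L : Local μ) where
  y : G
  y_mem : y ∈ L.M
  y_cube : y ^ 3 = 1
  act : ∀ i < 5, y * μ.val (wGens.getD i 0) * y⁻¹ = μ.val (alGens.getD i 0)
  ry : μ.val 22 * y * (μ.val 22)⁻¹ * y = 1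
  mem_M : ∀ p ∈ ([22, 300, 1, 7] : List ℕ), μ.val p ∈ L.M
  t : ℕ
  ht : t = 150 ∨ t = 574
  uy : (μ.val 300 * y) ^ 4 = μ.val t

variable {G : Type*} [Group G] {z : G} {ε : ℕ}

theorem act_word (μ : Model z ε) {y : G} {A B : List ℕ} (hA : ∀ i < 5, A.getD i 0 < 576)
    (hB : ∀ i < 5, B.getD i 0 < 576)
    (h : ∀ i < 5, y * μ.val (A.getD i 0) * y⁻¹ = μ.val (B.getD i 0)) (l : List ℕ)
    (hl : ∀ i ∈ l, i < 5) :
    y * μ.val (cProd ε (l.map fun i => A.getD i 0)) * y⁻¹ =
      μ.val (cProd ε (l.map fun i => B.getD i 0)) := by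
  have hlA : ∀ x ∈ l.map (fun i => A.getD i 0), x < 576 := fun x hx => by
    obtain ⟨i, hi, rfl⟩ := List.mem_map.1 hx; exact hA i (hl i hi)
  have hlB : ∀ x ∈ l.map (fun i => B.getD i 0), x < 576 := fun x hx => by
    obtain ⟨i, hi, rfl⟩ := List.mem_map.1 hx; exact hB i (hl i hi)
  rw [(μ.cProd_val hlA).2, (μ.cProd_val hlB).2]
  clear hlA hlB
  induction l with
  | nil => simp
  | cons i l ih =>
    simp only [List.map_cons, List.prod_cons]
    rw [← h i (hl i List.mem_cons_self), ← ih fun j hj => hl j (List.mem_cons_of_mem _ hj)]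
    group

theorem act_img (hε : ε < 2) (μ : Model z ε) {y : G} {A : List ℕ}
    (hA : ∀ i < 5, A.getD i 0 < 576)
    (h : ∀ i < 5, y * μ.val (wGens.getD i 0) * y⁻¹ = μ.val (A.getD i 0)) {x : ℕ} (hx : x ∈ wSet) :
    img ε A x < 576 ∧ y * μ.val x * y⁻¹ = μ.val (img ε A x) := by
  obtain ⟨w576, wg, wl, wf⟩ := wSet_facts
  have hl : ∀ v ∈ (wordOf ε x).map (fun i => A.getD i 0), v < 576 := fun v hv => by
    obtain ⟨i, hi, rfl⟩ := List.mem_map.1 hv; exact hA i (wl x hx ε hε i hi)
  refine ⟨(μ.cProd_val hl).1, ?_⟩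
  have e := List.all_eq_true.1 (List.all_eq_true.1 wf ε (List.mem_range.2 hε)) x hx
  rw [Bool.and_eq_true] at e
  have := act_word μ (fun i hi => w576 _ (wg i hi)) hA h (wordOf ε x) (wl x hx ε hε)
  rwa [Nat.eq_of_beq_eq_true e.1] at this

theorem beq_of_eq {a b : ℕ} (h : a = b) : Nat.beq a b = true := h ▸ Nat.beq_refl a

theorem mem_of_any {l : List ℕ} {a : ℕ} (h : l.any (Nat.beq a) = true) : a ∈ l := by
  obtain ⟨b, hb, e⟩ := List.any_eq_true.1 h
  exact Nat.eq_of_beq_eq_true e ▸ hb

theorem not_or_true {b c : Bool} (h : b = true → c = true) : (!b || c) = true := by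
  cases b <;> simp_all

theorem of_not_or {b c : Bool} (h : (!b || c) = true) (hb : b = true) : c = true := by
  simp_all

section

variable [Finite G]

/-- An element of order three normalising the group of order eight with the action `fE`, and its
action on the generators. -/
theorem exists_candidate (hε : ε < 2) (μ : Model z ε) (L : Local μ) :
    ε = 0 ∧ ∃ y ∈ L.M, y ^ 3 = 1 ∧ (∀ x ∈ e0, y * μ.val x * y⁻¹ = μ.val (fE x)) ∧
      (∀ g ∈ ([22, 300, 1, 7] : List ℕ), μ.val g ∈ L.M) ∧
      ∃ s ∈ ([(7, 566), (31, 382), (145, 358), (169, 542)] : List (ℕ × ℕ)),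
        ∀ i < 5, y * μ.val (wGens.getD i 0) * y⁻¹ =
          μ.val (([0, 24, 350, s.1, s.2] : List ℕ).getD i 0) := by
  obtain ⟨cg, cr, cu, cq⟩ := conjugator_facts ε hε
  have hcq : ∀ q < 576, cConj ε q 0 = 0 → cConj ε q 350 = 350 → q ∈ e0 := fun q hq h1 h2 => by
    have h := List.all_eq_true.1 cq q (List.mem_range.2 hq)
    refine mem_of_any (of_not_or h ?_)
    rw [h1, h2]; rfl
  have lt : ∀ x ∈ e0, x < 576 := fun x hx => (e0_facts.1 x hx).1
  have memM : ∀ g ∈ ([22, 300, 1, 7] : List ℕ), μ.val g ∈ L.M := by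
    intro g hg
    simp only [List.mem_cons, List.not_mem_nil, or_false] at hg
    rcases hg with rfl | rfl | rfl | rfl
    · exact L.val_mem_of_norm hε (by norm_num) cr.1 cr.2.1 (by decide +kernel) (by decide)
        (by decide) hcq
    · exact L.val_mem_of_norm hε (by norm_num) rfl rfl cu.2.2 cu.1 cu.2.1 hcq
    · obtain ⟨h1, h2, h3⟩ := cg 1 (by simp)
      exact L.val_mem_of_norm hε (by norm_num) h1 rfl h3 (by decide) h2 hcq
    · obtain ⟨h1, h2, h3⟩ := cg 7 (by simp)
      exact L.val_mem_of_norm hε (by norm_num) h1 rfl h3 (by decide) h2 hcq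
  obtain ⟨y0, hy0, a1, a2, a3⟩ := L.exists_frame_map hε (a := 0) (b := 24) (c := 350)
    (by decide) (by decide) (by decide) (by decide +kernel)
  have act0 : ∀ x ∈ e0, y0 * μ.val x * y0⁻¹ = μ.val (fE x) := by
    intro x hx
    have hm : ∀ a ∈ e0, ∀ b ∈ e0, y0 * μ.val a * y0⁻¹ = μ.val (fE a) →
        y0 * μ.val b * y0⁻¹ = μ.val (fE b) → fE (eMul a b) = eMul (fE a) (fE b) →
        y0 * μ.val (eMul a b) * y0⁻¹ = μ.val (fE (eMul a b)) := by
      intro a ha b hb ea eb ef
      rw [ef, ← (eMul_facts.1 a ha b hb ε hε).2,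
        ← (eMul_facts.1 _ (twist_facts.1 a ha).1 _ (twist_facts.1 b hb).1 ε hε).2,
        μ.mul a b (lt a ha) (lt b hb),
        μ.mul _ _ (lt _ (twist_facts.1 a ha).1) (lt _ (twist_facts.1 b hb).1), ← ea, ← eb]
      group
    have hz : (174 : ℕ) ∈ e0 := by decide
    have he : (0 : ℕ) ∈ e0 := by decide
    have hd : (350 : ℕ) ∈ e0 := by decide
    rw [eMul_facts.2.1] at hx
    simp only [List.mem_cons, List.not_mem_nil, or_false] at hx
    rcases hx with rfl | rfl | rfl | rfl | rfl | rfl | rfl | rfl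
    · rw [show fE 150 = 150 from rfl, μ.val_one]; group
    · exact a1
    · exact a2
    · exact hm _ hz _ he a1 a2 (by decide +kernel)
    · exact a3
    · exact hm _ hz _ hd a1 a3 (by decide +kernel)
    · exact hm _ he _ hd a2 a3 (by decide +kernel)
    · exact hm _ hz _ (eMul_facts.1 0 he 350 hd ε hε).1 a1 (hm _ he _ hd a2 a3 (by decide +kernel))
        (by decide +kernel)
  have f3 : ∀ x ∈ e0, fE (fE (fE x)) = x := fun x hx => (twist_facts.1 x hx).2.2.2.1
  have hy03 : y0 ^ 3 ∈ L.M := pow_mem hy0 3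
  obtain ⟨x3, hx3, e3⟩ := L.cent _ hy03 fun x hx => by
    have h1 := act0 x hx
    have h2 := act0 _ (twist_facts.1 x hx).1
    have h3 := act0 _ (twist_facts.1 _ (twist_facts.1 x hx).1).1
    rw [f3 x hx] at h3
    rw [show y0 ^ 3 = y0 * y0 * y0 by rw [pow_succ, pow_two]]
    calc y0 * y0 * y0 * μ.val x = y0 * (y0 * (y0 * μ.val x * y0⁻¹) * y0⁻¹) * y0⁻¹ * (y0 * y0 * y0) := by group
      _ = _ := by rw [h1, h2, h3]
  have sq150 : ∀ a ∈ e0, eMul a a = 150 := by decide +kernel
  set y := y0 ^ 4 with hy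
  have ycube : y ^ 3 = 1 := by
    have h2 : μ.val x3 * μ.val x3 = 1 := by
      rw [← μ.mul _ _ (lt _ hx3) (lt _ hx3), (eMul_facts.1 _ hx3 _ hx3 ε hε).2,
        sq150 _ hx3, μ.val_one]
    rw [hy, ← pow_mul, show 4 * 3 = 3 * 2 * 2 from rfl, pow_mul, pow_mul, ← e3,
      pow_two (μ.val x3), h2, one_pow]
  have yact : ∀ x ∈ e0, y * μ.val x * y⁻¹ = μ.val (fE x) := by
    intro x hx
    have h1 := act0 x hx
    have h2 := act0 _ (twist_facts.1 x hx).1
    have h3 := act0 _ (twist_facts.1 _ (twist_facts.1 x hx).1).1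
    rw [f3 x hx] at h3
    calc y * μ.val x * y⁻¹ = y0 * (y0 * (y0 * (y0 * μ.val x * y0⁻¹) * y0⁻¹) * y0⁻¹) * y0⁻¹ := by
          rw [hy, show y0 ^ 4 = y0 * y0 * y0 * y0 by rw [pow_succ, pow_succ, pow_two]]; group
      _ = _ := by rw [h1, h2, h3, h1]
  -- the images of the two extra generators lie among the candidates
  have image : ∀ g ∈ ([1, 7] : List ℕ), ∃ p ∈ candList ε g,
      y * μ.val g * y⁻¹ = μ.val p := by
    intro g hg
    have hg576 : g < 576 := by revert g; decide
    obtain ⟨h1, h2, -⟩ := cg g hg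
    have hfix : ∀ x ∈ e0, ∀ v, cConj ε g (fI x) = v → v ∈ e0 →
        y * μ.val g * y⁻¹ * μ.val x * (y * μ.val g * y⁻¹)⁻¹ = μ.val (fE v) := by
      intro x hx v hv hv0
      have hxI := (twist_facts.1 x hx).2.1
      have ex : μ.val x = y * μ.val (fI x) * y⁻¹ := by
        rw [yact _ hxI, (twist_facts.1 x hx).2.2.2.1]
      rw [ex, ← yact v hv0, ← hv, μ.val_conj hε hg576 (lt _ hxI)]
      group
    have gz : cConj ε g 174 = 174 := by
      refine μ.inj _ _ (cConj_lt hε hg576 (by norm_num)) (by norm_num) ?_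
      rw [μ.val_conj hε hg576 (by norm_num), μ.val_z, μ.comm_z hg576]; group
    have g24 : cConj ε g 24 = 24 := by
      refine μ.inj _ _ (cConj_lt hε hg576 (by norm_num)) (by norm_num) ?_
      have e24 : μ.val 24 = μ.val 174 * μ.val 0 := by
        rw [← μ.mul _ _ (by norm_num) (by norm_num),
          (eMul_facts.1 174 (by decide) 0 (by decide) ε hε).2, eMul_facts.2.2]
      have h0 := μ.val_conj hε hg576 (show 0 < 576 by norm_num)
      rw [h1] at h0
      rw [μ.val_conj hε hg576 (by norm_num), e24, μ.val_z,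
        show μ.val g * (z * μ.val 0) * (μ.val g)⁻¹ =
          μ.val g * z * (μ.val g)⁻¹ * (μ.val g * μ.val 0 * (μ.val g)⁻¹) by group,
        ← h0, μ.comm_z hg576]
      group
    have e174 := hfix 174 (by decide) 24 (by rw [show fI 174 = 24 from rfl, g24]) (by decide)
    rw [show fE 24 = 174 from rfl, μ.val_z] at e174
    obtain ⟨p, hp, ep⟩ := (μ.mem _).1 (by
      calc y * μ.val g * y⁻¹ * z = y * μ.val g * y⁻¹ * z * (y * μ.val g * y⁻¹)⁻¹ *
            (y * μ.val g * y⁻¹) := by group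
        _ = _ := by rw [e174])
    refine ⟨p, List.mem_filter.2 ⟨List.mem_range.2 hp, ?_⟩, ep.symm⟩
    rw [List.all_eq_true]
    intro x hx
    apply beq_of_eq
    have hx0 : x ∈ e0 := by revert x; decide
    have hv : cConj ε g (fI x) ∈ e0 := by
      simp only [List.mem_cons, List.not_mem_nil, or_false] at hx
      rcases hx with rfl | rfl | rfl
      · rw [show fI 174 = 24 from rfl, g24]; decide
      · rw [show fI 0 = 174 from rfl, gz]; decide
      · rw [show fI 350 = 350 from rfl]; exact h2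
    refine μ.inj _ _ (cConj_lt hε hp (lt x hx0)) (lt _ (twist_facts.1 _ hv).1) ?_
    rw [μ.val_conj hε hp (lt x hx0), ep]
    exact hfix x hx0 _ rfl hv
  obtain ⟨p, hp, ep⟩ := image 1 (by simp)
  obtain ⟨q, hq, eq7⟩ := image 7 (by simp)
  have hp576 : p < 576 := List.mem_range.1 (List.mem_filter.1 hp).1
  have hq576 : q < 576 := List.mem_range.1 (List.mem_filter.1 hq).1
  set A : List ℕ := [0, 24, 350, p, q] with hA
  have A576 : ∀ i < 5, A.getD i 0 < 576 := by
    intro i hi; interval_cases i <;> simp [hA, hp576, hq576]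
  have hgen : ∀ i < 5, y * μ.val (wGens.getD i 0) * y⁻¹ = μ.val (A.getD i 0) := by
    intro i hi
    interval_cases i
    · exact yact 174 (by decide)
    · exact yact 0 (by decide)
    · exact yact 350 (by decide)
    · exact ep
    · exact eq7
  have ok : imgOk ε A = true := by
    obtain ⟨w576, wg, -, wf⟩ := wSet_facts
    rw [imgOk, Bool.and_eq_true, List.all_eq_true, List.all_eq_true]
    constructor
    · intro x hx
      rw [List.all_eq_true]
      intro i hi
      rw [List.mem_range] at hi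
      apply beq_of_eq
      have e := List.all_eq_true.1 (List.all_eq_true.1 wf ε (List.mem_range.2 hε)) x hx
      rw [Bool.and_eq_true, List.all_eq_true] at e
      have hmem := mem_of_any (e.2 i (List.mem_range.2 hi))
      obtain ⟨l1, e1⟩ := act_img hε μ A576 hgen hmem
      obtain ⟨l2, e2⟩ := act_img hε μ A576 hgen hx
      refine μ.inj _ _ l1 (cMul_lt l2 (A576 i hi)) ?_
      rw [μ.mul _ _ l2 (A576 i hi), ← e1, ← e2, μ.mul _ _ (w576 x hx) (w576 _ (wg i hi)),
        ← hgen i hi]
      group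
    · intro x hx
      refine not_or_true fun h => ?_
      rw [Bool.and_eq_true] at h
      obtain ⟨l1, e1⟩ := act_img hε μ A576 hgen hx
      obtain ⟨l2, e2⟩ := act_img hε μ A576 hgen (mem_of_any h.1)
      obtain ⟨l3, e3'⟩ := act_img hε μ A576 hgen (mem_of_any h.2)
      refine beq_of_eq (μ.inj _ _ l3 (w576 x hx) ?_)
      rw [← e3', ← e2, ← e1]
      calc y * (y * (y * μ.val x * y⁻¹) * y⁻¹) * y⁻¹ = y * y * y * μ.val x * (y * y * y)⁻¹ := by group
        _ = _ := by rw [show y * y * y = y ^ 3 by rw [pow_succ, pow_two], ycube]; group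
  have hc := List.all_eq_true.1 cand_facts ε (List.mem_range.2 hε)
  have hc2 := List.all_eq_true.1 (List.all_eq_true.1 hc p hp) q hq
  have hc3 := of_not_or hc2 ok
  rw [Bool.and_eq_true, List.any_eq_true] at hc3
  obtain ⟨he0, s, hs, hs'⟩ := hc3
  rw [Bool.and_eq_true] at hs'
  refine ⟨Nat.eq_of_beq_eq_true he0, y, pow_mem hy0 4, ycube, yact, memM, s, hs, ?_⟩
  rw [Nat.eq_of_beq_eq_true hs'.1, Nat.eq_of_beq_eq_true hs'.2]
  exact hgen

theorem exists_amal (μ : Model z 0) (L : Local μ) :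
    ∃ (μ' : Model z 0) (L' : Local μ'), L'.M = L.M ∧ Nonempty (Amal μ' L') := by
  have hε : (0 : ℕ) < 2 := by norm_num
  obtain ⟨-, y, hy, y3, yact, memM, s, hs, hgen⟩ := exists_candidate hε μ L
  set A : List ℕ := [0, 24, 350, s.1, s.2] with hA
  have A576 : ∀ i < 5, A.getD i 0 < 576 := by
    have h : ∀ s ∈ ([(7, 566), (31, 382), (145, 358), (169, 542)] : List (ℕ × ℕ)), ∀ i < 5,
        ([0, 24, 350, s.1, s.2] : List ℕ).getD i 0 < 576 := by decide +kernel
    exact h s hs
  have lt : ∀ x ∈ e0, x < 576 := fun x hx => (e0_facts.1 x hx).1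
  obtain ⟨w576, wg, -, -⟩ := wSet_facts
  have yinv : ∀ x ∈ e0, y⁻¹ * μ.val x * y = μ.val (fI x) := fun x hx => by
    obtain ⟨-, hI, -, hr, -⟩ := twist_facts.1 x hx
    rw [show μ.val x = μ.val (fE (fI x)) by rw [hr], ← yact _ hI]; group
  set r := μ.val 22 with hr
  have rM : r ∈ L.M := memM 22 (by simp)
  have r2 : r * r = 1 := by
    rw [hr, ← μ.mul _ _ (by norm_num) (by norm_num), (conjugator_facts 0 hε).2.1.2.2, μ.val_one]
  have rconj : ∀ x < 576, r * μ.val x * r⁻¹ = μ.val (cConj 0 22 x) := fun x hx =>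
    (μ.val_conj hε (by norm_num) hx).symm
  have rinv : r⁻¹ = r := inv_eq_of_mul_eq_one_right r2
  -- the element `w`
  obtain ⟨w, hw, ew⟩ := L.cent (r * y * r⁻¹ * y) (mul_mem (mul_mem (mul_mem rM hy) (inv_mem rM)) hy)
    fun x hx => by
      have h1 := yact x hx
      have hfx := (twist_facts.1 x hx).1
      have hcr : cConj 0 22 (fE x) ∈ e0 := by
        have h : ∀ x ∈ e0, cConj 0 22 (fE x) ∈ e0 := by decide +kernel
        exact h x hx
      have h3 := rconj (fE x) (lt _ hfx)
      have h4 := yact _ hcr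
      have h5 := rconj (fE (cConj 0 22 (fE x))) (lt _ (twist_facts.1 _ hcr).1)
      have key : cConj 0 22 (fE (cConj 0 22 (fE x))) = x := by
        rw [(twist_facts.1 (fE x) hfx).2.2.2.2, (twist_facts.1 x hx).2.2.1]
      rw [key] at h5
      calc r * y * r⁻¹ * y * μ.val x
          = r * (y * (r⁻¹ * (y * μ.val x * y⁻¹) * r) * y⁻¹) * r⁻¹ * (r * y * r⁻¹ * y) := by group
        _ = r * (y * (r * (y * μ.val x * y⁻¹) * r⁻¹) * y⁻¹) * r⁻¹ * (r * y * r⁻¹ * y) := by
            simp only [rinv]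
        _ = _ := by rw [h1, h3, h4, h5]
  have hwI : fI w ∈ e0 := (twist_facts.1 w hw).2.1
  have hwE : fE w ∈ e0 := (twist_facts.1 w hw).1
  have ok : wOk A w = true := by
    rw [wOk, Bool.and_eq_true, Bool.and_eq_true, List.all_eq_true]
    refine ⟨⟨fun x hx => not_or_true fun h => not_or_true fun h' => beq_of_eq ?_, beq_of_eq ?_⟩,
      beq_of_eq ?_⟩
    · have hx576 := w576 x hx
      obtain ⟨l1, e1⟩ := act_img hε μ A576 hgen (mem_of_any h)
      obtain ⟨l2, e2⟩ := act_img hε μ A576 hgen (mem_of_any h')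
      refine μ.inj _ _ l2 (cConj_lt hε (lt _ hwE) hx576) ?_
      rw [← e2, ← rconj _ l1, ← e1, ← rconj x hx576, μ.val_conj hε (lt _ hwE) hx576,
        ← yact w hw, ew]
      calc y * (r * (y * (r * μ.val x * r⁻¹) * y⁻¹) * r⁻¹) * y⁻¹
          = (y * (r * y * r)) * μ.val x * (r⁻¹ * y⁻¹ * r⁻¹ * y⁻¹) := by group
        _ = (y * (r * y * r⁻¹)) * μ.val x * (r * y⁻¹ * r⁻¹ * y⁻¹) := by simp only [rinv]
        _ = _ := by group
    · refine μ.inj _ _ (cConj_lt hε (by norm_num) (lt w hw)) (lt _ hwE) ?_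
      rw [← rconj w (lt w hw), ← yact w hw, ew]
      calc r * (r * y * r⁻¹ * y) * r⁻¹ = r * r * y * r⁻¹ * y * r⁻¹ := by group
        _ = y * (r * y * r⁻¹) := by simp only [r2, rinv, one_mul, mul_assoc]
        _ = _ := by group
    · refine μ.inj _ _ (cMul_lt (cMul_lt (lt w hw) (lt _ hwI)) (lt _ hwE)) (by norm_num) ?_
      rw [μ.mul _ _ (cMul_lt (lt w hw) (lt _ hwI)) (lt _ hwE), μ.mul _ _ (lt w hw) (lt _ hwI),
        μ.val_one, ← yinv w hw, ← yact w hw, ew]
      calc r * y * r⁻¹ * y * (y⁻¹ * (r * y * r⁻¹ * y) * y) * (y * (r * y * r⁻¹ * y) * y⁻¹)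
          = r * y * (r⁻¹ * r) * y * r⁻¹ * (y * y * y) * (r * y * r⁻¹) := by group
        _ = r * y * y * y * r⁻¹ := by
            rw [show y * y * y = 1 by rw [← y3, pow_succ, pow_two]]; group
        _ = r * (y * y * y) * r⁻¹ := by group
        _ = 1 := by rw [show y * y * y = 1 by rw [← y3, pow_succ, pow_two]]; group
  have hw2 := of_not_or (List.all_eq_true.1 (List.all_eq_true.1 wOk_facts s hs) w hw) ok
  rw [Bool.and_eq_true, Bool.or_eq_true, Bool.or_eq_true] at hw2
  have hAA : A = alGens ∨ A = alGens' := by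
    have h : ∀ s ∈ ([(7, 566), (31, 382), (145, 358), (169, 542)] : List (ℕ × ℕ)),
        (Nat.beq s.1 31 = true ∨ Nat.beq s.1 169 = true) →
        ([0, 24, 350, s.1, s.2] : List ℕ) = alGens ∨ ([0, 24, 350, s.1, s.2] : List ℕ) = alGens' := by
      decide +kernel
    exact h s hs hw2.1
  have hA2 : A ∈ ([alGens, alGens'] : List (List ℕ)) := by simpa using hAA
  -- conjugate by an element of the group of order eight
  set e := μ.val 0 with he
  have e2 : e * e = 1 := by
    rw [he, ← μ.mul _ _ (by norm_num) (by norm_num),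
      (eMul_facts.1 0 (by decide) 0 (by decide) 0 hε).2, show eMul 0 0 = 150 from by decide +kernel,
      μ.val_one]
  have einv : e⁻¹ = e := inv_eq_of_mul_eq_one_right e2
  have eM : e ∈ L.M := L.val_mem 0 (by decide)
  obtain ⟨y', hy'M, hy'3, hy'g, hy'r⟩ : ∃ y' ∈ L.M, y' ^ 3 = 1 ∧
      (∀ i < 5, y' * μ.val (wGens.getD i 0) * y'⁻¹ = μ.val (A.getD i 0)) ∧
      r * y' * r⁻¹ * y' = 1 := by
    rcases hw2.2 with h | h <;> obtain rfl := Nat.eq_of_beq_eq_true h
    · exact ⟨y, hy, y3, hgen, by rw [← ew, μ.val_one]⟩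
    · refine ⟨e * y * e, mul_mem (mul_mem eM hy) eM, ?_, fun i hi => ?_, ?_⟩
      · calc (e * y * e) ^ 3 = e * y * (e * e) * y * (e * e) * y * e := by simp [pow_succ, mul_assoc]
          _ = e * y ^ 3 * e := by rw [e2]; simp [pow_succ, mul_assoc]
          _ = 1 := by rw [y3, mul_one, e2]
      · have hg576 := w576 _ (wg i hi)
        have hc := move_facts.1 _ (wg i hi)
        obtain ⟨l1, e1⟩ := act_img hε μ A576 hgen hc
        calc e * y * e * μ.val (wGens.getD i 0) * (e * y * e)⁻¹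
            = e * (y * (e * μ.val (wGens.getD i 0) * e⁻¹) * y⁻¹) * e⁻¹ := by
              simp only [mul_inv_rev, einv, mul_assoc]
          _ = μ.val (cConj 0 0 (img 0 A (cConj 0 0 (wGens.getD i 0)))) := by
              rw [μ.val_conj hε (by norm_num) l1, ← e1, μ.val_conj hε (by norm_num) hg576]
          _ = _ := by rw [move_facts.2.1 A hA2 i hi]
      · have hq0 : cMul 0 (cConj 0 22 0) 0 ∈ e0 := by decide +kernel
        have hqI := (twist_facts.1 _ hq0).2.1
        have hq : μ.val (cMul 0 (cConj 0 22 0) 0) = r * e * r⁻¹ * e := by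
          rw [μ.mul _ _ (cConj_lt hε (by norm_num) (by norm_num)) (by norm_num), rconj 0 (by norm_num)]
        have hm := congrArg μ.val move_facts.2.2
        rw [μ.val_one, μ.mul _ _ (lt _ hq0) (cMul_lt (lt _ hqI) (by norm_num)),
          μ.mul _ _ (lt _ hqI) (by norm_num), ← yinv _ hq0, hq, ← he] at hm
        have hw0 : r * y * r⁻¹ = e * y⁻¹ := by
          calc r * y * r⁻¹ = r * y * r⁻¹ * y * y⁻¹ := by group
            _ = _ := by rw [← ew]
        calc r * (e * y * e) * r⁻¹ * (e * y * e)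
            = (r * e * r⁻¹) * (r * y * r⁻¹) * (r * e * r⁻¹) * e * y * e := by group
          _ = r * e * r⁻¹ * e * (y⁻¹ * (r * e * r⁻¹ * e) * y * e) := by rw [hw0]; group
          _ = 1 := hm
  -- the final fourth power
  have fin : ∀ (ν : Model z 0) (LL : Local ν) (yy : G), yy ∈ LL.M → ν.val 300 ∈ LL.M →
      (∀ i < 5, yy * ν.val (wGens.getD i 0) * yy⁻¹ = ν.val (alGens.getD i 0)) →
      ∃ t, (t = 150 ∨ t = 574) ∧ (ν.val 300 * yy) ^ 4 = ν.val t := by
    intro ν LL yy hyy hu hg
    have hE : ∀ x ∈ e0, yy * ν.val x * yy⁻¹ = ν.val (fE x) := fun x hx => by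
      have hxw : x ∈ wSet ∧ img 0 alGens x = fE x := by
        have h : ∀ x ∈ e0, x ∈ wSet ∧ img 0 alGens x = fE x := by decide +kernel
        exact h x hx
      obtain ⟨-, e1⟩ := act_img hε ν (A := alGens) (by decide) hg hxw.1
      rw [e1, hxw.2]
    set v := ν.val 300 * yy with hv
    have hvc : ∀ x ∈ e0, cConj 0 300 (fE x) ∈ e0 ∧
        v * ν.val x * v⁻¹ = ν.val (cConj 0 300 (fE x)) := fun x hx => by
      refine ⟨?_, ?_⟩
      · have h : ∀ x ∈ e0, cConj 0 300 (fE x) ∈ e0 := by decide +kernel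
        exact h x hx
      · rw [ν.val_conj hε (by norm_num) (lt _ (twist_facts.1 x hx).1), ← hE x hx, hv]
        group
    obtain ⟨t, ht, et⟩ := LL.cent (v ^ 4) (pow_mem (mul_mem hu hyy) 4) fun x hx => by
      obtain ⟨m1, h1⟩ := hvc x hx
      obtain ⟨m2, h2⟩ := hvc _ m1
      obtain ⟨m3, h3⟩ := hvc _ m2
      obtain ⟨-, h4⟩ := hvc _ m3
      have p4 : ∀ x ∈ e0,
          cConj 0 300 (fE (cConj 0 300 (fE (cConj 0 300 (fE (cConj 0 300 (fE x))))))) = x := by
        decide +kernel
      rw [p4 x hx] at h4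
      rw [show v ^ 4 = v * v * v * v by rw [pow_succ, pow_succ, pow_two]]
      calc v * v * v * v * ν.val x =
            v * (v * (v * (v * ν.val x * v⁻¹) * v⁻¹) * v⁻¹) * v⁻¹ * (v * v * v * v) := by group
        _ = _ := by rw [h1, h2, h3, h4]
    refine ⟨t, twist_facts.2 t ht (ν.inj _ _
      (lt _ (hvc t ht).1) (lt t ht) ?_), et.symm⟩
    rw [← (hvc t ht).2, et]; group
  rcases hAA with hA1 | hA1
  · rw [hA1] at hy'g
    obtain ⟨t, ht, et⟩ := fin μ L y' hy'M (memM 300 (by simp)) hy'g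
    exact ⟨μ, L, rfl, ⟨⟨y', hy'M, hy'3, hy'g, hy'r, memM, t, ht, et⟩⟩⟩
  · -- turn the outer element by `z`
    have z2 : z * z = 1 := by
      rw [← μ.val_z, ← μ.mul _ _ (by norm_num) (by norm_num),
        (eMul_facts.1 174 (by decide) 174 (by decide) 0 hε).2,
        show eMul 174 174 = 150 from by decide +kernel, μ.val_one]
    have hcD : ∀ p q, p < 576 → q < 576 → cD (cMul 0 p q) = (cD p + cD q) % 2 := by
      intro p q hp hq
      obtain ⟨la, lb, -⟩ := dec_lt hp
      obtain ⟨lc, le', -⟩ := dec_lt hq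
      have hA : sMul (cA p) (tw (cD p) (cA q)) < 24 := sMul_lt (by omega) (tw_lt (by omega))
      have hB : sMul (cB p) (tw (cD p) (cB q)) < 24 := sMul_lt lb (tw_lt le')
      have := (code_facts ⟨_, hA⟩ ⟨_, hB⟩ ⟨(cD p + cD q) % 2, Nat.mod_lt _ (by norm_num)⟩).2.1
      unfold cMul
      simpa using this
    have flt : ∀ p < 576, flipS p < 576 ∧ μ.val (flipS p) = μ.val p * z ^ cD p := by
      intro p hp
      unfold flipS
      have hd := (dec_lt hp).2.2
      split
      · rename_i h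
        exact ⟨cMul_lt hp (by norm_num), by rw [μ.mul _ _ hp (by norm_num), μ.val_z, h, pow_one]⟩
      · refine ⟨cMul_lt hp (by norm_num), ?_⟩
        rw [μ.mul _ _ hp (by norm_num), μ.val_one, show cD p = 0 by omega, pow_zero]
    have zpow : ∀ a b : ℕ, a < 2 → b < 2 → z ^ ((a + b) % 2) = z ^ a * z ^ b := by
      intro a b ha hb; interval_cases a <;> interval_cases b <;> simp [z2]
    have fmul : ∀ p q, p < 576 → q < 576 →
        μ.val (flipS (cMul 0 p q)) = μ.val (flipS p) * μ.val (flipS q) := by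
      intro p q hp hq
      rw [(flt _ (cMul_lt hp hq)).2, (flt p hp).2, (flt q hq).2, μ.mul p q hp hq, hcD p q hp hq,
        zpow _ _ (dec_lt hp).2.2 (dec_lt hq).2.2]
      have hc : z ^ cD p * μ.val q = μ.val q * z ^ cD p :=
        ((show Commute (μ.val q) z from μ.comm_z hq).pow_right _).symm
      calc μ.val p * μ.val q * (z ^ cD p * z ^ cD q) = μ.val p * (μ.val q * z ^ cD p) * z ^ cD q :=
            by group
        _ = _ := by rw [← hc]; group
    let μ' : Model z 0 :=
      { val := fun p => μ.val (flipS p)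
        mul := fmul
        inj := fun p q hp hq h => by
          have e1 := μ.inj _ _ (flt p hp).1 (flt q hq).1 h
          have hd : cD p = cD q := by
            have h1 := congrArg cD e1
            unfold flipS at h1
            rw [hcD _ _ hp (by split <;> norm_num), hcD _ _ hq (by split <;> norm_num)] at h1
            have dd : ∀ n : ℕ, cD (if n = 1 then 174 else 150) = 0 := fun n => by
              split <;> decide +kernel
            rw [dd, dd] at h1
            have hdp := (dec_lt hp).2.2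
            have hdq := (dec_lt hq).2.2
            omega
          refine μ.inj _ _ hp hq ?_
          rw [(flt p hp).2, (flt q hq).2, hd] at h
          exact mul_right_cancel h
        mem := fun g => ⟨fun hg => by
          obtain ⟨p, hp, rfl⟩ := (μ.mem g).1 hg
          refine ⟨flipS p, (flt p hp).1, ?_⟩
          have hd : cD (flipS p) = cD p := by
            unfold flipS
            rw [hcD _ _ hp (by split <;> norm_num)]
            have hdp := (dec_lt hp).2.2
            split <;> simp [show cD 174 = 0 from rfl, show cD 150 = 0 from rfl] <;> omega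
          show μ.val (flipS (flipS p)) = μ.val p
          rw [(flt _ (flt p hp).1).2, (flt p hp).2, hd, mul_assoc, ← pow_add]
          have hdp := (dec_lt hp).2.2
          interval_cases (cD p) <;> simp [pow_two, z2],
          fun ⟨p, hp, hpg⟩ => hpg ▸ μ.comm_z (flt p hp).1⟩
        val_z := by
          show μ.val (flipS 174) = z
          rw [show flipS 174 = 174 from by decide +kernel, μ.val_z] }
    have fe0 : ∀ x ∈ e0, flipS x = x := by decide +kernel
    let L' : Local μ' :=
      { M := L.M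
        card := L.card
        val_mem := fun x hx => by
          show μ.val (flipS x) ∈ L.M
          rw [fe0 x hx]; exact L.val_mem x hx
        norm := fun g hg x hx => by
          obtain ⟨v, hv, ev⟩ := L.norm g hg x hx
          refine ⟨v, hv, ?_⟩
          show g * μ.val (flipS x) * g⁻¹ = μ.val (flipS v)
          rw [fe0 x hx, fe0 v hv]; exact ev
        cent := fun g hg hx => by
          obtain ⟨v, hv, ev⟩ := L.cent g hg fun x hx' => by
            have := hx x hx'
            change g * μ.val (flipS x) = μ.val (flipS x) * g at this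
            rwa [fe0 x hx'] at this
          exact ⟨v, hv, (congrArg μ.val (fe0 v hv)).trans ev⟩ }
    rw [hA1] at hy'g
    have hA576 : ∀ i < 5, alGens'.getD i 0 < 576 := by decide
    have hg' : ∀ i < 5, y' * μ'.val (wGens.getD i 0) * y'⁻¹ = μ'.val (alGens.getD i 0) := by
      intro i hi
      have hgm : wGens.getD i 0 ∈ wGens := by interval_cases i <;> decide
      have hmem := flip_facts.2.2.2.1 _ hgm
      obtain ⟨l1, e1⟩ := act_img hε μ hA576 hy'g hmem
      show y' * μ.val (flipS (wGens.getD i 0)) * y'⁻¹ = μ.val (flipS (alGens.getD i 0))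
      rw [e1]
      have key : ∀ i < 5, flipS (alGens.getD i 0) = img 0 alGens' (flipS (wGens.getD i 0)) := by
        decide +kernel
      rw [key i hi]
    have hu : μ'.val 300 ∈ L'.M := by
      show μ.val (flipS 300) ∈ L.M
      rw [flip_facts.2.2.2.2.2.1]; exact memM 300 (by simp)
    obtain ⟨t, ht, et⟩ := fin μ' L' y' hy'M hu hg'
    refine ⟨μ', L', rfl, ⟨⟨y', hy'M, hy'3, hg', ?_, ?_, t, ht, et⟩⟩⟩
    · show μ.val (flipS 22) * y' * (μ.val (flipS 22))⁻¹ * y' = 1
      rw [flip_facts.2.2.2.2.1]; exact hy'r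
    · intro p hp
      have hp576 : p < 576 := by revert p; decide
      show μ.val (flipS p) ∈ L.M
      rw [(flt p hp576).2]
      refine mul_mem (memM p hp) (pow_mem ?_ _)
      have hz := L.val_mem 174 (by decide)
      rwa [μ.val_z] at hz

end

end CfsgLib.Recog.GTwoThree
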