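import Cfsg.Agent.Lib.Recog.GTwoThree.Position

/-!
Owner: helper5. Facts on codes used for the extra element of order three.
-/

set_option autoImplicit false
set_option maxRecDepth 100000

namespace CfsgLib.Recog.GTwoThree

/-- The subgroup of order nine generated by `294` and `156`. -/
def pNine : List ℕ := [150, 156, 162, 294, 300, 306, 438, 444, 450]

/-- Its centraliser in the centraliser of the involution. -/
def cNine : List ℕ := pNine ++ [174, 180, 186, 318, 324, 330, 462, 468, 474]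

def pw (x n : ℕ) : ℕ := (List.range n).foldl (fun y _ => cMul 0 y x) 150

theorem cMul0_lt {p q : ℕ} (hp : p < 576) (hq : q < 576) : cMul 0 p q < 576 := by
  obtain ⟨ha, hb, hd⟩ := dec_lt hp
  obtain ⟨ha', hb', hd'⟩ := dec_lt hq
  have key : ∀ a a' b b' : Fin 24, ∀ d : Fin 2,
      sMul a.val (tw d.val a'.val) < 24 ∧ sMul b.val (tw d.val b'.val) < 24 := fun a a' b b' d =>
    ⟨sMul_lt a.isLt (tw_lt a'.isLt), sMul_lt b.isLt (tw_lt b'.isLt)⟩
  obtain ⟨h1, h2⟩ := key ⟨cA p, by omega⟩ ⟨cA q, by omega⟩ ⟨cB p, hb⟩ ⟨cB q, hb'⟩ ⟨cD p, hd⟩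
  have h := (code_facts ⟨_, h1⟩ ⟨_, h2⟩ ⟨(cD p + cD q) % 2, Nat.mod_lt _ (by norm_num)⟩).1
  simpa [cMul] using h

theorem pw_lt {x : ℕ} (hx : x < 576) (n : ℕ) : pw x n < 576 := by
  unfold pw
  induction n with
  | zero => simp
  | succ n ih => rw [List.range_succ, List.foldl_append]; exact cMul0_lt ih hx

theorem nine_lt : (∀ x ∈ pNine, x < 576) ∧ ∀ x ∈ cNine, x < 576 := by decide +kernel

theorem nine_closed : pNine.Nodup ∧ (∀ x ∈ pNine, ∀ y ∈ pNine, cMul 0 x y ∈ pNine) ∧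
    (∀ x ∈ pNine, pw x 3 = 150 ∧ cMul 0 x (pw x 2) = 150 ∧ pw x 2 ∈ pNine) ∧
    (∀ x ∈ pNine, cMul 0 151 x = cMul 0 (pw x 2) 151) ∧
    (∀ x ∈ pNine, cMul 0 x 151 = cMul 0 151 x → x = 150) ∧
    (∀ x ∈ pNine, cMul 0 x 175 = cMul 0 175 x → x = 150) := by decide +kernel

theorem cNine_facts : (∀ x ∈ cNine, pw x 6 = 150) ∧ (∀ x ∈ cNine, cMul 0 x x = 150 → x = 150 ∨ x = 174) ∧
    (∀ x ∈ cNine, pw x 3 = 150 → x ∈ pNine) ∧ 150 ∈ cNine ∧ 174 ∈ cNine := by decide +kernel

theorem centralizer_nine : (∀ x ∈ cNine, cMul 0 x 294 = cMul 0 294 x ∧ cMul 0 x 156 = cMul 0 156 x ∧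
      ∀ y ∈ pNine, cMul 0 x y = cMul 0 y x) ∧
    ((List.range 576).all fun x =>
      !(Nat.beq (cMul 0 x 294) (cMul 0 294 x) && Nat.beq (cMul 0 x 156) (cMul 0 156 x)) ||
        cNine.any fun y => Nat.beq x y) = true := by decide +kernel

theorem normalizer_nine : ((List.range 576).all fun x =>
    !((pNine.any fun a => Nat.beq (cMul 0 x 294) (cMul 0 a x)) &&
      (pNine.any fun a => Nat.beq (cMul 0 x 156) (cMul 0 a x))) ||
      ((cNine.any fun y => Nat.beq x y) || cNine.any fun y => Nat.beq (cMul 0 x 151) y)) = true := by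
  decide +kernel

theorem odd_exponent : ((List.range 576).all fun x =>
    !(Nat.beq (pw x 9) 150) || Nat.beq (pw x 3) 150) = true := by decide +kernel

theorem outer_pair : ∀ v ∈ ([151, 175] : List ℕ), v < 576 ∧ v ∉ e0 ∧ cMul 0 v v = 150 ∧
    cMul 0 v 174 = cMul 0 174 v ∧ cMul 0 v 0 = cMul 0 0 v ∧
    ∀ x ∈ e0, cMul 0 v x = cMul 0 x v ∨ cMul 0 v x = cMul 0 (cMul 0 0 x) v := by decide +kernel

/-- An involution acting on the elementary group of order eight by transvections with centre `174`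
is conjugate to one of its elements. -/
theorem centre_z : ((List.range 576).all fun p =>
    !((Nat.beq (cMul 0 p p) 150 && !(Nat.beq p 150) && !(Nat.beq p 174)) &&
      e0.all fun x => Nat.beq (cMul 0 p x) (cMul 0 x p) || Nat.beq (cMul 0 p x) (cMul 0 (cMul 0 174 x) p)) ||
      ([150, 2, 3] : List ℕ).any fun g => e0.any fun q =>
        Nat.beq (cMul 0 g p) (cMul 0 q g) && !(Nat.beq q 150)) = true := by decide +kernel

end CfsgLib.Recog.GTwoThree
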