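import Cfsg.Agent.Lib.Recog.GTwoThree.Setup
import Cfsg.Agent.Lib.Recog.GTwoThree.ExtraCodes
import Cfsg.Agent.Lib.TwoGroups.PLengthOne
import Cfsg.Agent.Lib.Classical.LinearOrder
import Cfsg.Agent.Lib.Classical.SLGroup
import Cfsg.Agent.Lib.Signalizer.Involutions
import Cfsg.Agent.Lib.Bender.GroupLemmas
import Cfsg.Agent.S3347
import Cfsg.Agent.S0058

/-!
Owner: helper5. An element of order three inverted by the involution and centralising the subgroup of order
nine and one of two further involutions of the centraliser.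

* `exists_conj_z`: those two involutions are conjugate to `z`.
* `not_selfcentral`: the centraliser of the subgroup of order nine is larger than its part in `C(z)`, by the
  theorem on abelian Sylow subgroups with inertial index two.
* `exists_extra`: the element.
-/

set_option autoImplicit false
set_option linter.style.haveILetI false
set_option linter.unusedSectionVars false

namespace CfsgLib.Recog.GTwoThree

open Subgroup
open CfsgLib.Signalizer (orderOf_conj orderOf_eq_two_of)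

variable {G : Type*} [Group G] [Finite G] {z : G} (μ : Model z 0)

namespace Model

theorem one : μ.val 150 = 1 := by
  have h := μ.mul 150 150 (by norm_num) (by norm_num)
  rw [show cMul 0 150 150 = 150 by decide +kernel] at h
  exact left_eq_mul.1 h

theorem pow {x : ℕ} (hx : x < 576) (n : ℕ) : μ.val (pw x n) = μ.val x ^ n := by
  induction n with
  | zero => exact μ.one.trans (pow_zero _).symm
  | succ n ih =>
    have e : pw x (n + 1) = cMul 0 (pw x n) x := by simp [pw, List.range_succ, List.foldl_append]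
    rw [e, μ.mul _ _ (pw_lt hx n) hx, ih, pow_succ]

theorem eq_iff {p q r s : ℕ} (hp : p < 576) (hq : q < 576) (hr : r < 576) (hs : s < 576) :
    μ.val p * μ.val q = μ.val r * μ.val s ↔ cMul 0 p q = cMul 0 r s := by
  rw [← μ.mul p q hp hq, ← μ.mul r s hr hs]
  exact ⟨μ.inj _ _ (cMul0_lt hp hq) (cMul0_lt hr hs), congrArg _⟩

theorem val_eq_one {p : ℕ} (hp : p < 576) : μ.val p = 1 ↔ p = 150 :=
  ⟨fun h => μ.inj p 150 hp (by norm_num) (h.trans μ.one.symm), fun h => h ▸ μ.one⟩

theorem z_sq (μ : Model z 0) : z * z = 1 := by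
  rw [← μ.val_z, ← μ.mul 174 174 (by norm_num) (by norm_num),
    show cMul 0 174 174 = 150 by decide +kernel, μ.one]

theorem z_ne (μ : Model z 0) : z ≠ 1 := fun h => absurd ((μ.val_eq_one (p := 174) (by norm_num)).1
  (μ.val_z.trans h)) (by norm_num)

theorem orderOf_z (μ : Model z 0) : orderOf z = 2 := orderOf_eq_two_of μ.z_ne μ.z_sq

theorem card_cent (μ : Model z 0) : Nat.card (centralizer ({z} : Set G)) = 576 := by
  rw [← Nat.card_fin 576]
  refine (Nat.card_congr (Equiv.ofBijective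
    (fun p : Fin 576 => (⟨μ.val p, mem_centralizer_singleton_iff.2 ((μ.mem _).2 ⟨p, p.isLt, rfl⟩)⟩ :
      centralizer ({z} : Set G))) ⟨fun p q h => ?_, fun g => ?_⟩)).symm
  · exact Fin.ext (μ.inj _ _ p.isLt q.isLt (congrArg Subtype.val h))
  · obtain ⟨p, hp, e⟩ := (μ.mem _).1 (mem_centralizer_singleton_iff.1 g.2)
    exact ⟨⟨p, hp⟩, Subtype.ext e⟩

theorem orderOf_dvd (μ : Model z 0) {g : G} (hg : g * z = z * g) : orderOf g ∣ 576 := by
  rw [← μ.card_cent]
  exact Subgroup.orderOf_dvd_natCard _ (mem_centralizer_singleton_iff.2 hg)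

end Model

variable (L : Local μ)

/-- The local subgroup is transitive on the involutions of the elementary group of order eight. -/
theorem transitive {x : ℕ} (hx : x ∈ e0) (hx1 : x ≠ 150) : ∃ y ∈ L.M, y * μ.val x * y⁻¹ = z := by
  haveI : Fact (Nat.Prime 7) := ⟨by norm_num⟩
  obtain ⟨⟨g, hgM⟩, hg⟩ := exists_prime_orderOf_dvd_card' (G := L.M) 7 (by rw [L.card]; norm_num)
  rw [Subgroup.orderOf_mk] at hg
  have h174 : 174 ∈ e0 := by decide
  have hne : ∀ k : ℕ, ¬ 7 ∣ k → g ^ k * z ≠ z * g ^ k := by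
    intro k hk h
    have ho : orderOf (g ^ k) = 7 := by
      rw [Nat.Coprime.orderOf_pow (by rw [hg]; exact ((by norm_num : Nat.Prime 7).coprime_iff_not_dvd).2 hk), hg]
    have h7 := μ.orderOf_dvd h
    rw [ho] at h7
    norm_num at h7
  have hin : ∀ i : Fin 7, ∃ y ∈ e0.filter (fun y => !(Nat.beq y 150)),
      g ^ (i : ℕ) * z * (g ^ (i : ℕ))⁻¹ = μ.val y := by
    intro i
    obtain ⟨y, hy, e⟩ := L.norm _ (pow_mem hgM i) 174 h174
    rw [μ.val_z] at e
    refine ⟨y, List.mem_filter.2 ⟨hy, ?_⟩, e⟩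
    cases hb : Nat.beq y 150 with
    | false => rfl
    | true =>
      rw [Nat.eq_of_beq_eq_true hb, μ.one, conj_eq_one_iff] at e
      exact absurd e μ.z_ne
  choose f hf hfe using hin
  let F : Fin 7 → {y // y ∈ e0.filter (fun y => !(Nat.beq y 150))} := fun i => ⟨f i, hf i⟩
  have hF : Function.Injective F := by
    have key : ∀ i j : Fin 7, i.val < j.val → f i ≠ f j := by
      intro i j hij e
      have h : g ^ (i : ℕ) * z * (g ^ (i : ℕ))⁻¹ = g ^ (j : ℕ) * z * (g ^ (j : ℕ))⁻¹ := by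
        rw [hfe i, hfe j, e]
      refine hne (j - i : ℕ) (fun hd => ?_) ?_
      · have := Nat.le_of_dvd (by omega) hd; omega
      · have e' : g ^ ((j : ℕ) - i) = (g ^ (i : ℕ))⁻¹ * g ^ (j : ℕ) := by
          rw [eq_inv_mul_iff_mul_eq, ← pow_add]; congr 1; omega
        rw [e']
        calc (g ^ (i : ℕ))⁻¹ * g ^ (j : ℕ) * z
            = (g ^ (i : ℕ))⁻¹ * (g ^ (j : ℕ) * z * (g ^ (j : ℕ))⁻¹) * g ^ (j : ℕ) := by group
          _ = (g ^ (i : ℕ))⁻¹ * (g ^ (i : ℕ) * z * (g ^ (i : ℕ))⁻¹) * g ^ (j : ℕ) := by rw [h]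
          _ = _ := by group
    intro i j h
    by_contra hne'
    rcases lt_or_gt_of_ne (fun e => hne' (Fin.ext e)) with hlt | hlt
    · exact key i j hlt (congrArg Subtype.val h)
    · exact key j i hlt (congrArg Subtype.val h).symm
  have hcard : Nat.card {y // y ∈ e0.filter (fun y => !(Nat.beq y 150))} = 7 := by
    rw [Nat.card_congr (Equiv.subtypeEquivRight (fun y => List.mem_toFinset.symm)), Nat.card_eq_fintype_card,
      Fintype.card_coe]
    decide
  haveI : Finite {y // y ∈ e0.filter (fun y => !(Nat.beq y 150))} := Nat.finite_of_card_ne_zero (by omega)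
  obtain ⟨i, hi⟩ := (hF.bijective_of_nat_card_le (by rw [hcard, Nat.card_fin])).2
    ⟨x, List.mem_filter.2 ⟨hx, by
      cases hb : Nat.beq x 150 with
      | false => rfl
      | true => exact absurd (Nat.eq_of_beq_eq_true hb) hx1⟩⟩
  refine ⟨(g ^ (i : ℕ))⁻¹, inv_mem (pow_mem hgM i), ?_⟩
  rw [← show f i = x from congrArg Subtype.val hi, ← hfe i]
  group

theorem beqT {a b : ℕ} (h : a = b) : Nat.beq a b = true := h ▸ Nat.beq_refl a

theorem e0_lt {x : ℕ} (hx : x ∈ e0) : x < 576 := (e0_facts.1 x hx).1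

include L in
/-- The two further involutions are conjugate to `z`. -/
theorem exists_conj_z {v : ℕ} (hv : v ∈ ([151, 175] : List ℕ)) : ∃ k : G, k * μ.val v * k⁻¹ = z := by
  obtain ⟨hv576, hve0, hvv, hvz, hv0, hvx⟩ := outer_pair v hv
  have h0 : 0 ∈ e0 := by decide
  obtain ⟨y, hy, hy0⟩ := transitive μ L h0 (by norm_num)
  set x' := y * μ.val v * y⁻¹ with hx'
  have hcz : x' * z = z * x' := by
    suffices h : x' * (y * μ.val 0 * y⁻¹) = y * μ.val 0 * y⁻¹ * x' by rwa [hy0] at h
    rw [hx']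
    calc y * μ.val v * y⁻¹ * (y * μ.val 0 * y⁻¹) = y * (μ.val v * μ.val 0) * y⁻¹ := by group
      _ = y * (μ.val 0 * μ.val v) * y⁻¹ := by rw [(μ.eq_iff hv576 (by norm_num) (by norm_num) hv576).2 hv0]
      _ = _ := by group
  obtain ⟨p, hp, hpe⟩ := (μ.mem _).1 hcz
  have hvsq : μ.val v * μ.val v = 1 := by rw [← μ.mul v v hv576 hv576, hvv, μ.one]
  have hpp : cMul 0 p p = 150 := by
    refine μ.inj _ _ (cMul0_lt hp hp) (by norm_num) ?_
    rw [μ.mul p p hp hp, hpe, μ.one, hx']
    calc y * μ.val v * y⁻¹ * (y * μ.val v * y⁻¹) = y * (μ.val v * μ.val v) * y⁻¹ := by group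
      _ = 1 := by rw [hvsq, mul_one, mul_inv_cancel]
  have hnot : ∀ q ∈ e0, p ≠ q := by
    intro q hq e
    obtain ⟨q', hq', e'⟩ := L.norm y⁻¹ (inv_mem hy) q hq
    refine hve0 (?_ : v ∈ e0)
    have : μ.val v = μ.val q' := by
      rw [← e', ← e, hpe, hx']; group
    rwa [μ.inj v q' hv576 (e0_lt hq') this]
  have hall : (e0.all fun x =>
      Nat.beq (cMul 0 p x) (cMul 0 x p) || Nat.beq (cMul 0 p x) (cMul 0 (cMul 0 174 x) p)) = true := by
    refine List.all_eq_true.2 fun x hx => ?_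
    have hx576 := e0_lt hx
    obtain ⟨w, hw, ew⟩ := L.norm y⁻¹ (inv_mem hy) x hx
    have hw576 := e0_lt hw
    have ex : μ.val x = y * μ.val w * y⁻¹ := by rw [← ew]; group
    rw [Bool.or_eq_true]
    rcases hvx w hw with h | h
    · left
      have h' := (μ.eq_iff hv576 hw576 hw576 hv576).2 h
      refine beqT ((μ.eq_iff hp hx576 hx576 hp).1 ?_)
      rw [hpe, hx', ex]
      calc y * μ.val v * y⁻¹ * (y * μ.val w * y⁻¹) = y * (μ.val v * μ.val w) * y⁻¹ := by group
        _ = y * (μ.val w * μ.val v) * y⁻¹ := by rw [h']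
        _ = _ := by group
    · right
      have h' := (μ.eq_iff hv576 hw576 (cMul0_lt (by norm_num) hw576) hv576).2 h
      rw [μ.mul 0 w (by norm_num) hw576] at h'
      refine beqT ((μ.eq_iff hp hx576 (cMul0_lt (by norm_num) hx576) hp).1 ?_)
      rw [μ.mul 174 x (by norm_num) hx576, μ.val_z, hpe, hx', ex]
      refine Eq.trans ?_ (congrArg (fun t => t * (y * μ.val w * y⁻¹) * (y * μ.val v * y⁻¹)) hy0)
      calc y * μ.val v * y⁻¹ * (y * μ.val w * y⁻¹) = y * (μ.val v * μ.val w) * y⁻¹ := by group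
        _ = y * (μ.val 0 * μ.val w * μ.val v) * y⁻¹ := by rw [h']
        _ = _ := by group
  have hc := List.all_eq_true.1 centre_z p (List.mem_range.2 hp)
  have hb : ∀ q, p ≠ q → Nat.beq p q = false := fun q h => by
    cases hb : Nat.beq p q with
    | false => rfl
    | true => exact absurd (Nat.eq_of_beq_eq_true hb) h
  rw [hall, hb 150 (hnot 150 (by decide)), hb 174 (hnot 174 (by decide)),
    show Nat.beq (cMul 0 p p) 150 = true from beqT hpp] at hc
  simp only [Bool.not_true, Bool.not_false, Bool.and_self, Bool.false_or, List.any_eq_true,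
    Bool.and_eq_true] at hc
  obtain ⟨g, hg, q, hq, he, hq1⟩ := hc
  have hq150 : q ≠ 150 := fun e => by subst e; simp at hq1
  have hg576 : g < 576 := by simp only [List.mem_cons, List.not_mem_nil, or_false] at hg; omega
  obtain ⟨y', -, hy'⟩ := transitive μ L hq hq150
  refine ⟨y' * μ.val g * y, ?_⟩
  have h := (μ.eq_iff hg576 hp (e0_lt hq) hg576).2 (Nat.eq_of_beq_eq_true he)
  calc y' * μ.val g * y * μ.val v * (y' * μ.val g * y)⁻¹
      = y' * (μ.val g * μ.val p) * (μ.val g)⁻¹ * y'⁻¹ := by rw [hpe, hx']; group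
    _ = y' * (μ.val q * μ.val g) * (μ.val g)⁻¹ * y'⁻¹ := by rw [h]
    _ = y' * μ.val q * y'⁻¹ := by group
    _ = z := hy'

/-- The subgroup of order nine. -/
def nineG : Subgroup G where
  carrier := {g | ∃ x ∈ pNine, μ.val x = g}
  one_mem' := ⟨150, by decide, μ.one⟩
  mul_mem' := by
    rintro _ _ ⟨x, hx, rfl⟩ ⟨y, hy, rfl⟩
    exact ⟨_, nine_closed.2.1 x hx y hy, μ.mul x y (nine_lt.1 x hx) (nine_lt.1 y hy)⟩
  inv_mem' := by
    rintro _ ⟨x, hx, rfl⟩
    obtain ⟨-, h2, h3⟩ := nine_closed.2.2.1 x hx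
    refine ⟨_, h3, eq_inv_of_mul_eq_one_right ?_⟩
    rw [← μ.mul _ _ (nine_lt.1 x hx) (pw_lt (nine_lt.1 x hx) 2), h2, μ.one]

theorem card_nineG : Nat.card (nineG μ) = 9 := by
  have h : Nat.card {x // x ∈ pNine} = 9 := by
    rw [Nat.card_congr (Equiv.subtypeEquivRight (fun y => List.mem_toFinset.symm)), Nat.card_eq_fintype_card,
      Fintype.card_coe]
    decide
  rw [← h]
  refine (Nat.card_congr (Equiv.ofBijective
    (fun x => (⟨μ.val x.1, x.1, x.2, rfl⟩ : nineG μ)) ⟨fun x y e => ?_, fun g => ?_⟩)).symm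
  · exact Subtype.ext (μ.inj _ _ (nine_lt.1 _ x.2) (nine_lt.1 _ y.2) (congrArg Subtype.val e))
  · obtain ⟨x, hx, e⟩ := g.2
    exact ⟨⟨x, hx⟩, Subtype.ext e⟩

theorem nine_pow {g : G} (hg : g ∈ nineG μ) : g ^ 3 = 1 := by
  obtain ⟨x, hx, rfl⟩ := hg
  rw [← μ.pow (nine_lt.1 x hx), (nine_closed.2.2.1 x hx).1, μ.one]

/-- The elements centralising the subgroup of order nine and `z`. -/
theorem cent_cases {g : G} (hg : g ∈ centralizer (nineG μ : Set G)) (hz : g * z = z * g) :
    ∃ x ∈ cNine, μ.val x = g := by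
  obtain ⟨p, hp, rfl⟩ := (μ.mem g).1 hz
  have h1 := (μ.eq_iff hp (by norm_num) (by norm_num) hp).1
    (mem_centralizer_iff.1 hg _ ⟨294, by decide, rfl⟩).symm
  have h2 := (μ.eq_iff hp (by norm_num) (by norm_num) hp).1
    (mem_centralizer_iff.1 hg _ ⟨156, by decide, rfl⟩).symm
  have h := List.all_eq_true.1 centralizer_nine.2 p (List.mem_range.2 hp)
  rw [h1, h2] at h
  simp only [Nat.beq_refl, Bool.and_self, Bool.not_true, Bool.false_or, List.any_eq_true] at h
  obtain ⟨y, hy, e⟩ := h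
  exact ⟨p, Nat.eq_of_beq_eq_true e ▸ hy, rfl⟩

theorem mem_cent_of_code {x : ℕ} (hx : x ∈ cNine) : μ.val x ∈ centralizer (nineG μ : Set G) := by
  refine mem_centralizer_iff.2 ?_
  rintro _ ⟨y, hy, rfl⟩
  exact ((μ.eq_iff (nine_lt.2 x hx) (nine_lt.1 y hy) (nine_lt.1 y hy) (nine_lt.2 x hx)).2
    ((centralizer_nine.1 x hx).2.2 y hy)).symm

theorem nineG_le_cent : nineG μ ≤ centralizer (nineG μ : Set G) := by
  rintro _ ⟨x, hx, rfl⟩
  exact mem_cent_of_code μ (List.mem_append_left _ hx)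

theorem z_mem_cent : z ∈ centralizer (nineG μ : Set G) := by
  have h := mem_cent_of_code μ (x := 174) (by decide)
  rwa [μ.val_z] at h

theorem s_invert {g : G} (hg : g ∈ nineG μ) : μ.val 151 * g * (μ.val 151)⁻¹ = g⁻¹ := by
  obtain ⟨x, hx, rfl⟩ := hg
  obtain ⟨-, h2, h3⟩ := nine_closed.2.2.1 x hx
  rw [mul_inv_eq_iff_eq_mul, show (μ.val x)⁻¹ = μ.val (pw x 2) from
    (eq_inv_of_mul_eq_one_right (by rw [← μ.mul _ _ (nine_lt.1 x hx) (pw_lt (nine_lt.1 x hx) 2), h2, μ.one])).symm]
  exact (μ.eq_iff (by norm_num) (nine_lt.1 x hx) (pw_lt (nine_lt.1 x hx) 2) (by norm_num)).2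
    (nine_closed.2.2.2.1 x hx)

theorem s_mem_normalizer : μ.val 151 ∈ normalizer (nineG μ : Set G) := by
  refine Bender.mem_normalizer_of_map_conj_eq (eq_of_le_of_card_ge ?_
    (by rw [card_map_of_injective (MulAut.conj _).injective]))
  rintro _ ⟨g, hg, rfl⟩
  show μ.val 151 * g * (μ.val 151)⁻¹ ∈ _
  rw [s_invert μ hg]
  exact inv_mem hg

variable {μ}

/-- The normal complement of the involution in the centraliser of the subgroup of order nine. -/
theorem exists_complement :
    ∃ W : Subgroup G, W ≤ centralizer (nineG μ : Set G) ∧ nineG μ ≤ W ∧ Odd (Nat.card W) ∧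
      (∀ g ∈ centralizer (nineG μ : Set G), g ∈ W ↔ Odd (orderOf g)) ∧
      Nat.card (centralizer (nineG μ : Set G)) = 2 * Nat.card W := by
  classical
  haveI := Fact.mk Nat.prime_two
  set C := centralizer (nineG μ : Set G) with hCdef
  set zC : C := ⟨z, z_mem_cent μ⟩ with hzC
  have hzo : orderOf zC = 2 := by rw [← Subgroup.orderOf_coe]; exact μ.orderOf_z
  obtain ⟨Q, hQ⟩ := (IsPGroup.of_card (p := 2) (n := 1) (G := zpowers zC)
    (by rw [Nat.card_zpowers, hzo, pow_one])).exists_le_sylow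
  have hQe : (Q : Subgroup C) = zpowers zC := by
    by_contra hne
    have hlt : zpowers zC < (Q : Subgroup C) := lt_of_le_of_ne hQ (Ne.symm hne)
    have hn := (normalizerCondition_of_isNilpotent (G := (Q : Subgroup C))
      (h := Q.isPGroup'.isNilpotent)) ((zpowers zC).subgroupOf Q) (lt_top_iff_ne_top.2 fun e =>
        hne (le_antisymm (subgroupOf_eq_top.1 e) hQ))
    obtain ⟨⟨u, huQ⟩, hun, hu⟩ := SetLike.exists_of_lt hn
    have huz : u * zC * u⁻¹ ∈ zpowers zC :=
      mem_subgroupOf.1 ((mem_normalizer_iff.1 hun (⟨zC, hQ (mem_zpowers _)⟩ : (Q : Subgroup C))).1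
        (mem_subgroupOf.2 (mem_zpowers _)))
    obtain ⟨k, hk⟩ := mem_powers_iff_mem_zpowers.2 huz
    have hzC2 : zC ^ 2 = 1 := Subtype.ext (by simpa [hzC, pow_two] using μ.z_sq)
    have hk' : u * zC * u⁻¹ = zC := by
      rw [← hk]
      show zC ^ k = zC
      rw [pow_eq_pow_mod k hzC2]
      rcases Nat.mod_two_eq_zero_or_one k with h | h <;> rw [h]
      · exfalso
        have h1 : u * zC * u⁻¹ = 1 := by
          rw [← hk]
          show zC ^ k = 1
          rw [pow_eq_pow_mod k hzC2, h, pow_zero]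
        rw [conj_eq_one_iff] at h1
        exact μ.z_ne (congrArg Subtype.val h1)
      · exact pow_one _
    have hcomm : (u : G) * z = z * u := congrArg Subtype.val (mul_inv_eq_iff_eq_mul.1 hk')
    obtain ⟨x, hx, hxe⟩ := cent_cases μ u.2 hcomm
    obtain ⟨j, hj⟩ := Q.isPGroup' ⟨u, huQ⟩
    have hu2 : (u : G) * u = 1 := by
      have h6 : (u : G) ^ 6 = 1 := by rw [← hxe, ← μ.pow (nine_lt.2 x hx), cNine_facts.1 x hx, μ.one]
      have hj' : (u : G) ^ 2 ^ j = 1 := congrArg (fun w : (Q : Subgroup C) => ((w : C) : G)) hj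
      have hg := (pow_gcd_eq_one (a := (u : G))).2 ⟨h6, hj'⟩
      have : Nat.gcd 6 (2 ^ j) ∣ 2 := by
        have hd : Nat.Coprime (Nat.gcd 6 (2 ^ j)) 3 :=
          Nat.Coprime.coprime_dvd_left (Nat.gcd_dvd_right _ _) (Nat.Coprime.pow_left j (by norm_num))
        exact hd.dvd_of_dvd_mul_right (k := Nat.gcd 6 (2 ^ j)) (m := 2) (n := 3) (Nat.gcd_dvd_left 6 _)
      obtain ⟨c, hc⟩ := this
      rw [← pow_two, hc, pow_mul, hg, one_pow]
    rw [← hxe, ← μ.mul x x (nine_lt.2 x hx) (nine_lt.2 x hx),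
      μ.val_eq_one (cMul0_lt (nine_lt.2 x hx) (nine_lt.2 x hx))] at hu2
    refine hu (mem_subgroupOf.2 ?_)
    show u ∈ zpowers zC
    rcases cNine_facts.2.1 x hx hu2 with rfl | rfl
    · rw [show u = 1 from Subtype.ext (hxe.symm.trans μ.one)]; exact one_mem _
    · rw [show u = zC from Subtype.ext (hxe.symm.trans μ.val_z)]; exact mem_zpowers _
  haveI : IsCyclic (Q : Subgroup C) := hQe ▸ inferInstance
  have hQ2 : Nat.card (Q : Subgroup C) = 2 := by rw [hQe, Nat.card_zpowers, hzo]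
  have hmin : (Nat.card C).minFac = 2 :=
    (Nat.minFac_eq_two_iff _).2 (hQ2 ▸ Subgroup.card_subgroup_dvd_card _)
  have hcp := IsCyclic.isComplement' hmin (P := Q) ‹_›
  set N := (MonoidHom.transferSylow Q _).ker with hNdef
  haveI hNn : N.Normal := MonoidHom.normal_ker _
  have hNodd : Odd (Nat.card N) := by
    rw [← Nat.not_even_iff_odd, even_iff_two_dvd]
    exact MonoidHom.not_dvd_card_ker_transferSylow Q _
  have hcardC : Nat.card C = 2 * Nat.card N := by rw [← hcp.card_mul_card, hQ2, mul_comm]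
  have hmem : ∀ g : C, g ∈ N ↔ Odd (orderOf g) := by
    refine fun g => ⟨fun h => hNodd.of_dvd_nat (Subgroup.orderOf_dvd_natCard N h), fun h => ?_⟩
    rw [← QuotientGroup.eq_one_iff, ← orderOf_eq_one_iff]
    have h1 : orderOf (g : C ⧸ N) ∣ orderOf g := orderOf_map_dvd (QuotientGroup.mk' N) g
    have h2 : orderOf (g : C ⧸ N) ∣ 2 := by
      refine (_root_.orderOf_dvd_natCard _).trans (dvd_of_eq ?_)
      have := N.card_mul_index
      rw [hcardC, index_eq_card] at this
      have hpos : 0 < Nat.card N := Nat.card_pos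
      rw [mul_comm 2] at this
      exact Nat.eq_of_mul_eq_mul_left hpos this
    exact Nat.eq_one_of_dvd_coprimes (Nat.coprime_two_left.2 h) h2 h1
  refine ⟨N.map C.subtype, map_subtype_le N, fun g hg => ?_, ?_, fun g hg => ?_, ?_⟩
  · refine ⟨⟨g, nineG_le_cent μ hg⟩, (hmem _).2 ?_, rfl⟩
    rw [← Subgroup.orderOf_coe]
    exact (by decide : Odd 3).of_dvd_nat (orderOf_dvd_of_pow_eq_one (nine_pow μ hg))
  · rwa [card_map_of_injective C.subtype_injective]
  · constructor
    · rintro ⟨g', hg', rfl⟩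
      rw [coe_subtype, Subgroup.orderOf_coe]
      exact (hmem g').1 hg'
    · intro h
      exact ⟨⟨g, hg⟩, (hmem _).2 (by rwa [← Subgroup.orderOf_coe]), rfl⟩
  · rw [card_map_of_injective C.subtype_injective, hcardC]

include L in
/-- The centraliser of the subgroup of order nine is larger than eighteen. -/
theorem not_selfcentral [(Cfsg.pCore 2 ↥L.M).Normal]
    (hM : Nonempty ((↥L.M ⧸ Cfsg.pCore 2 ↥L.M) ≃* Matrix.SpecialLinearGroup (Fin 3) (ZMod 2)))
    {W : Subgroup G} (hW : W = nineG μ) (hWC : ∀ g ∈ centralizer (nineG μ : Set G), g ∈ W ↔ Odd (orderOf g))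
    (hcard : Nat.card (centralizer (nineG μ : Set G)) = 2 * Nat.card W) : False := by
  classical
  haveI : Fact (Nat.Prime 3) := ⟨Nat.prime_three⟩
  rw [hW, card_nineG] at hcard
  set C := centralizer (nineG μ : Set G) with hCdef
  -- `z` is the only involution of `C`
  have hinv : ∀ g ∈ C, orderOf g = 2 → g = z := by
    intro g hg hg2
    have hC18 : ∀ c ∈ C, ∃ a ∈ nineG μ, c = a ∨ c = a * z := by
      let f : Bool × nineG μ → C := fun a => ⟨if a.1 then a.2 * z else a.2, by
        by_cases h : a.1 = true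
        · simp only [h, if_true]; exact mul_mem (nineG_le_cent μ a.2.2) (z_mem_cent μ)
        · simp only [h]; exact nineG_le_cent μ a.2.2⟩
      have hzP : z ∉ nineG μ := fun h => μ.z_ne (by
        have h3 := nine_pow μ h
        rwa [pow_succ, pow_two, μ.z_sq, one_mul] at h3)
      have hf : Function.Injective f := by
        rintro ⟨a, u⟩ ⟨b, v⟩ h
        have h' := congrArg Subtype.val h
        rcases a with _ | _ <;> rcases b with _ | _ <;> simp [f] at h'
        · subst h'; rfl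
        · exact absurd (by have h3 := mul_mem (inv_mem v.2) u.2; rwa [h', inv_mul_cancel_left] at h3) hzP
        · exact absurd (by have h3 := mul_mem (inv_mem u.2) v.2; rwa [← h', inv_mul_cancel_left] at h3) hzP
        · subst h'; rfl
      intro c hc
      obtain ⟨⟨b, u⟩, hu⟩ := (hf.bijective_of_nat_card_le (by
        rw [Nat.card_prod, card_nineG, hcard]; simp)).2 ⟨c, hc⟩
      have h' := congrArg Subtype.val hu
      rcases b with _ | _
      · exact ⟨u, u.2, Or.inl (by simpa [f] using h'.symm)⟩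
      · exact ⟨u, u.2, Or.inr (by simpa [f] using h'.symm)⟩
    obtain ⟨a, ha, h⟩ := hC18 g hg
    rcases h with rfl | rfl
    · exfalso
      have h3 := orderOf_dvd_of_pow_eq_one (nine_pow μ ha)
      rw [hg2] at h3
      norm_num at h3
    · have hcomm : a * z = z * a := mem_centralizer_iff.1 (z_mem_cent μ) a ha
      have h2 : (a * z) ^ 2 = 1 := by rw [← hg2]; exact pow_orderOf_eq_one _
      rw [(show Commute a z from hcomm).mul_pow, pow_two z, μ.z_sq, mul_one] at h2
      have h1 := (pow_gcd_eq_one (a := a)).2 ⟨h2, nine_pow μ ha⟩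
      rw [show Nat.gcd 2 3 = 1 by decide, pow_one] at h1
      rw [h1, one_mul]
  have hNz : ∀ n ∈ normalizer (nineG μ : Set G), n * z = z * n := by
    intro n hn
    have hconj : n * z * n⁻¹ ∈ C := mem_centralizer_iff.2 fun a ha => by
      have ha' := (mem_normalizer_iff''.1 hn a).1 ha
      have h := mem_centralizer_iff.1 (z_mem_cent μ) _ ha'
      calc a * (n * z * n⁻¹) = n * (n⁻¹ * a * n * z) * n⁻¹ := by group
        _ = n * (z * (n⁻¹ * a * n)) * n⁻¹ := by rw [h]
        _ = _ := by group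
    exact mul_inv_eq_iff_eq_mul.1 (hinv _ hconj (by rw [orderOf_conj]; exact μ.orderOf_z))
  -- a Sylow 3-subgroup
  obtain ⟨P, hP⟩ := (IsPGroup.of_card (p := 3) (n := 2) (G := nineG μ) (card_nineG μ)).exists_le_sylow
  have hPe : (P : Subgroup G) = nineG μ := by
    by_contra hne
    haveI := P.isPGroup'.isNilpotent
    have hn := normalizerCondition_of_isNilpotent (G := (P : Subgroup G)) ((nineG μ).subgroupOf P)
      (lt_top_iff_ne_top.2 fun e => hne (le_antisymm (subgroupOf_eq_top.1 e) hP))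
    set N := normalizer (((nineG μ).subgroupOf (P : Subgroup G) : Subgroup (P : Subgroup G)) : Set (P : Subgroup G))
    have hNle : N.map (P : Subgroup G).subtype ≤ centralizer ({z} : Set G) := by
      rintro _ ⟨⟨u, huP⟩, hu, rfl⟩
      refine mem_centralizer_singleton_iff.2 (hNz u (Bender.mem_normalizer_of_map_conj_eq (eq_of_le_of_card_ge ?_
        (by rw [card_map_of_injective (MulAut.conj u).injective]))))
      rintro _ ⟨a, ha, rfl⟩
      exact mem_subgroupOf.1 ((mem_normalizer_iff.1 hu ⟨a, hP ha⟩).1 (mem_subgroupOf.2 ha))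
    have hd : Nat.card (N.map (P : Subgroup G).subtype) ∣ 576 :=
      μ.card_cent ▸ Subgroup.card_dvd_of_le hNle
    obtain ⟨k, hk⟩ := (P.isPGroup'.to_le (map_subtype_le N)).exists_card_eq
    have hgt : 9 < Nat.card (N.map (P : Subgroup G).subtype) := by
      rw [card_map_of_injective (P : Subgroup G).subtype_injective, ← card_nineG μ,
        ← Nat.card_congr (subgroupOfEquivOfLe hP).toEquiv]
      refine lt_of_le_of_ne (Nat.le_of_dvd Nat.card_pos (Subgroup.card_dvd_of_le hn.le)) fun e => hn.ne (eq_of_le_of_card_ge hn.le e.ge)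
    rw [hk] at hd hgt
    have hk3 : 3 ≤ k := by
      by_contra hlt
      have := Nat.pow_le_pow_right (n := 3) (by norm_num) (show k ≤ 2 by omega)
      omega
    have := (pow_dvd_pow 3 hk3).trans hd
    norm_num at this
  -- the theorem on inertial index two
  have hab : IsMulCommutative (P : Subgroup G) := ⟨⟨fun a b => Subtype.ext
    (mem_centralizer_iff.1 (nineG_le_cent μ (hPe ▸ b.2)) a (hPe ▸ a.2))⟩⟩
  have hnc : ¬ IsCyclic (P : Subgroup G) := by
    intro hc
    obtain ⟨a, ha⟩ := hc.exists_ofOrder_eq_natCard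
    have h9 : Nat.card (P : Subgroup G) = 9 := by rw [hPe]; exact card_nineG μ
    have h3 := orderOf_dvd_of_pow_eq_one (Subtype.ext (nine_pow μ (hPe ▸ a.2)) : a ^ 3 = 1)
    rw [ha, h9] at h3
    norm_num at h3
  have hidx : ((centralizer ((P : Subgroup G) : Set G)).subgroupOf
      (normalizer ((P : Subgroup G) : Set G))).index = 2 := by
    rw [Subgroup.index_eq_two_iff]
    refine ⟨⟨μ.val 151, by rw [hPe]; exact s_mem_normalizer μ⟩, fun b => ?_⟩
    obtain ⟨b, hb⟩ := b
    simp only [mem_subgroupOf, Subgroup.coe_mul]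
    rw [hPe] at hb ⊢
    have hs : μ.val 151 ∉ centralizer (nineG μ : Set G) := by
      intro h
      have h' := mem_centralizer_iff.1 h _ (⟨294, by decide, rfl⟩ : μ.val 294 ∈ nineG μ)
      exact absurd ((μ.eq_iff (by norm_num) (by norm_num) (by norm_num) (by norm_num)).1 h') (by decide +kernel)
    have hcase : b ∈ centralizer (nineG μ : Set G) ∨ b * μ.val 151 ∈ centralizer (nineG μ : Set G) := by
      obtain ⟨p, hp, rfl⟩ := (μ.mem b).1 (hNz b hb)
      have hmem : ∀ c ∈ pNine, (pNine.any fun a => Nat.beq (cMul 0 p c) (cMul 0 a p)) = true := by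
        intro c hc
        obtain ⟨a, ha, e⟩ := (mem_normalizer_iff.1 hb _).1 (⟨c, hc, rfl⟩ : μ.val c ∈ nineG μ)
        refine List.any_eq_true.2 ⟨a, ha, beqT
          ((μ.eq_iff hp (nine_lt.1 c hc) (nine_lt.1 a ha) hp).1 ?_)⟩
        rw [e]; group
      have h := List.all_eq_true.1 normalizer_nine p (List.mem_range.2 hp)
      rw [hmem 294 (by decide), hmem 156 (by decide)] at h
      simp only [Bool.and_self, Bool.not_true, Bool.false_or, Bool.or_eq_true, List.any_eq_true] at h
      rcases h with ⟨y, hy, e⟩ | ⟨y, hy, e⟩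
      · exact Or.inl (mem_cent_of_code μ (Nat.eq_of_beq_eq_true e ▸ hy))
      · refine Or.inr ?_
        rw [← μ.mul p 151 hp (by norm_num), Nat.eq_of_beq_eq_true e]
        exact mem_cent_of_code μ hy
    rcases hcase with h | h
    · exact Or.inr ⟨h, fun h' => hs (by simpa using mul_mem (inv_mem h) h')⟩
    · exact Or.inl ⟨h, fun h' => hs (by simpa using mul_mem (inv_mem h') h)⟩
  -- both alternatives fail
  rcases Cfsg.Agent.S3347.result 3 (by norm_num) P hab hnc hidx with hres | hpl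
  · refine hres (Subgroup.card_eq_iff_eq_top _ |>.1 (Nat.dvd_antisymm (Subgroup.card_subgroup_dvd_card _) ?_))
    refine (Nat.factorization_le_iff_dvd Nat.card_pos.ne' Nat.card_pos.ne').1 fun q => ?_
    by_cases hq : q.Prime
    swap
    · rw [Nat.factorization_eq_zero_of_not_prime _ hq]; exact Nat.zero_le _
    haveI := Fact.mk hq
    have key : ∀ Q : Sylow q G, (Q : Subgroup G) ≤ Cfsg.pResidual 3 G →
        (Nat.card G).factorization q ≤ (Nat.card ↥(Cfsg.pResidual 3 G)).factorization q := fun Q hQ =>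
      (hq.pow_dvd_iff_le_factorization Nat.card_pos.ne').1
        (Q.card_eq_multiplicity ▸ Subgroup.card_dvd_of_le hQ)
    by_cases h3 : q = 3
    · subst h3
      refine key P fun a ha => ?_
      rw [hPe] at ha
      have hs2 : orderOf (μ.val 151) = 2 := by
        refine orderOf_eq_two_of (fun e => absurd ((μ.val_eq_one (by norm_num)).1 e) (by norm_num)) ?_
        rw [← μ.mul 151 151 (by norm_num) (by norm_num), show cMul 0 151 151 = 150 by decide +kernel, μ.one]
      have hi := CfsgLib.Signalizer.involution_inv hs2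
      have has : orderOf (a * μ.val 151) ∣ 2 := orderOf_dvd_of_pow_eq_one (by
        rw [pow_two]
        calc a * μ.val 151 * (a * μ.val 151) = a * (μ.val 151 * a * μ.val 151) := by group
          _ = a * (μ.val 151 * a * (μ.val 151)⁻¹) := by rw [hi]
          _ = 1 := by rw [s_invert μ ha, mul_inv_cancel])
      have hmem : ∀ g : G, orderOf g ∣ 2 → g ∈ Cfsg.pResidual 3 G := fun g hg =>
        subset_closure (Nat.Coprime.coprime_dvd_left hg (by norm_num : Nat.Coprime 2 3))
      have := mul_mem (hmem _ has) (inv_mem (hmem _ hs2.dvd))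
      rwa [mul_inv_cancel_right] at this
    · obtain ⟨Q⟩ : Nonempty (Sylow q G) := inferInstance
      refine key Q fun a ha => subset_closure ?_
      obtain ⟨k, hk⟩ := Q.isPGroup' ⟨a, ha⟩
      exact Nat.Coprime.coprime_dvd_left (orderOf_dvd_of_pow_eq_one (congrArg Subtype.val hk))
        (((Nat.coprime_primes hq Nat.prime_three).2 h3).pow_left k)
  · obtain ⟨e⟩ := hM
    have hbot : center (Matrix.SpecialLinearGroup (Fin 3) (ZMod 2)) = ⊥ := by
      rw [← Subgroup.card_eq_one, CfsgLib.Classical.card_center_SL, Fintype.card_fin, ZMod.card]; rfl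
    haveI := CfsgLib.Classical.isSimpleGroup_PSL (F := ZMod 2) (n := 3) le_rfl
    haveI : IsSimpleGroup (Matrix.SpecialLinearGroup (Fin 3) (ZMod 2)) :=
      ((QuotientGroup.quotientMulEquivOfEq hbot).trans QuotientGroup.quotientBot).symm.isSimpleGroup
    haveI : IsSimpleGroup (↥L.M ⧸ Cfsg.pCore 2 ↥L.M) := e.isSimpleGroup
    have h := (TwoGroups.PLengthOne.iff_index (G := L.M) (p := 3)).1 (TwoGroups.PLengthOne.subgroup hpl L.M)
    set π := QuotientGroup.mk' (Cfsg.pCore 2 ↥L.M)
    have hπ : Function.Surjective π := QuotientGroup.mk'_surjective _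
    have hQc : Nat.card (↥L.M ⧸ Cfsg.pCore 2 ↥L.M) * Nat.card ↥(Cfsg.pCore 2 ↥L.M) = 1344 := by
      rw [← index_eq_card, mul_comm, card_mul_index, L.card]
    obtain ⟨k, hk⟩ := (CfsgLib.Core.isPGroup_pCore (p := 2) L.M).exists_card_eq
    have h3Q : 3 ∣ Nat.card (↥L.M ⧸ Cfsg.pCore 2 ↥L.M) := by
      refine (Nat.Coprime.dvd_of_dvd_mul_right (n := 2 ^ k) (Nat.Coprime.pow_right k (by norm_num)) ?_)
      rw [← hk, hQc]; norm_num
    haveI hn1 : ((Cfsg.pPrimeCore 3 L.M).map π).Normal := (inferInstance : (Cfsg.pPrimeCore 3 L.M).Normal).map _ hπ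
    haveI hn2 : ((Cfsg.pPrimePCore 3 L.M).map π).Normal := by
      refine Subgroup.Normal.map ?_ _ hπ
      unfold Cfsg.pPrimePCore; infer_instance
    have h1 : (Cfsg.pPrimeCore 3 L.M).map π = ⊥ := by
      refine hn1.eq_bot_or_eq_top.resolve_right fun e1 => ?_
      have hd := Subgroup.card_map_dvd π (H := Cfsg.pPrimeCore 3 L.M)
      rw [e1, card_top] at hd
      exact (Nat.Prime.coprime_iff_not_dvd Nat.prime_three).1 (Core.coprime_card_pPrimeCore 3 L.M).symm (h3Q.trans hd)
    have h2 : (Cfsg.pPrimePCore 3 L.M).map π = ⊤ := by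
      refine hn2.eq_bot_or_eq_top.resolve_left fun e1 => h ?_
      have hle : Cfsg.pPrimePCore 3 L.M ≤ Cfsg.pCore 2 ↥L.M := fun x hx =>
        (QuotientGroup.eq_one_iff x).1 (mem_bot.1 (e1 ▸ ⟨x, hx, rfl⟩))
      exact (h3Q.trans (by rw [index_eq_card])).trans (index_dvd_of_le hle)
    haveI : Fact (Nat.Prime 2) := ⟨Nat.prime_two⟩
    obtain ⟨t, ht⟩ := exists_prime_orderOf_dvd_card' (G := ↥L.M ⧸ Cfsg.pCore 2 ↥L.M) 2 (by
      rw [Nat.card_congr e.toEquiv, Nat.card_eq_fintype_card]; decide +kernel)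
    obtain ⟨x, hx, rfl⟩ : t ∈ (Cfsg.pPrimePCore 3 L.M).map π := h2 ▸ mem_top _
    obtain ⟨k, hk⟩ := TwoGroups.PLengthOne.exists_pow_mem (p := 3) hx
    have : π x ^ 3 ^ k = 1 := by rw [← map_pow, ← mem_bot, ← h1]; exact ⟨_, hk, rfl⟩
    have := orderOf_dvd_of_pow_eq_one this
    rw [ht] at this
    exact absurd (Nat.prime_two.dvd_of_dvd_pow this) (by norm_num)

variable (μ)

theorem exists_extra [(Cfsg.pCore 2 ↥L.M).Normal]
    (hM : Nonempty ((↥L.M ⧸ Cfsg.pCore 2 ↥L.M) ≃* Matrix.SpecialLinearGroup (Fin 3) (ZMod 2))) :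
    ∃ b : G, b ≠ 1 ∧ b ^ 3 = 1 ∧ z * b * z⁻¹ = b⁻¹ ∧ b * μ.val 294 = μ.val 294 * b ∧
      b * μ.val 156 = μ.val 156 * b ∧ ∃ v ∈ ([151, 175] : List ℕ), b * μ.val v = μ.val v * b := by
  classical
  obtain ⟨W, hWC, hPW, hWodd, hmem, hcard⟩ := exists_complement (μ := μ)
  set C := centralizer (nineG μ : Set G) with hCdef
  have hWne : W ≠ nineG μ := fun e => not_selfcentral L hM e hmem hcard
  -- the four-group normalises `W`
  have hnormW : ∀ g ∈ normalizer (nineG μ : Set G), g ∈ normalizer (W : Set G) := by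
    intro g hg
    refine Bender.mem_normalizer_of_map_conj_eq (eq_of_le_of_card_ge ?_
      (by rw [card_map_of_injective (MulAut.conj g).injective]))
    rintro _ ⟨w, hw, rfl⟩
    show g * w * g⁻¹ ∈ W
    refine (hmem _ (mem_centralizer_iff.2 fun a ha => ?_)).2 (by
      rw [orderOf_conj]; exact (hmem w (hWC hw)).1 hw)
    have h := mem_centralizer_iff.1 (hWC hw) _ ((mem_normalizer_iff''.1 hg a).1 ha)
    calc a * (g * w * g⁻¹) = g * (g⁻¹ * a * g * w) * g⁻¹ := by group
      _ = g * (w * (g⁻¹ * a * g)) * g⁻¹ := by rw [h]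
      _ = _ := by group
  have hzN : z ∈ normalizer (nineG μ : Set G) := centralizer_le_normalizer _ (z_mem_cent μ)
  have hzs : z * μ.val 151 = μ.val 151 * z := ((μ.mem _).2 ⟨151, by norm_num, rfl⟩).symm
  have h175 : z * μ.val 151 = μ.val 175 := by
    have h := μ.mul 174 151 (by norm_num) (by norm_num)
    rw [show cMul 0 174 151 = 175 by decide +kernel, μ.val_z] at h
    exact h.symm
  have hs2 : μ.val 151 * μ.val 151 = 1 := by
    rw [← μ.mul 151 151 (by norm_num) (by norm_num), show cMul 0 151 151 = 150 by decide +kernel, μ.one]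
  let V : Subgroup G :=
    { carrier := {1, z, μ.val 151, z * μ.val 151}
      one_mem' := by simp
      mul_mem' := by
        have h1 : μ.val 151 * z = z * μ.val 151 := hzs.symm
        have h2 : z * (z * μ.val 151) = μ.val 151 := by rw [← mul_assoc, μ.z_sq, one_mul]
        have h3 : z * μ.val 151 * z = μ.val 151 := by rw [mul_assoc, h1, h2]
        have h4 : μ.val 151 * (z * μ.val 151) = z := by rw [← mul_assoc, h1, mul_assoc, hs2, mul_one]
        have h5 : z * μ.val 151 * μ.val 151 = z := by rw [mul_assoc, hs2, mul_one]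
        have h6 : z * μ.val 151 * (z * μ.val 151) = 1 := by rw [mul_assoc, h4, μ.z_sq]
        intro a b ha hb
        simp only [Set.mem_insert_iff, Set.mem_singleton_iff] at ha hb ⊢
        rcases ha with rfl | rfl | rfl | rfl <;> rcases hb with rfl | rfl | rfl | rfl <;>
          simp [μ.z_sq, hs2, h1, h2, h3, h4, h5, h6]
      inv_mem' := by
        intro a ha
        have hsi : (μ.val 151)⁻¹ = μ.val 151 := inv_eq_of_mul_eq_one_right hs2
        have hzi : z⁻¹ = z := inv_eq_of_mul_eq_one_right μ.z_sq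
        simp only [Set.mem_insert_iff, Set.mem_singleton_iff] at ha ⊢
        rcases ha with rfl | rfl | rfl | rfl
        · simp
        · simp [hzi]
        · simp [hsi]
        · rw [mul_inv_rev, hsi, hzi, ← hzs]; simp }
  have hV : ∀ a ∈ V, a = 1 ∨ a = z ∨ a = μ.val 151 ∨ a = μ.val 175 := by
    intro a ha
    have ha' : a ∈ ({1, z, μ.val 151, z * μ.val 151} : Set G) := ha
    simpa [h175] using ha'
  have hsqV : ∀ a ∈ V, a * a = 1 := by
    intro a ha
    rcases hV a ha with rfl | rfl | rfl | rfl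
    · exact one_mul 1
    · exact μ.z_sq
    · exact hs2
    · rw [← μ.mul 175 175 (by norm_num) (by norm_num), show cMul 0 175 175 = 150 by decide +kernel, μ.one]
  haveI : IsMulCommutative V := ⟨⟨fun a b => Subtype.ext (by
    show (a : G) * b = b * a
    have e : ∀ c ∈ V, c⁻¹ = c := fun c hc => inv_eq_of_mul_eq_one_right (hsqV c hc)
    rw [← e _ (mul_mem a.2 b.2), mul_inv_rev, e _ a.2, e _ b.2])⟩⟩
  have hVnc : ¬ IsCyclic V := by
    intro hc
    obtain ⟨⟨c, hcV⟩, hgen⟩ := hc.exists_generator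
    have hmemV : ∀ a ∈ V, a = 1 ∨ a = c := by
      intro a ha
      obtain ⟨n, hn⟩ := mem_zpowers_iff.1 (hgen ⟨a, ha⟩)
      have hc2 : c ^ (2 : ℤ) = 1 := by rw [zpow_two]; exact hsqV c hcV
      have hn' : c ^ n = a := congrArg Subtype.val hn
      rcases Int.even_or_odd n with ⟨m, rfl⟩ | ⟨m, rfl⟩
      · left; rw [← hn', ← two_mul, zpow_mul, hc2, one_zpow]
      · right; rw [← hn', zpow_add, zpow_mul, hc2, one_zpow, one_mul, zpow_one]
    have hzV : z ∈ V := show z ∈ ({1, z, μ.val 151, z * μ.val 151} : Set G) by simp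
    have hsV : μ.val 151 ∈ V := show μ.val 151 ∈ ({1, z, μ.val 151, z * μ.val 151} : Set G) by simp
    have h151 : μ.val 151 ≠ 1 := fun e => absurd ((μ.val_eq_one (by norm_num)).1 e) (by norm_num)
    rcases hmemV z hzV with e | e
    · exact μ.z_ne e
    rcases hmemV _ hsV with e' | e'
    · exact h151 e'
    exact absurd (μ.inj 151 174 (by norm_num) (by norm_num) (e'.trans (e.symm.trans μ.val_z.symm))) (by norm_num)
  have hVN : V ≤ normalizer (W : Set G) := by
    intro a ha
    refine hnormW a ?_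
    rcases hV a ha with rfl | rfl | rfl | rfl
    · exact one_mem _
    · exact hzN
    · exact s_mem_normalizer μ
    · rw [← h175]; exact mul_mem hzN (s_mem_normalizer μ)
  have hcop : (Nat.card V).Coprime (Nat.card W) := by
    obtain ⟨k, hk⟩ := (IsPGroup.iff_card (p := 2) (G := V)).1 fun a => ⟨1, Subtype.ext (by
      simpa [pow_two] using hsqV a a.2)⟩
    rw [hk]
    exact (Nat.coprime_two_left.2 hWodd).pow_left k
  have hWz : W ⊓ centralizer {z} ≤ nineG μ := by
    rintro g ⟨hgW, hgz⟩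
    obtain ⟨x, hx, rfl⟩ := cent_cases μ (hWC hgW) (mem_centralizer_singleton_iff.1 hgz)
    refine ⟨x, cNine_facts.2.2.1 x hx ?_, rfl⟩
    have h6 : μ.val x ^ 6 = 1 := by rw [← μ.pow (nine_lt.2 x hx), cNine_facts.1 x hx, μ.one]
    have h3 : orderOf (μ.val x) ∣ 3 := Nat.Coprime.dvd_of_dvd_mul_left
      (Nat.coprime_two_right.2 ((hmem _ (hWC hgW)).1 hgW)) (orderOf_dvd_of_pow_eq_one h6)
    refine μ.inj _ _ (pw_lt (nine_lt.2 x hx) 3) (by norm_num) ?_
    rw [μ.pow (nine_lt.2 x hx), μ.one]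
    exact orderOf_dvd_iff_pow_eq_one.1 h3
  -- some of the two further involutions centralises more
  obtain ⟨v, hv, b, ⟨hbW, hbv⟩, hb1⟩ : ∃ v ∈ ([151, 175] : List ℕ),
      ∃ b ∈ W ⊓ centralizer {μ.val v}, b ≠ 1 := by
    by_contra hno
    push Not at hno
    refine hWne (le_antisymm ?_ hPW)
    conv_lhs => rw [← Cfsg.Agent.S0058.result V W hVnc hVN hcop]
    refine iSup₂_le fun a ha => ?_
    rcases hV a ha.1 with rfl | rfl | rfl | rfl
    · exact absurd rfl ha.2
    · exact hWz
    · exact fun g hg => by rw [hno 151 (by simp) g hg]; exact one_mem _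
    · exact fun g hg => by rw [hno 175 (by simp) g hg]; exact one_mem _
  have hv576 : v < 576 := (outer_pair v hv).1
  have hvz : μ.val v * z = z * μ.val v := (μ.mem _).2 ⟨v, hv576, rfl⟩
  set U := W ⊓ centralizer {μ.val v} with hU
  have hzU : ∀ g ∈ U, z * g * z⁻¹ ∈ U := by
    rintro g ⟨hgW, hgv⟩
    refine ⟨(mem_normalizer_iff.1 (hnormW z hzN) g).1 hgW, mem_centralizer_singleton_iff.2 ?_⟩
    have h := mem_centralizer_singleton_iff.1 hgv
    calc z * g * z⁻¹ * μ.val v = z * g * (z⁻¹ * μ.val v) := by group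
      _ = z * g * (μ.val v * z⁻¹) := by rw [((show Commute (μ.val v) z from hvz).inv_right).eq]
      _ = z * (g * μ.val v) * z⁻¹ := by group
      _ = z * (μ.val v * g) * z⁻¹ := by rw [h]
      _ = z * μ.val v * g * z⁻¹ := by group
      _ = μ.val v * (z * g * z⁻¹) := by rw [← hvz]; group
  have hfix : ∀ g ∈ U, z * g * z⁻¹ = g → g = 1 := by
    rintro g ⟨hgW, hgv⟩ he
    obtain ⟨x, hx, rfl⟩ := hWz ⟨hgW, mem_centralizer_singleton_iff.2 (mul_inv_eq_iff_eq_mul.1 he).symm⟩
    have h := (μ.eq_iff (nine_lt.1 x hx) hv576 hv576 (nine_lt.1 x hx)).1 (mem_centralizer_singleton_iff.1 hgv)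
    simp only [List.mem_cons, List.not_mem_nil, or_false] at hv
    rw [μ.val_eq_one (nine_lt.1 x hx)]
    rcases hv with rfl | rfl
    · exact nine_closed.2.2.2.2.1 x hx h
    · exact nine_closed.2.2.2.2.2 x hx h
  have hinv : z * b * z⁻¹ = b⁻¹ := by
    let f : U → U := fun g => ⟨(g : G)⁻¹ * (z * g * z⁻¹), mul_mem (inv_mem g.2) (hzU g g.2)⟩
    have hf : Function.Injective f := by
      intro g g' h
      have h' : (g : G)⁻¹ * (z * g * z⁻¹) = (g' : G)⁻¹ * (z * g' * z⁻¹) := congrArg Subtype.val h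
      have := hfix _ (mul_mem g'.2 (inv_mem g.2)) (by
        calc z * ((g' : G) * (g : G)⁻¹) * z⁻¹
            = g' * ((g' : G)⁻¹ * (z * g' * z⁻¹)) * (z * g * z⁻¹)⁻¹ := by group
          _ = g' * ((g : G)⁻¹ * (z * g * z⁻¹)) * (z * g * z⁻¹)⁻¹ := by rw [h']
          _ = _ := by group)
      exact Subtype.ext (mul_inv_eq_one.1 this).symm
    obtain ⟨g, hg⟩ := (Finite.injective_iff_surjective.1 hf) ⟨b, hbW, hbv⟩
    rw [← show (g : G)⁻¹ * (z * g * z⁻¹) = b from congrArg Subtype.val hg]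
    have hzi : z⁻¹ = z := inv_eq_of_mul_eq_one_right μ.z_sq
    rw [mul_inv_rev, inv_inv, hzi]
    calc z * ((g : G)⁻¹ * (z * g * z)) * z = z * (g : G)⁻¹ * z * g * (z * z) := by group
      _ = _ := by rw [μ.z_sq, mul_one, mul_inv_rev, mul_inv_rev, hzi]; group
  have hb3 : b ^ 3 = 1 := by
    obtain ⟨k, hk⟩ := exists_conj_z μ L hv
    have hcz : k * b * k⁻¹ * z = z * (k * b * k⁻¹) := by
      rw [← hk]
      calc k * b * k⁻¹ * (k * μ.val v * k⁻¹) = k * (b * μ.val v) * k⁻¹ := by group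
        _ = k * (μ.val v * b) * k⁻¹ := by rw [mem_centralizer_singleton_iff.1 hbv]
        _ = _ := by group
    obtain ⟨p, hp, hpe⟩ := (μ.mem _).1 hcz
    have hd : orderOf b ∣ 9 := by
      have h := μ.orderOf_dvd hcz
      rw [orderOf_conj] at h
      exact Nat.Coprime.dvd_of_dvd_mul_left
        (((Nat.coprime_two_right.2 ((hmem b (hWC hbW)).1 hbW)).pow_right 6)) (h.trans (dvd_of_eq (by norm_num)))
    have h9 : pw p 9 = 150 := μ.inj _ _ (pw_lt hp 9) (by norm_num) (by
      rw [μ.pow hp, hpe, μ.one, conj_pow, orderOf_dvd_iff_pow_eq_one.1 hd, mul_one, mul_inv_cancel])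
    have h := List.all_eq_true.1 odd_exponent p (List.mem_range.2 hp)
    rw [show Nat.beq (pw p 9) 150 = true from beqT h9] at h
    simp only [Bool.not_true, Bool.false_or] at h
    have h' := μ.pow hp 3
    rw [Nat.eq_of_beq_eq_true h, hpe, μ.one, conj_pow] at h'
    exact conj_eq_one_iff.1 h'.symm
  exact ⟨b, hb1, hb3, hinv, (mem_centralizer_iff.1 (hWC hbW) _ ⟨294, by decide, rfl⟩).symm,
    (mem_centralizer_iff.1 (hWC hbW) _ ⟨156, by decide, rfl⟩).symm, v, hv, mem_centralizer_singleton_iff.1 hbv⟩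

end CfsgLib.Recog.GTwoThree
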