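import Mathlib
import Cfsg.Agent.Lib.Recog.GTwoThree.Cert8

/-!
The table of the 364 cosets (owner: helper23; written by a script).
-/

set_option autoImplicit false
set_option maxRecDepth 100000

namespace CfsgLib.Recog.GTwoThree

open Check

def permRows_0 : Tree := .node (.node (.node (.node (.node (.node (.leaf 0xb00040000000000000000000100010000000000000000) (.leaf 0xf20107013b0163014e014e002b006700a6002101000100010100fb)) (.node (.leaf 0x8b007b00800080007c007c0081006e007200f70041004700530051) (.leaf 0))) (.node (.node (.leaf 0x95002b011f0147004f004f005000600035006600060052002e0159) (.leaf 0xb000d4001e001d00780078014900aa0146012501120113011f011a)) (.node (.leaf 0xec011000c1002a00e000e000e4013800ed008300e9010f002d002c) (.leaf 0)))) (.node (.node (.node (.leaf 0x7e0008014500840148014800a60021002b006700f300900148001f) (.leaf 0x10a010800ea016600d900d900d000ef00bd00f000d000d100bd00af)) (.node (.leaf 0x1280086014f005300a000a000cc00cc009d009d0017008d00460045) (.leaf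 0))) (.node (.node (.leaf 0x130005301190135006100610040004e003700c600250038006c008b) (.leaf 0x7800d8005000db00d400d4009100f501180161015d015700b10114)) (.node (.leaf 0x1100a7006d014a00c000c00022002c007e00ff013500cf00e400e1) (.leaf 0))))) (.node (.node (.node (.node (.leaf 0xc000100da00110010001000ae00bb00b6000f00100010001d0026) (.leaf 0xc000ec010800d600a700a700ea00a700f400e600ea001e01330136)) (.node (.leaf 0x82000900e2009300fd00fd005500f30029008f002000f3006400bc) (.leaf 0))) (.node (.node (.leaf 0x6200a800db016000510051004e004000c60037002f0039005c007c) (.leaf 0x136002c0150015000df00df011c01150156010e014f00de00ec00ee)) (.node (.leaf 0x10b011f0143009200f000f0013f012000b400d900d1012000b400b0) (.leaf 0)))) (.node (.node (.node (.leaf 0xed0034004a005e001900190049005d00700031003b013100040019) (.leaf 0x5300600137014400f800f8007e00ff0022002c00dc00aa014c007b)) (.node (.leaf 0xd40140014900bf00d800d800d800af009b00a200ae00af00d000b4) (.leaf 0))) (.node (.node (.leaf 0x7a0041004b003200320032005e004a007d003000c7008b00250048)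 (.leaf 0)) (.node (.leaf 0x114012d00f9001200d000d000d900b40120013f00d900c400d8013f) (.leaf 0)))))) (.node (.node (.node (.node (.node (.leaf 0x20007e00070031007d007d0007001a0032004700720009007d000e) (.leaf 0x120010a00d60110012201220012009200ba00b2011f012600140113)) (.node (.leaf 0x12500e5011e0089010d010d0156010e011c011500870117012500e5) (.leaf 0))) (.node (.node (.leaf 0xac0037001a0049005e005e003200470007001a00ab006c00700025) (.leaf 0x83007d0168008300200020006900f20096005900fd0064001f0020)) (.node (.leaf 0x13500e300b500e8001e001e013d00a4001f003300da00a7013b0111) (.leaf 0)))) (.node (.node (.node (.leaf 0x63010500a300aa00c300c300be005f002700750142005f0029015b) (.leaf 0x8600a0009c00c70128012800870098008700980116011501340127)) (.node (.leaf 0x500062015c013c014c014c00ff007e002c002200ad014900f8003d) (.leaf 0))) (.node (.node (.leaf 0x1900ff0106015400340034002100a60067002b0055008e00340033) (.leaf 0x168016800830148013c013c014101110167010101680168013d013c)) (.node (.leaf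 0x111011d00c800b500dd00dd01460125014900aa002200db00e30156) (.leaf 0))))) (.node (.node (.node (.node (.leaf 0xd2008e003c0017003b003b007f00410041007f001900f701310035) (.leaf 0xc501170051012f008a008a00f60135011301600125012900c50117)) (.node (.leaf 0x154009700460041008700870128008601280086010d008900970154) (.leaf 0))) (.node (.node (.leaf 0xb801380056014c01520152013201330094004d01450133016200ea) (.leaf 0xd700c20072007c006e006e008b007c0139004200490054004e0024)) (.node (.leaf 0x16000780078013d00b000b000a100b0016900a300a100bb013f00f0) (.leaf 0)))) (.node (.node (.node (.leaf 0xaa004a012e015f00c600c600360073005100610060002500ab00c7) (.leaf 0x5800b8003401020022002200c000e200f8014c00dd00ee014f00eb)) (.node (.leaf 0x138005800de0109011e011e00b9011600de011d010e002d012300e9) (.leaf 0))) (.node (.node (.leaf 0xd80160013d00d80140014000ca00ac007700c5015f01640079012d) (.leaf 0)) (.node (.leaf 0x5c006100c2008e0130013000ed008300e4013800ca013a003d00a8) (.leaf 0))))))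
def permRows_1 : Tree := .node (.node (.node (.node (.node (.node (.leaf 0x10000c001b000e0001000100010001000000000001000100020003) (.leaf 0xf1010601570132016b016b007601020168016a0101010100fb0100)) (.node (.leaf 0x1030143008b004301590159006f008000ab00710024001a0054004f) (.leaf 0))) (.node (.node (.leaf 0x70007a00980046003a003a00180009000900180047008000420037) (.leaf 0x12400de01340133013b013b016a01680102007601360162001e0145)) (.node (.leaf 0x1420159002a00c0010301030094004d0132013300940105009500bf) (.leaf 0)))) (.node (.node (.node (.leaf 0x14b00fb004c002200690069002000680100014d0021002100f200f1) (.leaf 0xef00e7011b015e00140014008c0109011a0165005b00790122015f)) (.node (.leaf 0x15d015f0125007400af00af00af00d800a2009b00bb00d800ef00d9) (.leaf 0))) (.node (.node (.leaf 0xf8005c00a90091006000600052004f0038003900c6001b006f0062) (.leaf 0x10d00770073013a00e500e5013500f601600113014600970077010d)) (.node (.leaf 0xdb015c0062009e002d002d0023002d002d0023011d011e00e000e4) (.leaf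 0))))) (.node (.node (.node (.node (.leaf 0xa700e0001000da00ec00ec00b200ba0092001200e300e200df00db) (.leaf 0x11d00e80112004d014501450168016a007601020152015c00c8013b)) (.node (.leaf 0x7200f3006100a9014701470113016000f601350082007e0092010c) (.leaf 0))) (.node (.node (.leaf 0x6c014c012f011800500050004f0052003900380037000b00800053) (.leaf 0x230132008a004e0123012300fc012f00a9013a00e400c9011e00cf)) (.node (.leaf 0x6b012600ac005f00c400c4001c001d00b500c4012000d000b500ae) (.leaf 0)))) (.node (.node (.node (.leaf 0x7f00cb0008000700470047004a005e0030007d003a007c002f004b) (.leaf 0xd3015500f7013900f700f701390042008b007c0030003b00350018)) (.node (.leaf 0x79013f000c00bc012b012b0092001200b200ba00e7008401140160) (.leaf 0))) (.node (.node (.leaf 0x1b013a006f00ab00420042007200f70081006e005c004b003a0039) (.leaf 0)) (.node (.leaf 0x106010100c4015d00a500a5001f0033013d00a400f100f1002100f2) (.leaf 0)))))) (.node (.node (.node (.node (.node (.leaf 0x900082003e000a004400440041007f007f00410008007200430066)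 (.leaf 0x3f003500b800de001300130121010b011b015e003e001300d200d3)) (.node (.leaf 0x8a01460088011e01170117010e01560115011c0098010d0146008a) (.leaf 0))) (.node (.node (.leaf 0xbe004d0048001a00070007007d0030005e004a005401580005001a) (.leaf 0x39005e00bf00b000ac00ac015d0140012400e800a800ad013a015e)) (.node (.leaf 0x156013b001f00af0124012400c5007700ac00ca015100e4011d0135) (.leaf 0)))) (.node (.node (.node (.leaf 0x520096006a0069005700570056002a008e0090002b002a015b0028) (.leaf 0x163008700f200f30154015401040134011201570118012501630087)) (.node (.leaf 0xb00ab0091006100ad00ad011f00e700ee0151014c00ac011b00aa) (.leaf 0))) (.node (.node (.leaf 0x14d00fa0029006a0021002100340148014b014e0069006900a500a6) (.leaf 0xa3009c014600c300a200a200a2009b00af00d800a200d601690169)) (.node (.leaf 0xeb00ea00ce003f00cf00cf00ba00b200120092010f00c000b80123) (.leaf 0))))) (.node (.node (.node (.node (.leaf 0xff00680047005d00300030001a00070047003200f7001800300004) (.leaf 0x1400bd0135006000e700e700dc00ad012c012e012b006a00d5010a))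 (.node (.leaf 0xb301660023002400b700b700160016009a009a00460016009a008d) (.leaf 0))) (.node (.node (.leaf 0x4f008f0055005a002b002b014e014b014800340057004c01430144) (.leaf 0xc10142006e004200810081007c008b00420139005d00630040002e)) (.node (.leaf 0x165012200a700820120012000bd00f000d000ef00c400f000a100ef) (.leaf 0)))) (.node (.node (.node (.leaf 0x5e014900dc00e30037003700730036006100510050002f0071003a) (.leaf 0xad002f013100f700ab00ab0043013101590158005e006200c6007f)) (.node (.leaf 0x170116008c010d011c011c00df00b8010d0117011c0086012c00ba) (.leaf 0))) (.node (.node (.leaf 0x13f00b1010e00cb011a011a00cb007a001401140121005b012d0078) (.leaf 0)) (.node (.leaf 0x14e00a6001200f00107010700d7014200fa010700f900f9014d0167) (.leaf 0))))))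
def permRows_2 : Tree := .node (.node (.node (.node (.node (.node (.leaf 0x1d001c002500060003000300020002000300030002000200030001) (.leaf 0xc30024013800340105010501010167011101410137010300d70067)) (.node (.leaf 0x9009000d900a700920092012b012200ec00cf007e00910147008c) (.leaf 0))) (.node (.node (.leaf 0x2500dc0159006e007100710131004301580159004a005300370041) (.leaf 0x15900c1012b00bb0143014300f900fb0143015a005f0028002b0076)) (.node (.leaf 0x15800d7008e00f8015b015b004d009401330132004d0144005700c3) (.leaf 0)))) (.node (.node (.node (.leaf 0x152011e0021004c0138013800eb00e000a8013000db00e800e20023) (.leaf 0xd9016500b6010701080108008200d200b30166005a012d015f0121)) (.node (.leaf 0x9b000a00dd00a40169016900a3016900b000a100d6016900a200a2) (.leaf 0))) (.node (.node (.leaf 0xa80050009e00e1006c006c00630054006300540139005e0061006f) (.leaf 0x123014f010500eb01320132015201360103015b0141013600ea0058)) (.node (.leaf 0xda00cf0093009000eb00eb013800e4008300ed001100e300230022) (.leaf 0)))))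 (.node (.node (.node (.node (.leaf 0xfe003b00f000f900d200d200b10108001100e900d300ed001300f5) (.leaf 0xae0153004d011101640164005a006a009701290113014001260015)) (.node (.leaf 0x4400fd00d0014300820082010800b100e9001101470083010c0091) (.leaf 0))) (.node (.node (.leaf 0x960029012c010f004e004e005100610036007300400006006e0063) (.leaf 0x11e00220057015300580058015c0162006d0137015c011100da0132)) (.node (.leaf 0x8e0018013f00e6001200120122012b00cf00ec00ff00f500d30109) (.leaf 0)))) (.node (.node (.node (.leaf 0x15e003a0070004b00700070004b004800190008006f007f005e001b) (.leaf 0x151002301010157016201620093005800c200c10093013b015200da)) (.node (.leaf 0xba00b700ef00fb00b300b300e90011010800b100fc01270116012e) (.leaf 0))) (.node (.node (.leaf 0xf30091007c01580043004300ab0071006f00800009000800440073) (.leaf 0)) (.node (.leaf 0x107010000f3012900a600a601480034014e014b00f200f200f10021) (.leaf 0)))))) (.node (.node (.node (.node (.node (.leaf 0xa2009b0009003e009c009c009c009c008d008d009d009c000a000a)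 (.leaf 0x1080120011c001401650165007a00cb01140014010b006b011900d5)) (.node (.leaf 0x1460089004e015101180118010f00e300d4015f0154007700890146) (.leaf 0))) (.node (.node (.leaf 0x3800aa005e0030004b004b007000310049005d00530042000b0047) (.leaf 0x14a014a00e0006d016a016a013b01450106016b014a014a016a00a4)) (.node (.leaf 0x4b00c60027002600aa00aa00d5007800c900dd013a00f800cb00ad) (.leaf 0)))) (.node (.node (.node (.leaf 0x6006500c000c1004c004c0029008f005500f30029002b006d005f) (.leaf 0x5a00c40063009a006b006b006b005b005b006b0114016501570084)) (.node (.leaf 0x4a0038002800a300ca00ca0140015d00e80124013000dc00a9011b) (.leaf 0))) (.node (.node (.leaf 0x1500b5006900290084008401120157010401340119012b0153006b) (.leaf 0x16a016a00e4014e014a014a0111014101010167016a016a00a4014a)) (.node (.leaf 0xe900eb0166012000da00da00da0110003f00bc001e011000580162) (.leaf 0))))) (.node (.node (.node (.node (.leaf 0x137002700490048005d005d000800190048004b0081002400490005) (.leaf 0xb4012b0117011d00790079015e011b010b0121001500140140011f))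 (.node (.leaf 0xfc012f012a00630016001600b700b700990099004500b7008d0099) (.leaf 0))) (.node (.node (.leaf 0xc4012a00590055012601260157011201340104012d01220164005b) (.leaf 0x15b006e00ba00bd00d700d7010700fa014200d700bf007501050096)) (.node (.leaf 0xcf00e20011001000ea00ea00a700ea00e600f400a700c801320152) (.leaf 0)))) (.node (.node (.node (.leaf 0x32015e0086008d004100410044003b003b0044007c003100390071) (.leaf 0x71001b0161007300dc00dc00e7011f015100ee00f800ca015e0149)) (.node (.leaf 0xb700b200bd015a01660166001100e900b10108012f008500b9012c) (.leaf 0))) (.node (.node (.leaf 0x41007000130115015e015e0079010a010c0013011b007b00dc00ac) (.leaf 0)) (.node (.leaf 0x69014d00ec00ae00fb00fb015a014300fb00f900fa00fa016b014e) (.leaf 0))))))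
def permRows_3 : Tree := .node (.node (.node (.node (.node (.node (.leaf 0x26000d002f00050002000200030003000200020003000300010002) (.leaf 0x14300810095008500c100c1006d0137015c0162010201370074008f)) (.node (.leaf 0x7d014801480168007e007e00f8014c00c000e200920147003c007e) (.leaf 0))) (.node (.node (.leaf 0x6401470081008b0072007200420139007c008b007d004400660009) (.leaf 0x810103009200d00142014200fa010700d7014200c3002701440059)) (.node (.leaf 0x24010201690146002800280027007500be005f0027014300c20057) (.leaf 0)))) (.node (.node (.node (.leaf 0x132015100240099014f014f014f00e100e1014f00df0156002200e2) (.leaf 0x14f016200f6003501510151012c012e00dc00ad0124002c00e900b8)) (.node (.leaf 0x9c016900aa0028009b009b009b00a200d800af009b00ce00a300a3) (.leaf 0))) (.node (.node (.leaf 0x1050028009a012a0024002400530062005300620159005d0052006e) (.leaf 0x8701290100013b00970097008501270164015300c500e500870129)) (.node (.leaf 0xc80135003900dc00f600f6008a00e5014700d300e20011015600e8) (.leaf 0)))))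 (.node (.node (.node (.node (.leaf 0xf400360115007a0109010901140014007a00cb0109003e00f50012) (.leaf 0xaf00d50066012d015f015f00f50091016101180140011201080014)) (.node (.leaf 0xe400df009000e20136013601330132004d0094013b0132015c00a7) (.leaf 0))) (.node (.node (.leaf 0x60013000a0014f005c005c00540063005400630042004a00510080) (.leaf 0x11200ae0152005701570157012600840163015400d500d4006b006a)) (.node (.leaf 0x155013100c600ee00f500f5015f00d400e3010f00ed0012010900d2) (.leaf 0)))) (.node (.node (.node (.leaf 0x4003e009b00d50033003300f100a500c8001e00f4003f00680034) (.leaf 0x2d00ee01410134015c015c0058009300c100c20058014501360110)) (.node (.leaf 0x166009900b400f400b200b200ec00cf012b01220134012e00fc0115) (.leaf 0))) (.node (.node (.leaf 0xe6010c013a016100660066003800390052004f0066000e00720044) (.leaf 0)) (.node (.leaf 0x910072012900f2006400640090008e002a00560090002000fd00e6) (.leaf 0)))))) (.node (.node (.node (.node (.node (.leaf 0xab00a900040000002f002f0025002f002f0025005100370047004a)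 (.leaf 0x11f00d0010b010b011401140109008c0165011a006b010a012b00d4)) (.node (.leaf 0x7b008000430081006f006f0159015800430131007000c70060006c) (.leaf 0))) (.node (.node (.leaf 0xc600ca00320070004a004a00470032001a00070071005c0031002f) (.leaf 0xfb0021007600ed014d014d0059009600f20069014b014b01070106)) (.node (.leaf 0x31007f0079010e011b011b010a00790013010c015e003d00ad00ca) (.leaf 0)))) (.node (.node (.node (.leaf 0x40009500fd002c00590059014d010000680020002a002900760142) (.leaf 0x11a00b400bb014200b100b100d20082016600b3006a011900d4010b)) (.node (.leaf 0xa9000b0071006f0139013900f70072006e0081006c004800c70038) (.leaf 0))) (.node (.node (.leaf 0x12600d1006c009d012a012a0015012a012a0015010a010b006a0153) (.leaf 0xa501670126014d0101010101050144014a013c016b016b014e00fa)) (.node (.leaf 0xea00e90162010500e200e2002c002200ff007e00f600ec0138014f) (.leaf 0))))) (.node (.node (.node (.node (.leaf 0x13a0071000e000100250025002f00250025002f006100c60032005e) (.leaf 0x4700c7015e012100cb00cb011a0165008c0109007b007a00aa00a9))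 (.node (.leaf 0xa00a200d5003300a300a3016900a300a100b000ce00a3009b009b) (.leaf 0))) (.node (.node (.leaf 0x13e0084005c00cc00150015012a00150015012a00790121005a0164) (.leaf 0x6e015a0155016400c200c20137006d0162015c0076006d00280029)) (.node (.leaf 0x15c00e10160005000ee00ee012e012c00ad00dc00e80022001100df) (.leaf 0)))) (.node (.node (.node (.leaf 0x1200fe003d009f00180018003a00c700c7003a01310030003600f7) (.leaf 0xc901560163010001410141013c014a0144010501320093011100c8)) (.node (.leaf 0x15701640142012b00ae00ae0010000c00d600ce00d800a1013e00c4) (.leaf 0))) (.node (.node (.leaf 0x80008b00450044003d003d003c003e003c003e007a011b0130014c) (.leaf 0)) (.node (.leaf 0x21014b00b200ef00fa00fa014200d7010700fa00fb00fb01000101) (.leaf 0))))))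
def permRows_4 : Tree := .node (.node (.node (.node (.node (.node (.leaf 0x3e00330000000b0004000400050006000500060036003500190030) (.leaf 0x460134009401670085008500970129005a006a012c016600850086)) (.node (.leaf 0x5b013e00200145006a006a015301640127008500b100e7012a0157) (.leaf 0))) (.node (.node (.leaf 0xfd0092007b00450009000900c7003a003a00c70043007d00730072) (.leaf 0x5400740130013700760076016b01060145013b00c2004d00590143)) (.node (.leaf 0x12a005a015d00f100d100d10026000d00d1013e00f000d900bb013e) (.leaf 0)))) (.node (.node (.node (.leaf 0x10200c30099002300630063006c005c006c005c001a00810158004e) (.leaf 0xde014100a5001c00c900c90125014600aa0149002c0123010f010e)) (.node (.leaf 0xa400a400a200dd00a400a400c8001e00f100a500a400a4014a016a) (.leaf 0))) (.node (.node (.leaf 0x14700430127013600f300f300fe00fd0065004c014800fd00bc0090) (.leaf 0xbb0157015b01550112011200840126015401630078015f005b005a)) (.node (.leaf 0xdf0093014e016a002c002c00e200c0014c00f800c9015100e100e0) (.leaf 0)))))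 (.node (.node (.node (.node (.leaf 0xbd0119010a011c012101210013010c010a0079011a001501130108) (.leaf 0x12d00f0010c0156010b010b010c00130079010a0165012a016000b1)) (.node (.leaf 0x5f005d016701040137013700c200c100930058010500c100650075) (.leaf 0))) (.node (.node (.leaf 0x74014400160015002e002e006200530062005301580049004f0081) (.leaf 0x970098006801060129012901270085015301640077008a00980097)) (.node (.leaf 0x14000b0004f00ad0160016000d3014700e5008a015300d5010b012b) (.leaf 0)))) (.node (.node (.node (.leaf 0x3000ed010201380068006800f200690059009600fe015500330068) (.leaf 0x1040046013301410127012701290097006a005a012e00b301270128)) (.node (.leaf 0x12b011a00f400b3013f013f00f000bd00ef00d000b500bd00b000d0) (.leaf 0))) (.node (.node (.leaf 0x144005400a1012500bf00bf005f00be0075002700d700be008f0103) (.leaf 0)) (.node (.leaf 0x36001300b300b4003f003f003f00bc00da0110003f0033005500fe) (.leaf 0)))))) (.node (.node (.node (.node (.node (.leaf 0x1001000bc00b1000c000c00bb00ae000f00b6000c000c001c000d)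 (.leaf 0x7300e601560114008c008c0014011400cb007a008c003c00910092)) (.node (.leaf 0x6600bc010d00b9010c010c010b0121015e011b003c010c00820147) (.leaf 0))) (.node (.node (.leaf 0x5005600220021002a002a0095005700640155005900570027004d) (.leaf 0x51006c0058005600a800a8008300ed013800e400ac00a9007b0130)) (.node (.leaf 0xcc00cc005b005c00cc00cc00a000a0009e009e00cc00cc009f00cd) (.leaf 0)))) (.node (.node (.node (.leaf 0x1500136002b00fd00e400e400e000eb013000a80123012400c0002d) (.leaf 0x16012e010f0052012f012f00db0123012d01190166010400ba00b9)) (.node (.leaf 0x370048005f00d101490149007800d500dd00c900a9014c007a00dc) (.leaf 0))) (.node (.node (.leaf 0x14c0051009d006b00620062002e0024002e0024004800ab008b0060) (.leaf 0)) (.node (.leaf 0x11000c000ae00fa00110011016600b300d2008200eb00f600ee0150) (.leaf 0))))) (.node (.node (.node (.node (.leaf 0x2001d012400a5000d000d013e00d1000d0026001c001c000d000c) (.leaf 0x8d01150014010a00b900b9011e015000890088008600b90166012f)) (.node (.leaf 0x16900a300c70128000a000a000a000a00170017000a009d009c009c)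 (.leaf 0))) (.node (.node (.leaf 0x6100f800cc005b005300530024002e0024002e004b0071007c0050) (.leaf 0xe100db013c00a80133013301360152015b01030111015200a70093)) (.node (.leaf 0x42002500e30039013a013a012d011900db012300aa013000ac007a) (.leaf 0)))) (.node (.node (.node (.leaf 0xe001f00170018003c003c003d007b003d007b010c008c007e0083) (.leaf 0x13c013c00a8015c016801680145013b016b0106013c013c0168013d)) (.node (.leaf 0x8c006600b1000c00e600e600f400e600ea00a7001f00e600900064) (.leaf 0))) (.node (.node (.leaf 0x6f003d015800720080008001580159013100430031003a0050005c) (.leaf 0)) (.node (.leaf 0x12f009a00f50036012e012e00ee0151011f00e7012700b2011500b3) (.leaf 0))))))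
def permRows_5 : Tree := .node (.node (.node (.node (.node (.node (.leaf 0x56004c0003002f00060006000e0004000e0004004f004e001a0049) (.leaf 0x28006300eb0162010201020106016b013b014500c100940096015a)) (.node (.leaf 0x4501270103009501040104015401630084012600ba012f00860104) (.leaf 0))) (.node (.node (.leaf 0x12700850044007b0046004600cd00cd0046004600b7009a00a00046) (.leaf 0x10e00dd0084002001110111014a013c01050144013300580141001e)) (.node (.leaf 0x117011800be000d0146014600dd00c9007800d500e5016301170118) (.leaf 0)))) (.node (.node (.node (.leaf 0xdc004200060002001b001b001b000b000b001b0038006000480070) (.leaf 0xe50088007400a10077007700e801240140015d0129011800e50088)) (.node (.leaf 0x167016b001c012400f100f10033001f00a4013d00a500a500a60069) (.leaf 0))) (.node (.node (.leaf 0x2a000600ff00670056005600570095015500640096009500750094) (.leaf 0x12200d900df0116010a010a011b015e0121010b012a0114015d00e7)) (.node (.leaf 0x880125003700e70161016100e3010f015f00d4016300c500880125) (.leaf 0)))))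 (.node (.node (.node (.node (.leaf 0xb5006a00540016005b005b005b006b006b005b0014011a01120126) (.leaf 0x11c008d007a0013011601160150011e008800890128011600b300fc)) (.node (.leaf 0x2b004000850103008f008f0065004c00fe00fd0065009600bf00c1) (.leaf 0))) (.node (.node (.leaf 0xf700f5005a005901550155008e00900056002a008e006800fe00f4) (.leaf 0x13100d30164015b0055005500fd00fe004c0065003400fe003f008e)) (.node (.leaf 0x11300af0033009b015d015d00ac00ca00c5007700d40153010a0119) (.leaf 0)))) (.node (.node (.node (.leaf 0x109003f012300f60036003600c60037004e00400004003600180131) (.leaf 0xe300c800600119010f010f01180161009100f500cf00e000c9011d)) (.node (.leaf 0x6a001500e800c8013e013e000d0026013e00d100bd00b400ae00d1) (.leaf 0))) (.node (.node (.leaf 0x6d0007013e007700be00be00c300bf00280074015a00bf00940065) (.leaf 0)) (.node (.leaf 0x5500f7003600fc00d300d301600113013500f600d200ff00120013) (.leaf 0)))))) (.node (.node (.node (.node (.node (.leaf 0x3002600c500be001c001c00c400b5001d001c000d000d000c001c)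 (.leaf 0x77016100b9008c00880088011d00de011600b90089009801610077)) (.node (.leaf 0x115011c003a00860017001700170017000a000a00a000170099009a) (.leaf 0))) (.node (.node (.leaf 0x4900be01110112006d006d00c100c200580093014400c2004c0027) (.leaf 0xfa0069016b0126014b014b0067002b002100a6014d014d016700f9)) (.node (.leaf 0xcd00cd007f0087009f009f00450045009f009f00cd00cd00cc009f) (.leaf 0)))) (.node (.node (.node (.leaf 0xee0133002e00b700e100e100e1014f014f00e100b8010e002c00c0) (.leaf 0xf0011401130066011f011f00ad00dc012e012c0122005a00780079)) (.node (.leaf 0x2f013900d4004f00a900a90119012d012300db014900a800ca00cb) (.leaf 0))) (.node (.node (.leaf 0x70075014a00e0004d004d015b010301360152015b0076005f002a) (.leaf 0)) (.node (.leaf 0x340030014b007600ff00ff014c00f800e200c0001200d3003e00ff) (.leaf 0))))) (.node (.node (.node (.node (.leaf 0x1c00020140001e0026002600d1013e0026000d001d001d00260010) (.leaf 0xe80111011a0117010e010e0117010d00b800df011e00e1013500c9)) (.node (.leaf 0xd600ce006b006c009d009d009e009e00a000a0009c000a009d009d)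 (.leaf 0))) (.node (.node (.leaf 0x94005f00190047001a001a0030007d004a005e0063015900060007) (.leaf 0x15f00a100f100c400d500d500aa0149012501460157016000e70165)) (.node (.leaf 0x145010e00a400a200e800e8007700c500ca00ac00ee013800de00f6) (.leaf 0)))) (.node (.node (.node (.leaf 0x7c006f009f003b007b007b003e003c003e003c00cb015e00a800f8) (.leaf 0x13d013d00d80078013d013d001e00c800a500f1013d013d013c0168)) (.node (.leaf 0x1190014015a00ba00ef00ef00b400d9013f012000b400b500af0120) (.leaf 0))) (.node (.node (.leaf 0x1480083007d007d00080008005d00490031007000440043000e0008) (.leaf 0)) (.node (.leaf 0x920044002c002b0090009000640155009500570064014800e600f3) (.leaf 0))))))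
def permRows_6 : Tree := .node (.node (.node (.node (.node (.node (.leaf 0x65002a00020025000500050004000e0004000e005200400007005d) (.leaf 0x10100f1015400680167016701440105013c014a01060106014b0107)) (.node (.leaf 0xa00128008d003a00860086009800870098008700b9011c01040085) (.leaf 0))) (.node (.node (.leaf 0x13401040041009800450045009f009f0045004500160099004500a0) (.leaf 0x89008a00c3016900c500c5012400e8015d014000970161008a0089)) (.node (.leaf 0xca004b00ee00d3003800380066003500600050001b0061007f0139) (.leaf 0)))) (.node (.node (.node (.leaf 0xd000300ca0027001d001d00b500c4001c001d002600260010001d) (.leaf 0xd1006b014d016b005a005a01640153008501270108011f00150112)) (.node (.leaf 0xf9014e00fe007e00f200f200680020014d010000a600a6006900a5) (.leaf 0))) (.node (.node (.leaf 0xbc008c012d011300730073003700c60040004e000e007300090043) (.leaf 0x9900b3012000ea00ba00ba00cf00ec0122012b0104012c012f011c)) (.node (.leaf 0x10c007300d2013f00bc00bc00bc003f011000da00bc001f00f300fd) (.leaf 0)))))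 (.node (.node (.node (.node (.leaf 0x12e012c00150054009a009a0099009900b700b70099004600b70017) (.leaf 0xb90017016500df0115011500b800df0117010d01150128012e00b2)) (.node (.leaf 0x290052008f009700670067014b014e0034014800950065015a0105) (.leaf 0))) (.node (.node (.leaf 0x4c0005014c005800650065008f002900f30055008f0067013700be) (.leaf 0x13b00c90114010c00de00de00890088011e0150002300df00e800e3)) (.node (.leaf 0xce009d0110010800d600d600b6000f00ae00bb016900a200d600d6) (.leaf 0)))) (.node (.node (.node (.leaf 0x1300f400fc00f50035003500390038004f00520035000400f7003b) (.leaf 0x2c015000640127009300930162015c0137006d0162014101100133)) (.node (.leaf 0xb600b601070122000f000f00ce00d6000c001000b600b600b600b6) (.leaf 0))) (.node (.node (.leaf 0x2e00bf00ed014b014401440167010101410111006d015b0142002b) (.leaf 0)) (.node (.leaf 0x1e010f0035012300e300e30161011800f5009100ec00eb00dd00de) (.leaf 0)))))) (.node (.node (.node (.node (.node (.leaf 0x1f003c0001001b000e000e0006000500060005007300660008007d)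 (.leaf 0xdd014500cb0079011d011d008800890150011e002d00b80124010f)) (.node (.leaf 0x1800d200f800c200fe00fe00f30055008f0029006800550155003f) (.leaf 0))) (.node (.node (.leaf 0x6700570151008a0052005200600050006600350005004f00240158) (.leaf 0xa600f9016a00e40100010000960059006900f2014e014e00fa016b)) (.node (.leaf 0x9d00d6003f00e900ce00ce000f00b600bb00ae00a3009b00ce00ce) (.leaf 0)))) (.node (.node (.node (.leaf 0xbf007600b7002d00540054005c006c005c006c0007006e01590040) (.leaf 0x12c0016015f003800fc00fc012300db0119012d00b3013400b20116)) (.node (.leaf 0x153011200fa00ec00bb00bb000c001000ce00d600af00b000d100b5) (.leaf 0))) (.node (.node (.leaf 0x15a015b00420159015801580080006f007100ab002e000700630052) (.leaf 0)) (.node (.leaf 0x133002d00d300c600db00db012f00fc013a00a9013800dd015000ec) (.leaf 0))))) (.node (.node (.node (.node (.leaf 0x10f00f6001d014000c800c800a4013d0033001f011000ea01450141) (.leaf 0x2201520089008800b800b80115011c010e015600e1011d00cf0151)) (.node (.leaf 0x9e009e00e10062009e009e009d009d00cc00cc009e009e009e009e)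 (.leaf 0))) (.node (.node (.leaf 0x14900390030004a0048004800310070005d004900620139001b0032) (.leaf 0x3a00320121011b007a007a0165011a0109008c003d00cb0149013a)) (.node (.leaf 0x1410124010900b801560156010d011700df00b80150014f00f600dd) (.leaf 0)))) (.node (.node (.node (.leaf 0x330004000a0009003e003e007b003d007b003d0013010900ff00ed) (.leaf 0x84005b0077007500b500b5001d001c00c400b5013f00ef00c400bb)) (.node (.leaf 0x4d0049000d00c5007500750074002800bf00c3007400d700560137) (.leaf 0))) (.node (.node (.leaf 0x8002000a600fe0083008300a8013000eb00e0009100820083003c) (.leaf 0)) (.node (.leaf 0x3b0012007e00a6008e008e01550064005700950155003400f40055) (.leaf 0))))))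
def permRows_7 : Tree := .node (.node (.node (.node (.node (.node (.leaf 0x75006d003100080049004900190008004b0048006e002e005d0006) (.leaf 0x10000f2012200b600f900f90143015a00f900fb010701070106014b)) (.node (.leaf 0x129016300cd007f0098009800860128008601280117008801290163) (.leaf 0))) (.node (.node (.leaf 0xc7011b005d0019003100310048004b0008001900800041004a000b) (.leaf 0x4300640040011f0091009100d4015f010f00e300830092008c0082)) (.node (.leaf 0x11b00470128009c007f007f003b00440044003b008b0070003800ab) (.leaf 0)))) (.node (.node (.node (.leaf 0x1a0137002600ca005f005f00bf00c300740028014300c3004d004c) (.leaf 0x8500450136006401340134016301540126008400b200fc01280134)) (.node (.leaf 0xe00011008200d901100110011000da00bc003f00c800da0093015c) (.leaf 0))) (.node (.node (.leaf 0x57004e006500ff009600960100014d002000680056008f010200d7) (.leaf 0x16b00a5010400940106010601020076016a01680167016700f9014d)) (.node (.leaf 0x12100ef00e500370119011900a9013a00fc012f008400b10165015d) (.leaf 0)))))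 (.node (.node (.node (.node (.leaf 0x11600b90018003c008d008d008d008d009c009c008d00a0001600b7) (.leaf 0x11800c5011d011a0089008900de011d00b9011600880087011800c5)) (.node (.leaf 0x9801540096008f0163016301340104015701120161014601540098) (.leaf 0))) (.node (.node (.leaf 0x4e00670153015200290029004c006500fd00fe004c005900c300c2) (.leaf 0x16400bb0132010101530153006a005a012900970160015d0084012a)) (.node (.leaf 0xc2015800cf000f015a015a00fb00f9015a014300be007400670102) (.leaf 0)))) (.node (.node (.node (.leaf 0x4800ac00e700e5003900390035006600500060000b005100410042) (.leaf 0x27001a01440130009400940103015b015201360103010200be0056)) (.node (.leaf 0xb200ba002d002e00990099009a009a00160016009a004500170016) (.leaf 0))) (.node (.node (.leaf 0x161010d0075013e0125012500c900dd00d50078008a0154010d0161) (.leaf 0)) (.node (.leaf 0xf500550139013101310131007100ab0080006f00180019003b0036) (.leaf 0)))))) (.node (.node (.node (.node (.node (.leaf 0xf000f00d700cf00b600b600d600ce0010000c000f000f000f000f)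 (.leaf 0xf6001e0052012c0135013500e5008a00d3014700c000e9010e0124)) (.node (.leaf 0x59004f0097009600950095002a00560090008e0067005601030074) (.leaf 0))) (.node (.node (.leaf 0x8f005900ad00d4004000400061005100730036004e000500810054) (.leaf 0x1620123005300a000230023002d00230023002d00de015000eb0138)) (.node (.leaf 0xe200da000f00d700e900e900b30166008200d200e001350151011e) (.leaf 0)))) (.node (.node (.node (.leaf 0x13900ad00050003000b000b000b001b001b000b00390050004b0031) (.leaf 0x9a00fc01180051012c012c015100ee00e7011f008500ba011c0166)) (.node (.leaf 0xd5011300c9001f00a100a100b000a100a3016900b000ae012000bd) (.leaf 0))) (.node (.node (.leaf 0x3d007c00ab0071008b008b006e008100f70072007f003200620061) (.leaf 0)) (.node (.leaf 0xe7012100fb00b200bd00bd0120013f00d900b4013e013f00d900a1) (.leaf 0))))) (.node (.node (.node (.node (.leaf 0x3c000e00af00c9001f001f00a500f1001e00c800e600bc00200148) (.leaf 0xd0010b01470040012d012d013a00a9012f00fc01260108011a0140)) (.node (.leaf 0x9f009f003b003d00cd00cd0046004600cd00cd009f009f00cd00cc)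 (.leaf 0))) (.node (.node (.leaf 0x5d009400d100ac002700270028007400c300bf00280142002a006d) (.leaf 0xa1015d0038012e01130113014700d3008a00e50164007801210122)) (.node (.leaf 0x9300e40116016501500150011600b9011d00de0156002300db0011) (.leaf 0)))) (.node (.node (.node (.leaf 0x35010900e900ce00f400f400e600f400a700ea003300f4008e0155) (.leaf 0xb1007900e600d200b400b400ef00d000f000bd00ef013e00f000d8)) (.node (.leaf 0x76002e00b001490074007400750027005f00be0075015a00c10095) (.leaf 0))) (.node (.node (.leaf 0xcb0031008700cd00c700c700090018001800090032006f013900c6) (.leaf 0)) (.node (.leaf 0x6800190067006500ed00ed013000a800e000eb00f500d200ed003e) (.leaf 0))))))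
def permRows : Tree := .node (.node (.node (permRows_0) (permRows_4)) (.node (permRows_2) (permRows_6))) (.node (.node (permRows_1) (permRows_5)) (.node (permRows_3) (permRows_7)))

def liveNodes_0 : Tree := .node (.node (.node (.node (.node (.node (.leaf 0) (.leaf 415)) (.node (.leaf 166) (.leaf 0))) (.node (.node (.leaf 77) (.leaf 672)) (.node (.leaf 279) (.leaf 0)))) (.node (.node (.node (.leaf 38) (.leaf 487)) (.node (.leaf 219) (.leaf 0))) (.node (.node (.leaf 117) (.leaf 916)) (.node (.leaf 346) (.leaf 0))))) (.node (.node (.node (.node (.leaf 21) (.leaf 444)) (.node (.leaf 192) (.leaf 0))) (.node (.node (.leaf 97) (.leaf 831)) (.node (.leaf 311) (.leaf 0)))) (.node (.node (.node (.leaf 56) (.leaf 584)) (.node (.leaf 255) (.leaf 0))) (.node (.node (.leaf 138) (.leaf 0)) (.node (.leaf 375) (.leaf 0)))))) (.node (.node (.node (.node (.node (.leaf 12) (.leaf 425)) (.node (.leaf 178) (.leaf 0))) (.node (.node (.leaf 87) (.leaf 718)) (.node (.leaf 288) (.leaf 0))))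 (.node (.node (.node (.leaf 48) (.leaf 512)) (.node (.leaf 236) (.leaf 0))) (.node (.node (.leaf 126) (.leaf 924)) (.node (.leaf 360) (.leaf 0))))) (.node (.node (.node (.node (.leaf 29) (.leaf 468)) (.node (.leaf 201) (.leaf 0))) (.node (.node (.leaf 106) (.leaf 908)) (.node (.leaf 332) (.leaf 0)))) (.node (.node (.node (.leaf 68) (.leaf 619)) (.node (.leaf 264) (.leaf 0))) (.node (.node (.leaf 148) (.leaf 0)) (.node (.leaf 392) (.leaf 0))))))
def liveNodes_1 : Tree := .node (.node (.node (.node (.node (.node (.leaf 1) (.leaf 416)) (.node (.leaf 167) (.leaf 0))) (.node (.node (.leaf 79) (.leaf 673)) (.node (.leaf 280) (.leaf 0)))) (.node (.node (.node (.leaf 39) (.leaf 490)) (.node (.leaf 220) (.leaf 0))) (.node (.node (.leaf 118) (.leaf 917)) (.node (.leaf 347) (.leaf 0))))) (.node (.node (.node (.node (.leaf 22) (.leaf 458)) (.node (.leaf 193) (.leaf 0))) (.node (.node (.leaf 98) (.leaf 868)) (.node (.leaf 312) (.leaf 0)))) (.node (.node (.node (.leaf 57) (.leaf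 586)) (.node (.leaf 256) (.leaf 0))) (.node (.node (.leaf 140) (.leaf 0)) (.node (.leaf 377) (.leaf 0)))))) (.node (.node (.node (.node (.node (.leaf 13) (.leaf 430)) (.node (.leaf 179) (.leaf 0))) (.node (.node (.leaf 88) (.leaf 731)) (.node (.leaf 290) (.leaf 0)))) (.node (.node (.node (.leaf 49) (.leaf 514)) (.node (.leaf 238) (.leaf 0))) (.node (.node (.leaf 128) (.leaf 925)) (.node (.leaf 361) (.leaf 0))))) (.node (.node (.node (.node (.leaf 30) (.leaf 470)) (.node (.leaf 204) (.leaf 0))) (.node (.node (.leaf 110) (.leaf 909)) (.node (.leaf 336) (.leaf 0)))) (.node (.node (.node (.leaf 70) (.leaf 622)) (.node (.leaf 265) (.leaf 0))) (.node (.node (.leaf 149) (.leaf 0)) (.node (.leaf 396) (.leaf 0))))))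
def liveNodes_2 : Tree := .node (.node (.node (.node (.node (.node (.leaf 2) (.leaf 417)) (.node (.leaf 172) (.leaf 0))) (.node (.node (.leaf 80) (.leaf 675)) (.node (.leaf 282) (.leaf 0)))) (.node (.node (.node (.leaf 41) (.leaf 495)) (.node (.leaf 221) (.leaf 0))) (.node (.node (.leaf 119) (.leaf 918)) (.node (.leaf 348) (.leaf 0))))) (.node (.node (.node (.node (.leaf 23) (.leaf 459)) (.node (.leaf 194) (.leaf 0))) (.node (.node (.leaf 99) (.leaf 875)) (.node (.leaf 318) (.leaf 0)))) (.node (.node (.node (.leaf 60) (.leaf 590)) (.node (.leaf 257) (.leaf 0))) (.node (.node (.leaf 141) (.leaf 0)) (.node (.leaf 378) (.leaf 0)))))) (.node (.node (.node (.node (.node (.leaf 14) (.leaf 433)) (.node (.leaf 180) (.leaf 0))) (.node (.node (.leaf 89) (.leaf 797)) (.node (.leaf 291) (.leaf 0)))) (.node (.node (.node (.leaf 50) (.leaf 520)) (.node (.leaf 239) (.leaf 0))) (.node (.node (.leaf 130) (.leaf 926)) (.node (.leaf 362) (.leaf 0))))) (.node (.node (.node (.node (.leaf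 31) (.leaf 472)) (.node (.leaf 206) (.leaf 0))) (.node (.node (.leaf 111) (.leaf 910)) (.node (.leaf 339) (.leaf 0)))) (.node (.node (.node (.leaf 71) (.leaf 630)) (.node (.leaf 266) (.leaf 0))) (.node (.node (.leaf 150) (.leaf 0)) (.node (.leaf 397) (.leaf 0))))))
def liveNodes_3 : Tree := .node (.node (.node (.node (.node (.node (.leaf 3) (.leaf 418)) (.node (.leaf 173) (.leaf 0))) (.node (.node (.leaf 81) (.leaf 676)) (.node (.leaf 283) (.leaf 0)))) (.node (.node (.node (.leaf 42) (.leaf 503)) (.node (.leaf 224) (.leaf 0))) (.node (.node (.leaf 120) (.leaf 919)) (.node (.leaf 349) (.leaf 0))))) (.node (.node (.node (.node (.leaf 24) (.leaf 460)) (.node (.leaf 195) (.leaf 0))) (.node (.node (.leaf 100) (.leaf 879)) (.node (.leaf 319) (.leaf 0)))) (.node (.node (.node (.leaf 61) (.leaf 592)) (.node (.leaf 258) (.leaf 0))) (.node (.node (.leaf 142) (.leaf 0)) (.node (.leaf 379) (.leaf 0)))))) (.node (.node (.node (.node (.node (.leaf 16) (.leaf 434)) (.node (.leaf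 186) (.leaf 0))) (.node (.node (.leaf 92) (.leaf 799)) (.node (.leaf 292) (.leaf 0)))) (.node (.node (.node (.leaf 51) (.leaf 524)) (.node (.leaf 242) (.leaf 0))) (.node (.node (.leaf 131) (.leaf 927)) (.node (.leaf 365) (.leaf 0))))) (.node (.node (.node (.node (.leaf 32) (.leaf 475)) (.node (.leaf 207) (.leaf 0))) (.node (.node (.leaf 112) (.leaf 911)) (.node (.leaf 340) (.leaf 0)))) (.node (.node (.node (.leaf 72) (.leaf 646)) (.node (.leaf 267) (.leaf 0))) (.node (.node (.leaf 151) (.leaf 0)) (.node (.leaf 398) (.leaf 0))))))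
def liveNodes_4 : Tree := .node (.node (.node (.node (.node (.node (.leaf 4) (.leaf 420)) (.node (.leaf 174) (.leaf 0))) (.node (.node (.leaf 82) (.leaf 677)) (.node (.leaf 284) (.leaf 0)))) (.node (.node (.node (.leaf 43) (.leaf 504)) (.node (.leaf 227) (.leaf 0))) (.node (.node (.leaf 121) (.leaf 920)) (.node (.leaf 350) (.leaf 0))))) (.node (.node (.node (.node (.leaf 25) (.leaf 464)) (.node (.leaf 196) (.leaf 0))) (.node (.node (.leaf 101) (.leaf 880)) (.node (.leaf 320) (.leaf 0)))) (.node (.node (.node (.leaf 62) (.leaf 593)) (.node (.leaf 259) (.leaf 0))) (.node (.node (.leaf 144) (.leaf 0)) (.node (.leaf 382) (.leaf 0)))))) (.node (.node (.node (.node (.node (.leaf 17) (.leaf 436)) (.node (.leaf 188) (.leaf 0))) (.node (.node (.leaf 93) (.leaf 809)) (.node (.leaf 295) (.leaf 0)))) (.node (.node (.node (.leaf 52) (.leaf 536)) (.node (.leaf 243) (.leaf 0))) (.node (.node (.leaf 132) (.leaf 0)) (.node (.leaf 366) (.leaf 0))))) (.node (.node (.node (.node (.leaf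 33) (.leaf 476)) (.node (.leaf 208) (.leaf 0))) (.node (.node (.leaf 113) (.leaf 912)) (.node (.leaf 341) (.leaf 0)))) (.node (.node (.node (.leaf 73) (.leaf 647)) (.node (.leaf 268) (.leaf 0))) (.node (.node (.leaf 154) (.leaf 0)) (.node (.leaf 400) (.leaf 0))))))
def liveNodes_5 : Tree := .node (.node (.node (.node (.node (.node (.leaf 5) (.leaf 422)) (.node (.leaf 175) (.leaf 0))) (.node (.node (.leaf 83) (.leaf 678)) (.node (.leaf 285) (.leaf 0)))) (.node (.node (.node (.leaf 44) (.leaf 505)) (.node (.leaf 228) (.leaf 0))) (.node (.node (.leaf 122) (.leaf 921)) (.node (.leaf 353) (.leaf 0))))) (.node (.node (.node (.node (.leaf 26) (.leaf 465)) (.node (.leaf 198) (.leaf 0))) (.node (.node (.leaf 103) (.leaf 889)) (.node (.leaf 321) (.leaf 0)))) (.node (.node (.node (.leaf 63) (.leaf 604)) (.node (.leaf 260) (.leaf 0))) (.node (.node (.leaf 145) (.leaf 0)) (.node (.leaf 385) (.leaf 0)))))) (.node (.node (.node (.node (.node (.leaf 18) (.leaf 438)) (.node (.leaf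 189) (.leaf 0))) (.node (.node (.leaf 94) (.leaf 815)) (.node (.leaf 296) (.leaf 0)))) (.node (.node (.node (.leaf 53) (.leaf 550)) (.node (.leaf 244) (.leaf 0))) (.node (.node (.leaf 133) (.leaf 0)) (.node (.leaf 370) (.leaf 0))))) (.node (.node (.node (.node (.leaf 35) (.leaf 479)) (.node (.leaf 209) (.leaf 0))) (.node (.node (.leaf 114) (.leaf 913)) (.node (.leaf 343) (.leaf 0)))) (.node (.node (.node (.leaf 74) (.leaf 648)) (.node (.leaf 272) (.leaf 0))) (.node (.node (.leaf 160) (.leaf 0)) (.node (.leaf 404) (.leaf 0))))))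
def liveNodes_6 : Tree := .node (.node (.node (.node (.node (.node (.leaf 6) (.leaf 423)) (.node (.leaf 176) (.leaf 0))) (.node (.node (.leaf 84) (.leaf 687)) (.node (.leaf 286) (.leaf 0)))) (.node (.node (.node (.leaf 46) (.leaf 510)) (.node (.leaf 229) (.leaf 0))) (.node (.node (.leaf 124) (.leaf 922)) (.node (.leaf 354) (.leaf 0))))) (.node (.node (.node (.node (.leaf 27) (.leaf 466)) (.node (.leaf 199) (.leaf 0))) (.node (.node (.leaf 104) (.leaf 891)) (.node (.leaf 328) (.leaf 0)))) (.node (.node (.node (.leaf 64) (.leaf 613)) (.node (.leaf 261) (.leaf 0))) (.node (.node (.leaf 146) (.leaf 0)) (.node (.leaf 386) (.leaf 0)))))) (.node (.node (.node (.node (.node (.leaf 19) (.leaf 440)) (.node (.leaf 190) (.leaf 0))) (.node (.node (.leaf 95) (.leaf 817)) (.node (.leaf 305) (.leaf 0)))) (.node (.node (.node (.leaf 54) (.leaf 551)) (.node (.leaf 253) (.leaf 0))) (.node (.node (.leaf 134) (.leaf 0)) (.node (.leaf 371) (.leaf 0))))) (.node (.node (.node (.node (.leaf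 36) (.leaf 480)) (.node (.leaf 212) (.leaf 0))) (.node (.node (.leaf 115) (.leaf 914)) (.node (.leaf 344) (.leaf 0)))) (.node (.node (.node (.leaf 75) (.leaf 649)) (.node (.leaf 274) (.leaf 0))) (.node (.node (.leaf 161) (.leaf 0)) (.node (.leaf 406) (.leaf 0))))))
def liveNodes_7 : Tree := .node (.node (.node (.node (.node (.node (.leaf 11) (.leaf 424)) (.node (.leaf 177) (.leaf 0))) (.node (.node (.leaf 86) (.leaf 696)) (.node (.leaf 287) (.leaf 0)))) (.node (.node (.node (.leaf 47) (.leaf 511)) (.node (.leaf 233) (.leaf 0))) (.node (.node (.leaf 125) (.leaf 923)) (.node (.leaf 357) (.leaf 0))))) (.node (.node (.node (.node (.leaf 28) (.leaf 467)) (.node (.leaf 200) (.leaf 0))) (.node (.node (.leaf 105) (.leaf 900)) (.node (.leaf 329) (.leaf 0)))) (.node (.node (.node (.leaf 65) (.leaf 614)) (.node (.leaf 262) (.leaf 0))) (.node (.node (.leaf 147) (.leaf 0)) (.node (.leaf 390) (.leaf 0)))))) (.node (.node (.node (.node (.node (.leaf 20) (.leaf 441)) (.node (.leaf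 191) (.leaf 0))) (.node (.node (.leaf 96) (.leaf 830)) (.node (.leaf 308) (.leaf 0)))) (.node (.node (.node (.leaf 55) (.leaf 554)) (.node (.leaf 254) (.leaf 0))) (.node (.node (.leaf 135) (.leaf 0)) (.node (.leaf 373) (.leaf 0))))) (.node (.node (.node (.node (.leaf 37) (.leaf 483)) (.node (.leaf 216) (.leaf 0))) (.node (.node (.leaf 116) (.leaf 915)) (.node (.leaf 345) (.leaf 0)))) (.node (.node (.node (.leaf 76) (.leaf 666)) (.node (.leaf 275) (.leaf 0))) (.node (.node (.leaf 162) (.leaf 0)) (.node (.leaf 407) (.leaf 0))))))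
def liveNodes : Tree := .node (.node (.node (liveNodes_0) (liveNodes_4)) (.node (liveNodes_2) (liveNodes_6))) (.node (.node (liveNodes_1) (liveNodes_5)) (.node (liveNodes_3) (liveNodes_7)))

def pathRows_0 : Tree := .node (.node (.node (.node (.node (.node (.leaf 1) (.leaf 0x16d44c98b390003)) (.node (.leaf 0x1a145988002) (.leaf 0))) (.node (.node (.leaf 0x9220001) (.leaf 0)) (.node (.leaf 0x51e48a00002) (.leaf 0)))) (.node (.node (.node (.leaf 0x1530001) (.leaf 0xd958001)) (.node (.leaf 0x4a6431f0002) (.leaf 0))) (.node (.node (.leaf 0x69b8da88002) (.leaf 0)) (.node (.leaf 0x5c20c130002) (.leaf 0))))) (.node (.node (.node (.node (.leaf 0x36a0001) (.leaf 0x6ab0cf00002)) (.node (.leaf 0xa248d6a1e984b64a240005) (.leaf 0))) (.node (.node (.leaf 0x22744dd0002) (.leaf 0)) (.node (.leaf 0x5c84bf48002) (.leaf 0)))) (.node (.node (.node (.leaf 0x12f62b7e1fd85870004) (.leaf 0xdf78001)) (.node (.leaf 0x1adc5b58002) (.leaf 0))) (.node (.node (.leaf 0x1d18001) (.leaf 0)) (.node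 (.leaf 0x238cb4b0002) (.leaf 0)))))) (.node (.node (.node (.node (.node (.leaf 0x18e0001) (.leaf 0xc348001)) (.node (.leaf 0x287a18b4a1f0003) (.leaf 0))) (.node (.node (.leaf 0x1860001) (.leaf 0)) (.node (.leaf 0x8588001) (.leaf 0)))) (.node (.node (.node (.leaf 0x15b44cb8002) (.leaf 0x678c8a98002)) (.node (.leaf 0x2d38001) (.leaf 0))) (.node (.node (.leaf 0x661cb900002) (.leaf 0)) (.node (.leaf 0x3de8001) (.leaf 0))))) (.node (.node (.node (.node (.leaf 0x9e0001) (.leaf 0x9e28001)) (.node (.leaf 0xd910001) (.leaf 0))) (.node (.node (.leaf 0x16092cf84528b780004) (.leaf 0)) (.node (.leaf 0x34963a08d500003) (.leaf 0)))) (.node (.node (.node (.leaf 0xddd0001) (.leaf 0x5a5ce708002)) (.node (.leaf 0x4e40757138a2fbc9470005) (.leaf 0))) (.node (.node (.leaf 0xfba5cfc9b20003) (.leaf 0)) (.node (.leaf 0xe750001) (.leaf 0))))))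
def pathRows_1 : Tree := .node (.node (.node (.node (.node (.node (.leaf 0x10001) (.leaf 0x362cb390002)) (.node (.leaf 0x2e285988002) (.leaf 0))) (.node (.node (.leaf 0xc90001) (.leaf 0)) (.node (.leaf 0x37c0001) (.leaf 0)))) (.node (.node (.node (.leaf 0x668001) (.leaf 0x9c60001)) (.node (.leaf 0x2af8001) (.leaf 0))) (.node (.node (.leaf 0x19f0001) (.leaf 0)) (.node (.leaf 0x18272bce43d0c130004) (.leaf 0))))) (.node (.node (.node (.node (.leaf 0x3cf0001) (.leaf 0x6818001)) (.node (.leaf 0xa628001) (.leaf 0))) (.node (.node (.leaf 0x226c4dd0002) (.leaf 0)) (.node (.leaf 0x2c5c3ba0002) (.leaf 0)))) (.node (.node (.node (.leaf 0x6050001) (.leaf 0xdf18001)) (.node (.leaf 0x2f50001) (.leaf 0))) (.node (.node (.leaf 0x1cc8001) (.leaf 0)) (.node (.leaf 0x2810b4b0002) (.leaf 0)))))) (.node (.node (.node (.node (.node (.leaf 0x2c100f08002) (.leaf 0x2864ad10002)) (.node (.leaf 0x50e426b0002) (.leaf 0))) (.node (.node (.leaf 0x1450001) (.leaf 0)) (.node (.leaf 0xeb30001) (.leaf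 0)))) (.node (.node (.node (.leaf 0x67748f20002) (.leaf 0xe510001)) (.node (.leaf 0x1f985be8002) (.leaf 0))) (.node (.node (.leaf 0xe3a0001) (.leaf 0)) (.node (.leaf 0xe190001) (.leaf 0))))) (.node (.node (.node (.node (.leaf 0x9b0001) (.leaf 0x5a509d38002)) (.node (.leaf 0x64ecd970002) (.leaf 0))) (.node (.node (.leaf 0x66c0b780002) (.leaf 0)) (.node (.leaf 0x2c3c3da0002) (.leaf 0)))) (.node (.node (.node (.leaf 0x1080001) (.leaf 0xe6c8001)) (.node (.leaf 0x56209470002) (.leaf 0))) (.node (.node (.leaf 0x166c29a25cfc9b20004) (.leaf 0)) (.node (.leaf 0x15ee27584f38003) (.leaf 0))))))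
def pathRows_2 : Tree := .node (.node (.node (.node (.node (.node (.leaf 0x50001) (.leaf 0x6a98b390002)) (.node (.leaf 0x2248001) (.leaf 0))) (.node (.node (.leaf 0xc78001) (.leaf 0)) (.node (.leaf 0xc388001) (.leaf 0)))) (.node (.node (.node (.leaf 0x2e745bd86840003) (.leaf 0x9ca0001)) (.node (.leaf 0x15d252085370003) (.leaf 0))) (.node (.node (.leaf 0x1798001) (.leaf 0)) (.node (.leaf 0x417cc130002) (.leaf 0))))) (.node (.node (.node (.node (.leaf 0x251e2fb83bb0003) (.leaf 0xcb58001)) (.node (.leaf 0xa638001) (.leaf 0))) (.node (.node (.leaf 0x2bc45500002) (.leaf 0)) (.node (.leaf 0x37d8001) (.leaf 0)))) (.node (.node (.node (.leaf 0x1010001) (.leaf 0xe650001)) (.node (.leaf 0x673c5b58002) (.leaf 0))) (.node (.node (.leaf 0x5a68001) (.leaf 0)) (.node (.leaf 0x7330b4b0002) (.leaf 0)))))) (.node (.node (.node (.node (.node (.leaf 0x1c10001) (.leaf 0x51906120002)) (.node (.leaf 0x9b592ad1c324a18a1f0005) (.leaf 0))) (.node (.node (.leaf 0x10a8001) (.leaf 0)) (.node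 (.leaf 0x56d4d5c0002) (.leaf 0)))) (.node (.node (.node (.leaf 0xb70001) (.leaf 0xdb58001)) (.node (.leaf 0x2e005be8002) (.leaf 0))) (.node (.node (.leaf 0xce48001) (.leaf 0)) (.node (.leaf 0x3e80001) (.leaf 0))))) (.node (.node (.node (.node (.leaf 0x508001) (.leaf 0x2ce04c2075a0003)) (.node (.leaf 0x256e4b282c50003) (.leaf 0))) (.node (.node (.leaf 0x6c20b780002) (.leaf 0)) (.node (.leaf 0x5a50001) (.leaf 0)))) (.node (.node (.node (.leaf 0x15c0001) (.leaf 0xe6a8001)) (.node (.leaf 0x3b889c0138a2fbc9470005) (.leaf 0))) (.node (.node (.leaf 0x23a05cfc9b20003) (.leaf 0)) (.node (.leaf 0xd420001) (.leaf 0))))))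
def pathRows_3 : Tree := .node (.node (.node (.node (.node (.node (.leaf 0x20001) (.leaf 0x2cae59b845e0003)) (.node (.leaf 0x69545988002) (.leaf 0))) (.node (.node (.leaf 0xc58001) (.leaf 0)) (.node (.leaf 0x3560001) (.leaf 0)))) (.node (.node (.node (.leaf 0x62081b20002) (.leaf 0x6344d4c0002)) (.node (.leaf 0x2b18001) (.leaf 0))) (.node (.node (.leaf 0x1788001) (.leaf 0)) (.node (.leaf 0xbd00001) (.leaf 0))))) (.node (.node (.node (.node (.leaf 0x3a40001) (.leaf 0x67f8001)) (.node (.leaf 0x2dca57d4af9153f20964a78a250007) (.leaf 0))) (.node (.node (.leaf 0x134c2c9c24704d58004) (.leaf 0)) (.node (.leaf 0x1d704e50002) (.leaf 0)))) (.node (.node (.node (.leaf 0x13e0001) (.leaf 0xdf28001)) (.node (.leaf 0x2ce66a445b58003) (.leaf 0))) (.node (.node (.leaf 0x1cf8001) (.leaf 0)) (.node (.leaf 0x40d8001) (.leaf 0)))))) (.node (.node (.node (.node (.node (.leaf 0x2bac1e30002) (.leaf 0xa510001)) (.node (.leaf 0x2550001) (.leaf 0))) (.node (.node (.leaf 0x4c34c288002) (.leaf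 0)) (.node (.leaf 0x59c08970002) (.leaf 0)))) (.node (.node (.node (.leaf 0x1770001) (.leaf 0x8bc0001)) (.node (.leaf 0x5df88b50002) (.leaf 0))) (.node (.node (.leaf 0x1a40001) (.leaf 0)) (.node (.leaf 0x1ff44e30002) (.leaf 0))))) (.node (.node (.node (.node (.leaf 0x64342800002) (.leaf 0x633c9830002)) (.node (.leaf 0x2a00001) (.leaf 0))) (.node (.node (.leaf 0x2f604ca0b768003) (.leaf 0)) (.node (.leaf 0x59f0001) (.leaf 0)))) (.node (.node (.node (.leaf 0x13c0001) (.leaf 0x5684e7c8002)) (.node (.leaf 0x25de313c62c09c0138a2fbc9470007) (.leaf 0))) (.node (.node (.leaf 0x22345cfc9b20003) (.leaf 0)) (.node (.leaf 0xda50001) (.leaf 0))))))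
def pathRows_4 : Tree := .node (.node (.node (.node (.node (.node (.leaf 0x30001) (.leaf 0x44b4b388002)) (.node (.leaf 0x1d885988002) (.leaf 0))) (.node (.node (.leaf 0x30f633dcc5b0003) (.leaf 0)) (.node (.leaf 0x328a249c4130003) (.leaf 0)))) (.node (.node (.node (.leaf 0x9f80dd0002) (.leaf 0x9c80001)) (.node (.leaf 0x2b38001) (.leaf 0))) (.node (.node (.leaf 0x642464e0002) (.leaf 0)) (.node (.leaf 0xd278001) (.leaf 0))))) (.node (.node (.node (.node (.leaf 0x2c543980002) (.leaf 0xdf60001)) (.node (.leaf 0xa2593b52c544a78a250005) (.leaf 0))) (.node (.node (.leaf 0x1298001) (.leaf 0)) (.node (.leaf 0x31981d784e50003) (.leaf 0)))) (.node (.node (.node (.leaf 0x15f0001) (.leaf 0x56d4e028002)) (.node (.leaf 0x25923d609958003) (.leaf 0))) (.node (.node (.leaf 0x62f86380002) (.leaf 0)) (.node (.leaf 0x6848b4b0002) (.leaf 0)))))) (.node (.node (.node (.node (.node (.leaf 0x180001) (.leaf 0x5298001)) (.node (.leaf 0x23b8001) (.leaf 0))) (.node (.node (.leaf 0xba98001) (.leaf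 0)) (.node (.leaf 0x67f835d8002) (.leaf 0)))) (.node (.node (.node (.leaf 0x16c0001) (.leaf 0x8aa8001)) (.node (.leaf 0x34dc46785be8003) (.leaf 0))) (.node (.node (.leaf 0xce50001) (.leaf 0)) (.node (.leaf 0xbf90001) (.leaf 0))))) (.node (.node (.node (.node (.leaf 0x548001) (.leaf 0xd470001)) (.node (.leaf 0x3350001) (.leaf 0))) (.node (.node (.leaf 0x5a7cb768002) (.leaf 0)) (.node (.leaf 0x64246480002) (.leaf 0)))) (.node (.node (.node (.leaf 0xdc0001) (.leaf 0x2864e788002)) (.node (.leaf 0xb130ef42fbc9470004) (.leaf 0))) (.node (.node (.leaf 0x2fdc5cfc9b20003) (.leaf 0)) (.node (.leaf 0x30c4b368002) (.leaf 0))))))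
def pathRows_5 : Tree := .node (.node (.node (.node (.node (.node (.leaf 0xd0001) (.leaf 0x7070b388002)) (.node (.leaf 0x13b0a290002) (.leaf 0))) (.node (.node (.leaf 0xd50001) (.leaf 0)) (.node (.leaf 0x6338001) (.leaf 0)))) (.node (.node (.node (.leaf 0x9c8001) (.leaf 0xc7d0001)) (.node (.leaf 0x2ae8001) (.leaf 0))) (.node (.node (.leaf 0x17c0001) (.leaf 0)) (.node (.leaf 0x39685798c130003) (.leaf 0))))) (.node (.node (.node (.node (.leaf 0x448001) (.leaf 0x5ec0cb28002)) (.node (.leaf 0x35f0a250002) (.leaf 0))) (.node (.node (.leaf 0x18f0001) (.leaf 0)) (.node (.leaf 0x1d4c4e50002) (.leaf 0)))) (.node (.node (.node (.leaf 0xf68001) (.leaf 0xdff8001)) (.node (.leaf 0x6d6c5b58002) (.leaf 0))) (.node (.node (.leaf 0xcac8001) (.leaf 0)) (.node (.leaf 0x2104b4a8002) (.leaf 0)))))) (.node (.node (.node (.node (.node (.leaf 0x1eb0001) (.leaf 0xa4f0001)) (.node (.leaf 0x23c0001) (.leaf 0))) (.node (.node (.leaf 0x1d00001) (.leaf 0)) (.node (.leaf 0x4a2c89c0002) (.leaf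 0)))) (.node (.node (.node (.leaf 0x1710001) (.leaf 0xd078001)) (.node (.leaf 0x60005be8002) (.leaf 0))) (.node (.node (.leaf 0x59c0d4b8002) (.leaf 0)) (.node (.leaf 0x1622201850d0003) (.leaf 0))))) (.node (.node (.node (.node (.leaf 0x550001) (.leaf 0x7178001)) (.node (.leaf 0x1a3c5cd8002) (.leaf 0))) (.node (.node (.leaf 0x1558001) (.leaf 0)) (.node (.leaf 0x63f0001) (.leaf 0)))) (.node (.node (.node (.leaf 0xd6c0001) (.leaf 0xe768001)) (.node (.leaf 0x32a8001) (.leaf 0))) (.node (.node (.leaf 0x1af52cd45cfc9b20004) (.leaf 0)) (.node (.leaf 0x28ce5348b368003) (.leaf 0))))))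
def pathRows_6 : Tree := .node (.node (.node (.node (.node (.node (.leaf 0x40001) (.leaf 0x45d8001)) (.node (.leaf 0x2cb23e48ada0003) (.leaf 0))) (.node (.node (.leaf 0xea0001) (.leaf 0)) (.node (.leaf 0xc708001) (.leaf 0)))) (.node (.node (.node (.leaf 0xa08001) (.leaf 0x144925b03d347f08004)) (.node (.leaf 0x4ca0001) (.leaf 0))) (.node (.node (.leaf 0x9210001) (.leaf 0)) (.node (.leaf 0xdbe0001) (.leaf 0))))) (.node (.node (.node (.node (.leaf 0x161027803db0003) (.leaf 0x5de06860002)) (.node (.leaf 0x3ae4a250002) (.leaf 0))) (.node (.node (.leaf 0x1288001) (.leaf 0)) (.node (.leaf 0x45b44e50002) (.leaf 0)))) (.node (.node (.node (.leaf 0xd6b0001) (.leaf 0xdfe8001)) (.node (.leaf 0xd8f8001) (.leaf 0))) (.node (.node (.leaf 0x6508da68002) (.leaf 0)) (.node (.leaf 0x40e8001) (.leaf 0)))))) (.node (.node (.node (.node (.node (.leaf 0x190001) (.leaf 0xa4c0001)) (.node (.leaf 0x516826c0002) (.leaf 0))) (.node (.node (.leaf 0x10d8001) (.leaf 0)) (.node (.leaf 0x8e08001)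 (.leaf 0)))) (.node (.node (.node (.leaf 0x1100001) (.leaf 0x25162fccd0c8003)) (.node (.leaf 0x268e60105be8003) (.leaf 0))) (.node (.node (.leaf 0xd3f8001) (.leaf 0)) (.node (.leaf 0x4a203e68002) (.leaf 0))))) (.node (.node (.node (.node (.leaf 0x49bc2990002) (.leaf 0x25162fccac88003)) (.node (.leaf 0x2bc0001) (.leaf 0))) (.node (.node (.leaf 0x1148bd70002) (.leaf 0)) (.node (.leaf 0xc6b0001) (.leaf 0)))) (.node (.node (.node (.leaf 0x2c305c9015b0003) (.leaf 0xe7d8001)) (.node (.leaf 0xe762fc09460003) (.leaf 0))) (.node (.node (.leaf 0xd140001) (.leaf 0)) (.node (.leaf 0x2cae59b845f0003) (.leaf 0))))))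
def pathRows_7 : Tree := .node (.node (.node (.node (.node (.node (.leaf 0xb0001) (.leaf 0x35044c24b388003)) (.node (.leaf 0x2270001) (.leaf 0))) (.node (.node (.leaf 0x6030001) (.leaf 0)) (.node (.leaf 0xace0001) (.leaf 0)))) (.node (.node (.node (.leaf 0x9f8001) (.leaf 0x58c483b0002)) (.node (.leaf 0x52105430002) (.leaf 0))) (.node (.node (.leaf 0xdd60001) (.leaf 0)) (.node (.leaf 0x3c58001) (.leaf 0))))) (.node (.node (.node (.node (.leaf 0x2bdc3970002) (.leaf 0x6808001)) (.node (.leaf 0x2f124eb0a250003) (.leaf 0))) (.node (.node (.leaf 0x12b8001) (.leaf 0)) (.node (.leaf 0x193c1a2c5e044e50004) (.leaf 0)))) (.node (.node (.node (.leaf 0x2860001) (.leaf 0xe018001)) (.node (.leaf 0xe7e276057c0003) (.leaf 0))) (.node (.node (.leaf 0x1d38001) (.leaf 0)) (.node (.leaf 0x20fcb4a8002) (.leaf 0)))))) (.node (.node (.node (.node (.node (.leaf 0x23a0001) (.leaf 0x61cc53c0002)) (.node (.leaf 0x510423f0002) (.leaf 0))) (.node (.node (.leaf 0x1510001) (.leaf 0)) (.node (.leaf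 0xe450001) (.leaf 0)))) (.node (.node (.node (.leaf 0x7b8001) (.leaf 0x8bd0001)) (.node (.leaf 0x5ce0c0b0002) (.leaf 0))) (.node (.node (.leaf 0xd7c0001) (.leaf 0)) (.node (.leaf 0x27c442a0002) (.leaf 0))))) (.node (.node (.node (.node (.leaf 0x4ad06a50002) (.leaf 0x7200001)) (.node (.leaf 0x9c814561ea45cd8004) (.leaf 0))) (.node (.node (.leaf 0x1598001) (.leaf 0)) (.node (.leaf 0x5ca06530002) (.leaf 0)))) (.node (.node (.node (.leaf 0x6fc5828002) (.leaf 0xe728001)) (.node (.leaf 0xfc42fc09460003) (.leaf 0))) (.node (.node (.leaf 0xd110001) (.leaf 0)) (.node (.leaf 0x34625338b368003) (.leaf 0))))))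
def pathRows_8 : Tree := .node (.node (.node (.node (.node (.node (.leaf 0x68001) (.leaf 0xa23928424d84c04b388005)) (.node (.leaf 0x4bcca290002) (.leaf 0))) (.node (.node (.leaf 0x1300001) (.leaf 0)) (.node (.leaf 0xc648001) (.leaf 0)))) (.node (.node (.node (.leaf 0x688001) (.leaf 0xec50001)) (.node (.leaf 0x1ebc5c28002) (.leaf 0))) (.node (.node (.leaf 0xdf30001) (.leaf 0)) (.node (.leaf 0xc160001) (.leaf 0))))) (.node (.node (.node (.node (.leaf 0x450001) (.leaf 0x459cbbf8002)) (.node (.leaf 0x2ce63630a250003) (.leaf 0))) (.node (.node (.leaf 0x1268001) (.leaf 0)) (.node (.leaf 0x3556591cd168003) (.leaf 0)))) (.node (.node (.node (.leaf 0x2e60001) (.leaf 0x5770dfd8002)) (.node (.leaf 0x1cac57c0002) (.leaf 0))) (.node (.node (.leaf 0x1d58001) (.leaf 0)) (.node (.leaf 0x2cd8b4a8002) (.leaf 0)))))) (.node (.node (.node (.node (.node (.leaf 0x2130001) (.leaf 0x52a8001)) (.node (.leaf 0x50d82560002) (.leaf 0))) (.node (.node (.leaf 0x14e0001) (.leaf 0)) (.node (.leaf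 0xd760001) (.leaf 0)))) (.node (.node (.node (.leaf 0x1a10001) (.leaf 0x26985938cde0003)) (.node (.leaf 0xb2d8001) (.leaf 0))) (.node (.node (.leaf 0xcdb0001) (.leaf 0)) (.node (.leaf 0x230449e8002) (.leaf 0))))) (.node (.node (.node (.node (.leaf 0x568001) (.leaf 0xe4d0001)) (.node (.leaf 0x5a5cab98002) (.leaf 0))) (.node (.node (.leaf 0x1620001) (.leaf 0)) (.node (.leaf 0x5088001) (.leaf 0)))) (.node (.node (.node (.leaf 0xe705828002) (.leaf 0xe738001)) (.node (.leaf 0x32b0001) (.leaf 0))) (.node (.node (.leaf 0xe220001) (.leaf 0)) (.node (.leaf 0x28ce30ccb368003) (.leaf 0))))))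
def pathRows_9 : Tree := .node (.node (.node (.node (.node (.node (.leaf 0xf80130002) (.leaf 0x16572cdc6bc8b388004)) (.node (.leaf 0xcf88001) (.leaf 0))) (.node (.node (.leaf 0xeb0001) (.leaf 0)) (.node (.leaf 0xc6a8001) (.leaf 0)))) (.node (.node (.node (.leaf 0x644c69e0002) (.leaf 0x7f18001)) (.node (.leaf 0x26582b78002) (.leaf 0))) (.node (.node (.leaf 0x17e8001) (.leaf 0)) (.node (.leaf 0xeb10001) (.leaf 0))))) (.node (.node (.node (.node (.leaf 0x286c4020002) (.leaf 0x13965e0068a0003)) (.node (.leaf 0x1d822c544a78a250004) (.leaf 0))) (.node (.node (.leaf 0x1248001) (.leaf 0)) (.node (.leaf 0xa23928424d8378cbc88005) (.leaf 0)))) (.node (.node (.node (.leaf 0x6ec0938002) (.leaf 0xe038001)) (.node (.leaf 0x6a2057c0002) (.leaf 0))) (.node (.node (.leaf 0x1d78001) (.leaf 0)) (.node (.leaf 0x7108b4a8002) (.leaf 0)))))) (.node (.node (.node (.node (.node (.leaf 0x50d02638002) (.leaf 0xe810001)) (.node (.leaf 0x50cc65c0002) (.leaf 0))) (.node (.node (.leaf 0x12a0001)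 (.leaf 0)) (.node (.leaf 0x59c0d770002) (.leaf 0)))) (.node (.node (.node (.leaf 0x41c0e38002) (.leaf 0xdd28001)) (.node (.leaf 0x9fa0001) (.leaf 0))) (.node (.node (.leaf 0xe670001) (.leaf 0)) (.node (.leaf 0x15ee27583e58003) (.leaf 0))))) (.node (.node (.node (.node (.leaf 0x512c6b30002) (.leaf 0x5c8471a0002)) (.node (.leaf 0x2c70001) (.leaf 0))) (.node (.node (.leaf 0x1a01568002) (.leaf 0)) (.node (.leaf 0xd9a0001) (.leaf 0)))) (.node (.node (.node (.leaf 0x79c5828002) (.leaf 0xe798001)) (.node (.leaf 0x144a2fc09460003) (.leaf 0))) (.node (.node (.leaf 0xd130001) (.leaf 0)) (.node (.leaf 0x59f84630002) (.leaf 0))))))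
def pathRows_10 : Tree := .node (.node (.node (.node (.node (.node (.leaf 0xf401d0002) (.leaf 0x5a5c4740002)) (.node (.leaf 0x35d4ada0002) (.leaf 0))) (.node (.node (.leaf 0xd10001) (.leaf 0)) (.node (.leaf 0xd948001) (.leaf 0)))) (.node (.node (.node (.leaf 0x6f8001) (.leaf 0x75d4b180002)) (.node (.leaf 0x90b8001) (.leaf 0))) (.node (.node (.leaf 0x17b8001) (.leaf 0)) (.node (.leaf 0x3c60001) (.leaf 0))))) (.node (.node (.node (.node (.leaf 0x328a5a2c3ea0003) (.leaf 0x2bbe4584bbf8003)) (.node (.leaf 0x2728001) (.leaf 0))) (.node (.node (.leaf 0xc828001) (.leaf 0)) (.node (.leaf 0x377cbc88002) (.leaf 0)))) (.node (.node (.node (.leaf 0x1440001) (.leaf 0xe068001)) (.node (.leaf 0x319e27a057c0003) (.leaf 0))) (.node (.node (.leaf 0x1d28001) (.leaf 0)) (.node (.leaf 0x600cb4a8002) (.leaf 0)))))) (.node (.node (.node (.node (.node (.leaf 0x50d025d8002) (.leaf 0xa5f0001)) (.node (.leaf 0x2670001) (.leaf 0))) (.node (.node (.leaf 0x68cc8878002) (.leaf 0)) (.node (.leaf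 0x2dbcadd0002) (.leaf 0)))) (.node (.node (.node (.leaf 0x7d00e38002) (.leaf 0xcbf8001)) (.node (.leaf 0xc0d0001) (.leaf 0))) (.node (.node (.leaf 0x67f8d458002) (.leaf 0)) (.node (.leaf 0xe7e0001) (.leaf 0))))) (.node (.node (.node (.node (.leaf 0x5e0001) (.leaf 0xe9e0001)) (.node (.leaf 0x29e8001) (.leaf 0))) (.node (.node (.leaf 0x2bb420a0002) (.leaf 0)) (.node (.leaf 0x5df88af0002) (.leaf 0)))) (.node (.node (.node (.leaf 0xb0c5828002) (.leaf 0x59b0e878002)) (.node (.leaf 0x1a2c21e02fc09460004) (.leaf 0))) (.node (.node (.leaf 0xd0f0001) (.leaf 0)) (.node (.leaf 0x2ff05360b368003) (.leaf 0))))))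
def pathRows_11 : Tree := .node (.node (.node (.node (.node (.node (.leaf 0xf401b0002) (.leaf 0x4668001)) (.node (.leaf 0xdc90001) (.leaf 0))) (.node (.node (.leaf 0xd6a8001) (.leaf 0)) (.node (.leaf 0x3940001) (.leaf 0)))) (.node (.node (.node (.leaf 0x6e0001) (.leaf 0x5cccb180002)) (.node (.leaf 0x2ee45c28002) (.leaf 0))) (.node (.node (.leaf 0x1878001) (.leaf 0)) (.node (.leaf 0xebf0001) (.leaf 0))))) (.node (.node (.node (.node (.leaf 0x2c3c3d90002) (.leaf 0x4594bbf8002)) (.node (.leaf 0x153c2c2a2558a9e8004) (.leaf 0))) (.node (.node (.leaf 0x12f8001) (.leaf 0)) (.node (.leaf 0x258237a4bc88003) (.leaf 0)))) (.node (.node (.node (.leaf 0x18c0001) (.leaf 0xe740001)) (.node (.leaf 0x4c0c57c0002) (.leaf 0))) (.node (.node (.leaf 0xdd40001) (.leaf 0)) (.node (.leaf 0x5664b4a8002) (.leaf 0)))))) (.node (.node (.node (.node (.node (.leaf 0x2c202330002) (.leaf 0xa4a0001)) (.node (.leaf 0x23e8001) (.leaf 0))) (.node (.node (.leaf 0xc7c8001) (.leaf 0)) (.node (.leaf 0x26602de8add0003)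 (.leaf 0)))) (.node (.node (.node (.leaf 0x4ac09a8002) (.leaf 0xd0a8001)) (.node (.leaf 0xc070001) (.leaf 0))) (.node (.node (.leaf 0x31a24cbcccd0003) (.leaf 0)) (.node (.leaf 0x2314b3f8002) (.leaf 0))))) (.node (.node (.node (.node (.leaf 0x5d8001) (.leaf 0x4aa474d0002)) (.node (.leaf 0xea80001) (.leaf 0))) (.node (.node (.leaf 0x18a0001) (.leaf 0)) (.node (.leaf 0x58f0001) (.leaf 0)))) (.node (.node (.node (.leaf 0x70c5828002) (.leaf 0xe848001)) (.node (.leaf 0x32209460002) (.leaf 0))) (.node (.node (.leaf 0xd5d0001) (.leaf 0)) (.node (.leaf 0x2da88e38002) (.leaf 0))))))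
def pathRows_12 : Tree := .node (.node (.node (.node (.node (.node (.leaf 0x2e0001) (.leaf 0x4670001)) (.node (.leaf 0x2dde681cbd88003) (.leaf 0))) (.node (.node (.leaf 0x27f0001) (.leaf 0)) (.node (.leaf 0x5df88ac0002) (.leaf 0)))) (.node (.node (.node (.leaf 0x257e4af006c8003) (.leaf 0xa648001)) (.node (.leaf 0x47205c28002) (.leaf 0))) (.node (.node (.leaf 0x1d80001) (.leaf 0)) (.node (.leaf 0x5964c170002) (.leaf 0))))) (.node (.node (.node (.node (.leaf 0x3d10001) (.leaf 0x456cbbf8002)) (.node (.leaf 0x7882d565850a9e8004) (.leaf 0))) (.node (.node (.leaf 0xddf0001) (.leaf 0)) (.node (.leaf 0x3774bc88002) (.leaf 0)))) (.node (.node (.node (.leaf 0x2e50001) (.leaf 0xe330001)) (.node (.leaf 0x6b4c57c0002) (.leaf 0))) (.node (.node (.leaf 0x2bb4cab8002) (.leaf 0)) (.node (.leaf 0x4168001) (.leaf 0)))))) (.node (.node (.node (.node (.node (.leaf 0x2380001) (.leaf 0x272ca600002)) (.node (.leaf 0x23d8001) (.leaf 0))) (.node (.node (.leaf 0x1d60001) (.leaf 0)) (.node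 (.leaf 0x35f8001) (.leaf 0)))) (.node (.node (.node (.leaf 0x4c409a8002) (.leaf 0xce10001)) (.node (.leaf 0x2d48001) (.leaf 0))) (.node (.node (.leaf 0xd408001) (.leaf 0)) (.node (.leaf 0x152c2a9c559049e8004) (.leaf 0))))) (.node (.node (.node (.node (.leaf 0x5c0001) (.leaf 0xa5e8001)) (.node (.leaf 0x1447250849b05d30004) (.leaf 0))) (.node (.node (.leaf 0x15e8001) (.leaf 0)) (.node (.leaf 0x6308001) (.leaf 0)))) (.node (.node (.node (.leaf 0x5fc5828002) (.leaf 0xe838001)) (.node (.leaf 0x2b182fc89450003) (.leaf 0))) (.node (.node (.leaf 0x26ca5cf8d7d0003) (.leaf 0)) (.node (.leaf 0x69d09180002) (.leaf 0))))))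
def pathRows_13 : Tree := .node (.node (.node (.node (.node (.node (.leaf 0x280001) (.leaf 0xd0b0001)) (.node (.leaf 0x16acbd88002) (.leaf 0))) (.node (.node (.leaf 0x38c067c0cc8003) (.leaf 0)) (.node (.leaf 0x634434f8002) (.leaf 0)))) (.node (.node (.node (.leaf 0x5d40001) (.leaf 0x60947f58002)) (.node (.leaf 0x5a905c28002) (.leaf 0))) (.node (.node (.leaf 0x2030001) (.leaf 0)) (.node (.leaf 0x6094db80002) (.leaf 0))))) (.node (.node (.node (.node (.leaf 0x460001) (.leaf 0x65f4bbf8002)) (.node (.leaf 0x51382730002) (.leaf 0))) (.node (.node (.leaf 0x1330001) (.leaf 0)) (.node (.leaf 0x384cbc88002) (.leaf 0)))) (.node (.node (.node (.leaf 0xe200001) (.leaf 0xe0d8001)) (.node (.leaf 0x2f68001) (.leaf 0))) (.node (.node (.leaf 0xba20001) (.leaf 0)) (.node (.leaf 0x241050c0002) (.leaf 0)))))) (.node (.node (.node (.node (.node (.leaf 0x6540e50002) (.leaf 0x5348001)) (.node (.leaf 0x24d0001) (.leaf 0))) (.node (.node (.leaf 0x10f8001) (.leaf 0)) (.node (.leaf 0x2b804c649770003)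 (.leaf 0)))) (.node (.node (.node (.leaf 0x4bc09a8002) (.leaf 0xd0e8001)) (.node (.leaf 0xddb0001) (.leaf 0))) (.node (.node (.leaf 0xd498001) (.leaf 0)) (.node (.leaf 0x25162fcc3e98003) (.leaf 0))))) (.node (.node (.node (.node (.leaf 0x49e405a8002) (.leaf 0x6a787230002)) (.node (.leaf 0x1447250849b05f18004) (.leaf 0))) (.node (.node (.leaf 0x2dd0001) (.leaf 0)) (.node (.leaf 0xacf8001) (.leaf 0)))) (.node (.node (.node (.leaf 0x19452d1663185828004) (.leaf 0x2720e868002)) (.node (.leaf 0x32c0001) (.leaf 0))) (.node (.node (.leaf 0x2028001) (.leaf 0)) (.node (.leaf 0x8e18001) (.leaf 0))))))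
def pathRows_14 : Tree := .node (.node (.node (.node (.node (.node (.leaf 0x78001) (.leaf 0x26f44a40002)) (.node (.leaf 0x2f6a4fd8bd88003) (.leaf 0))) (.node (.node (.leaf 0x1250001) (.leaf 0)) (.node (.leaf 0x67f889a8002) (.leaf 0)))) (.node (.node (.node (.leaf 0x738001) (.leaf 0x588c83f0002)) (.node (.leaf 0x6e445c28002) (.leaf 0))) (.node (.node (.leaf 0xcaa0001) (.leaf 0)) (.node (.leaf 0xcbb0001) (.leaf 0))))) (.node (.node (.node (.node (.leaf 0x651c43a0002) (.leaf 0xb8434ee45d0bbf8004)) (.node (.leaf 0x17872c4854d8a9e8004) (.leaf 0))) (.node (.node (.leaf 0x1b90001) (.leaf 0)) (.node (.leaf 0x4ba0bc88002) (.leaf 0)))) (.node (.node (.node (.leaf 0xc8d8001) (.leaf 0xe108001)) (.node (.leaf 0x58589e513a8202857b0005) (.leaf 0))) (.node (.node (.leaf 0x20e0001) (.leaf 0)) (.node (.leaf 0x26c450c0002) (.leaf 0)))))) (.node (.node (.node (.node (.node (.leaf 0x48c0de0002) (.leaf 0x28e24890c368003)) (.node (.leaf 0x51502460002) (.leaf 0))) (.node (.node (.leaf 0x10e8001)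 (.leaf 0)) (.node (.leaf 0x42943600002) (.leaf 0)))) (.node (.node (.node (.leaf 0x7d8001) (.leaf 0xe690001)) (.node (.leaf 0x2d70001) (.leaf 0))) (.node (.node (.leaf 0xe380001) (.leaf 0)) (.node (.leaf 0x3e78001) (.leaf 0))))) (.node (.node (.node (.node (.leaf 0x6c30001) (.leaf 0x5c8471b8002)) (.node (.leaf 0x3d549640002) (.leaf 0))) (.node (.node (.leaf 0x1890001) (.leaf 0)) (.node (.leaf 0xc7a0001) (.leaf 0)))) (.node (.node (.node (.leaf 0xba8001) (.leaf 0x2e84e808002)) (.node (.leaf 0x34342fc89450003) (.leaf 0))) (.node (.node (.leaf 0x2eb0001) (.leaf 0)) (.node (.leaf 0x90a0001) (.leaf 0))))))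
def pathRows_15 : Tree := .node (.node (.node (.node (.node (.node (.leaf 0x88001) (.leaf 0xec00001)) (.node (.leaf 0xc068001) (.leaf 0))) (.node (.node (.leaf 0xd08001) (.leaf 0)) (.node (.leaf 0x51c0001) (.leaf 0)))) (.node (.node (.node (.leaf 0x740001) (.leaf 0xb7295f52be454fcaa20005)) (.node (.leaf 0x2b90001) (.leaf 0))) (.node (.node (.leaf 0x62f8c978002) (.leaf 0)) (.node (.leaf 0x3c70001) (.leaf 0))))) (.node (.node (.node (.node (.leaf 0x5a3c4610002) (.leaf 0x26ce3cacc9d0003)) (.node (.leaf 0x146112b05850a9e8004) (.leaf 0))) (.node (.node (.leaf 0x12e8001) (.leaf 0)) (.node (.leaf 0x9bf139e5554bc88004) (.leaf 0)))) (.node (.node (.node (.leaf 0xa30001) (.leaf 0x4a20e098002)) (.node (.leaf 0x168f13b41fa857b0004) (.leaf 0))) (.node (.node (.leaf 0x21e0001) (.leaf 0)) (.node (.leaf 0x4158001) (.leaf 0)))))) (.node (.node (.node (.node (.node (.leaf 0x9d0001) (.leaf 0xa490001)) (.node (.leaf 0x144313e6515861f0004) (.leaf 0))) (.node (.node (.leaf 0x1138001)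 (.leaf 0)) (.node (.leaf 0x4bb49770002) (.leaf 0)))) (.node (.node (.node (.leaf 0x2870001) (.leaf 0x165130de4880ce80004)) (.node (.leaf 0xc1a0001) (.leaf 0))) (.node (.node (.leaf 0x1a58001) (.leaf 0)) (.node (.leaf 0x49b8001) (.leaf 0))))) (.node (.node (.node (.node (.leaf 0x720001) (.leaf 0xb6a0001)) (.node (.leaf 0x5a50ab88002) (.leaf 0))) (.node (.node (.leaf 0x5a50c278002) (.leaf 0)) (.node (.leaf 0xe900001) (.leaf 0)))) (.node (.node (.node (.leaf 0x5818001) (.leaf 0x5e60e8a8002)) (.node (.leaf 0x6b909450002) (.leaf 0))) (.node (.node (.leaf 0x6450001) (.leaf 0)) (.node (.leaf 0x8e28001) (.leaf 0))))))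
def pathRows_16 : Tree := .node (.node (.node (.node (.node (.node (.leaf 0x238001) (.leaf 0x13e2559c4760003)) (.node (.leaf 0xd080001) (.leaf 0))) (.node (.node (.leaf 0xe68001) (.leaf 0)) (.node (.leaf 0x5114a610002) (.leaf 0)))) (.node (.node (.node (.leaf 0x6d8001) (.leaf 0xbd50001)) (.node (.leaf 0x2ca651a08ea0003) (.leaf 0))) (.node (.node (.leaf 0xd84c418002) (.leaf 0)) (.node (.leaf 0xcb70001) (.leaf 0))))) (.node (.node (.node (.node (.leaf 0x137e273c4470003) (.leaf 0x4e00c9d0002)) (.node (.leaf 0x20545e94a260003) (.leaf 0))) (.node (.node (.leaf 0x31183388c4b0003) (.leaf 0)) (.node (.leaf 0x4ea0bc68002) (.leaf 0)))) (.node (.node (.node (.leaf 0x7180a70002) (.leaf 0xe0b8001)) (.node (.leaf 0x328e2bd42f70003) (.leaf 0))) (.node (.node (.leaf 0x18d45f50002) (.leaf 0)) (.node (.leaf 0x24e050c0002) (.leaf 0)))))) (.node (.node (.node (.node (.node (.leaf 0x4d00990002) (.leaf 0x650862a8002)) (.node (.leaf 0x98a12f627c8a210004) (.leaf 0))) (.node (.node (.leaf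 0x1128001) (.leaf 0)) (.node (.leaf 0x2de0add0002) (.leaf 0)))) (.node (.node (.node (.leaf 0x818001) (.leaf 0xce00001)) (.node (.leaf 0xc180001) (.leaf 0))) (.node (.node (.leaf 0xaf20be02bd0ca30004) (.leaf 0)) (.node (.leaf 0x5900001) (.leaf 0))))) (.node (.node (.node (.node (.leaf 0x5f0001) (.leaf 0xdeb0001)) (.node (.leaf 0x25824b142ca0003) (.leaf 0))) (.node (.node (.leaf 0x20f0001) (.leaf 0)) (.node (.leaf 0xd320001) (.leaf 0)))) (.node (.node (.node (.leaf 0xdde0001) (.leaf 0xe8b8001)) (.node (.leaf 0x38b82fc89450003) (.leaf 0))) (.node (.node (.leaf 0x9240001) (.leaf 0)) (.node (.leaf 0x599c4318002) (.leaf 0))))))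
def pathRows_17 : Tree := .node (.node (.node (.node (.node (.node (.leaf 0x1080120002) (.leaf 0xa180001)) (.node (.leaf 0xf2a5768bd88003) (.leaf 0))) (.node (.node (.leaf 0xee8001) (.leaf 0)) (.node (.leaf 0xd4e8001) (.leaf 0)))) (.node (.node (.node (.leaf 0x2de657a0b600003) (.leaf 0x2c385530b110003)) (.node (.leaf 0x5ed0001) (.leaf 0))) (.node (.node (.leaf 0x1028c418002) (.leaf 0)) (.node (.leaf 0xe950001) (.leaf 0))))) (.node (.node (.node (.node (.leaf 0x42e0001) (.leaf 0x4e18c9d0002)) (.node (.leaf 0xdfc0001) (.leaf 0))) (.node (.node (.leaf 0x13b0001) (.leaf 0)) (.node (.leaf 0x24d65e283820003) (.leaf 0)))) (.node (.node (.node (.leaf 0x1000001) (.leaf 0x1447250849b0e0f8004)) (.node (.leaf 0x28d857b0002) (.leaf 0))) (.node (.node (.leaf 0x59e8001) (.leaf 0)) (.node (.leaf 0xbfe8001) (.leaf 0)))))) (.node (.node (.node (.node (.node (.leaf 0xa10001) (.leaf 0x633c6310002)) (.node (.leaf 0x24a427c8a210003) (.leaf 0))) (.node (.node (.leaf 0x257c4c70002) (.leaf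 0)) (.node (.leaf 0x7050ad00002) (.leaf 0)))) (.node (.node (.node (.leaf 0x6400001) (.leaf 0x6094ce60002)) (.node (.leaf 0x5ec02d68002) (.leaf 0))) (.node (.node (.leaf 0x143221e0ca30003) (.leaf 0)) (.node (.leaf 0x28645048002) (.leaf 0))))) (.node (.node (.node (.node (.leaf 0x5b8001) (.leaf 0xb850001)) (.node (.leaf 0x2a18001) (.leaf 0))) (.node (.node (.leaf 0x183c1da24d20b750004) (.leaf 0)) (.node (.leaf 0x3ce0001) (.leaf 0)))) (.node (.node (.node (.leaf 0xbb0001) (.leaf 0xe8e8001)) (.node (.leaf 0x6c949450002) (.leaf 0))) (.node (.node (.leaf 0x2068001) (.leaf 0)) (.node (.leaf 0x6d84d3d8002) (.leaf 0))))))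
def pathRows_18 : Tree := .node (.node (.node (.node (.node (.node (.leaf 0x250001) (.leaf 0x2f104688002)) (.node (.leaf 0xcf98001) (.leaf 0))) (.node (.node (.leaf 0xc141910002) (.leaf 0)) (.node (.leaf 0x3508001) (.leaf 0)))) (.node (.node (.node (.leaf 0x5ce8b658002) (.leaf 0x597cb110002)) (.node (.leaf 0x2b88001) (.leaf 0))) (.node (.node (.leaf 0x622c1c80002) (.leaf 0)) (.node (.leaf 0xcc20001) (.leaf 0))))) (.node (.node (.node (.node (.leaf 0x4230001) (.leaf 0x26f63cb0c9d0003)) (.node (.leaf 0x15d525543e40adb0004) (.leaf 0))) (.node (.node (.leaf 0x1358001) (.leaf 0)) (.node (.leaf 0x4b84bc68002) (.leaf 0)))) (.node (.node (.node (.leaf 0xa28001) (.leaf 0xe1d8001)) (.node (.leaf 0x5f9857b0002) (.leaf 0))) (.node (.node (.leaf 0x2250001) (.leaf 0)) (.node (.leaf 0x178c2a5621e850c0004) (.leaf 0)))))) (.node (.node (.node (.node (.node (.leaf 0x268001) (.leaf 0x84e8001)) (.node (.leaf 0x2440001) (.leaf 0))) (.node (.node (.leaf 0xba30001) (.leaf 0)) (.node (.leaf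 0x42883628002) (.leaf 0)))) (.node (.node (.node (.leaf 0x820001) (.leaf 0xd7e0001)) (.node (.leaf 0xdf90001) (.leaf 0))) (.node (.node (.leaf 0x1a60001) (.leaf 0)) (.node (.leaf 0xb448001) (.leaf 0))))) (.node (.node (.node (.node (.leaf 0x7190001) (.leaf 0xba70001)) (.node (.leaf 0x511496e0002) (.leaf 0))) (.node (.node (.leaf 0x10c8b750002) (.leaf 0)) (.node (.leaf 0xd300001) (.leaf 0)))) (.node (.node (.node (.leaf 0x6048001) (.leaf 0xe930001)) (.node (.leaf 0x2b1c2fc89450003) (.leaf 0))) (.node (.node (.leaf 0xc9c0001) (.leaf 0)) (.node (.leaf 0x4490d390002) (.leaf 0))))))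
def pathRows_19 : Tree := .node (.node (.node (.node (.node (.node (.leaf 0x840220002) (.leaf 0x26985938abc0003)) (.node (.leaf 0xc088001) (.leaf 0))) (.node (.node (.leaf 0x6cdc1910002) (.leaf 0)) (.node (.leaf 0x68cc8810002) (.leaf 0)))) (.node (.node (.node (.leaf 0x750001) (.leaf 0x206268e8b110003)) (.node (.leaf 0x2cd830d0a330003) (.leaf 0))) (.node (.node (.leaf 0xda4c418002) (.leaf 0)) (.node (.leaf 0xcbc0001) (.leaf 0))))) (.node (.node (.node (.node (.leaf 0x4640001) (.leaf 0x32124e10c9d0003)) (.node (.leaf 0x57009898002) (.leaf 0))) (.node (.node (.leaf 0x64ec9bf8002) (.leaf 0)) (.node (.leaf 0x3820bc68002) (.leaf 0)))) (.node (.node (.node (.leaf 0x1040001) (.leaf 0x15ee2758e148003)) (.node (.leaf 0xda20001) (.leaf 0))) (.node (.node (.leaf 0x13bc58e0002) (.leaf 0)) (.node (.leaf 0x178821a0bfc8003) (.leaf 0)))))) (.node (.node (.node (.node (.node (.leaf 0x27d0001) (.leaf 0x31586298002)) (.node (.leaf 0x122ca2a8002) (.leaf 0))) (.node (.node (.leaf 0x7102c0457e8b948004)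 (.leaf 0)) (.node (.leaf 0xa4b8001) (.leaf 0)))) (.node (.node (.node (.leaf 0x1310001) (.leaf 0x9e695fc2c0c4c789ff0005)) (.node (.leaf 0xc1c0001) (.leaf 0))) (.node (.node (.leaf 0x28c4ca30002) (.leaf 0)) (.node (.leaf 0xad58001) (.leaf 0))))) (.node (.node (.node (.node (.leaf 0x5e607240002) (.leaf 0x2e74c038002)) (.node (.leaf 0x29f8001) (.leaf 0))) (.node (.node (.leaf 0x1630001) (.leaf 0)) (.node (.leaf 0xd2f0001) (.leaf 0)))) (.node (.node (.node (.leaf 0xc9a0001) (.leaf 0xe990001)) (.node (.leaf 0xaca0001) (.leaf 0))) (.node (.node (.leaf 0xc930001) (.leaf 0)) (.node (.leaf 0x4328001) (.leaf 0))))))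
def pathRows_20 : Tree := .node (.node (.node (.node (.node (.node (.leaf 0x520001) (.leaf 0xcdf8001)) (.node (.leaf 0x22a0001) (.leaf 0))) (.node (.node (.leaf 0xd40001) (.leaf 0)) (.node (.leaf 0x2e103d80002) (.leaf 0)))) (.node (.node (.node (.leaf 0x2e74667cb7c8003) (.leaf 0x424caef0002)) (.node (.leaf 0xbf58001) (.leaf 0))) (.node (.node (.leaf 0xdb4c418002) (.leaf 0)) (.node (.leaf 0xcb00001) (.leaf 0))))) (.node (.node (.node (.node (.leaf 0x4260001) (.leaf 0x6520c9d0002)) (.node (.leaf 0x62f0001) (.leaf 0))) (.node (.node (.leaf 0x1378001) (.leaf 0)) (.node (.leaf 0x25864ec4bc68003) (.leaf 0)))) (.node (.node (.node (.leaf 0xc298001) (.leaf 0xe138001)) (.node (.leaf 0x2fa0001) (.leaf 0))) (.node (.node (.leaf 0x21d0001) (.leaf 0)) (.node (.leaf 0x21c0bfc8002) (.leaf 0)))))) (.node (.node (.node (.node (.node (.leaf 0x2b0001) (.leaf 0x6368001)) (.node (.leaf 0x2bc45510002) (.leaf 0))) (.node (.node (.leaf 0x2dd0581080212fe2c0457e8b948007) (.leaf 0)) (.node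 (.leaf 0xd9c0001) (.leaf 0)))) (.node (.node (.node (.leaf 0x808001) (.leaf 0x5a98b508002)) (.node (.leaf 0x60f0bba0002) (.leaf 0))) (.node (.node (.leaf 0xaf713ac5a1cca30004) (.leaf 0)) (.node (.leaf 0x2cb8b470002) (.leaf 0))))) (.node (.node (.node (.node (.leaf 0x600001) (.leaf 0xc0a8001)) (.node (.leaf 0x5d20001) (.leaf 0))) (.node (.node (.leaf 0xbd18001) (.leaf 0)) (.node (.leaf 0x5e303d60002) (.leaf 0)))) (.node (.node (.node (.leaf 0xd9f8001) (.leaf 0xe8d8001)) (.node (.leaf 0x5f909448002) (.leaf 0))) (.node (.node (.leaf 0x6b70b488002) (.leaf 0)) (.node (.leaf 0x8e58001) (.leaf 0))))))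
def pathRows_21 : Tree := .node (.node (.node (.node (.node (.node (.leaf 0xc8001) (.leaf 0xa150001)) (.node (.leaf 0xeca5aa4b518003) (.leaf 0))) (.node (.node (.leaf 0x11b0001) (.leaf 0)) (.node (.leaf 0x41c0001) (.leaf 0)))) (.node (.node (.node (.leaf 0xcccb7c8002) (.leaf 0x3198425caef0003)) (.node (.leaf 0x5ec0001) (.leaf 0))) (.node (.node (.leaf 0x653cc418002) (.leaf 0)) (.node (.leaf 0xc090001) (.leaf 0))))) (.node (.node (.node (.node (.leaf 0x26ec44b0002) (.leaf 0x38c6478c9d0003)) (.node (.leaf 0x5064adb0002) (.leaf 0))) (.node (.node (.leaf 0x62081b50002) (.leaf 0)) (.node (.leaf 0x1eacbc68002) (.leaf 0)))) (.node (.node (.node (.leaf 0xc8c8001) (.leaf 0xe1e8001)) (.node (.leaf 0xaf128d82a645780004) (.leaf 0))) (.node (.node (.leaf 0x1ee8001) (.leaf 0)) (.node (.leaf 0x13652e7c4464bfc8004) (.leaf 0)))))) (.node (.node (.node (.node (.node (.leaf 0x290001) (.leaf 0xc710001)) (.node (.leaf 0x510c2438002) (.leaf 0))) (.node (.node (.leaf 0x5c9c1178002) (.leaf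 0)) (.node (.leaf 0x28d0ad00002) (.leaf 0)))) (.node (.node (.node (.leaf 0xbfb0001) (.leaf 0x5bb08c88002)) (.node (.leaf 0x1a165bdcb9d8003) (.leaf 0))) (.node (.node (.leaf 0x5690ca30002) (.leaf 0)) (.node (.leaf 0x163223e0b470003) (.leaf 0))))) (.node (.node (.node (.node (.leaf 0x4e5875f0002) (.leaf 0x61687660002)) (.node (.leaf 0xccb0001) (.leaf 0))) (.node (.node (.leaf 0x5dbcb750002) (.leaf 0)) (.node (.leaf 0x54f0dc28002) (.leaf 0)))) (.node (.node (.node (.leaf 0x105c5760002) (.leaf 0x6094e968002)) (.node (.leaf 0xd4a0001) (.leaf 0))) (.node (.node (.leaf 0x5a3c5928002) (.leaf 0)) (.node (.leaf 0x59b0a6d8002) (.leaf 0))))))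
def pathRows_22 : Tree := .node (.node (.node (.node (.node (.node (.leaf 0xa0001) (.leaf 0x5bc4cda8002)) (.node (.leaf 0x2de657a0b640003) (.leaf 0))) (.node (.node (.leaf 0x4638b790002) (.leaf 0)) (.node (.leaf 0x8d60001) (.leaf 0)))) (.node (.node (.node (.leaf 0x2be4b968002) (.leaf 0x42c8aef0002)) (.node (.leaf 0x28f245105d00003) (.leaf 0))) (.node (.node (.leaf 0x16086488c418003) (.leaf 0)) (.node (.leaf 0xcb10001) (.leaf 0))))) (.node (.node (.node (.node (.leaf 0x27c44280002) (.leaf 0xd598001)) (.node (.leaf 0x5b68001) (.leaf 0))) (.node (.node (.leaf 0x1348001) (.leaf 0)) (.node (.leaf 0x558cbc68002) (.leaf 0)))) (.node (.node (.node (.leaf 0x1930001) (.leaf 0x328a249ce1f8003)) (.node (.leaf 0x2a7c5780002) (.leaf 0))) (.node (.node (.leaf 0xd6f0001) (.leaf 0)) (.node (.leaf 0x219cbfc8002) (.leaf 0)))))) (.node (.node (.node (.node (.node (.leaf 0x2a80001) (.leaf 0xc810001)) (.node (.leaf 0x5018001) (.leaf 0))) (.node (.node (.leaf 0x4cfcb00070f2c0457e8b948006)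 (.leaf 0)) (.node (.leaf 0x6568ad00002) (.leaf 0)))) (.node (.node (.node (.leaf 0x8a0001) (.leaf 0xad78001)) (.node (.leaf 0x3c00b9d8002) (.leaf 0))) (.node (.node (.leaf 0x18d110522498ca20004) (.leaf 0)) (.node (.leaf 0x328a5a2c3eb8003) (.leaf 0))))) (.node (.node (.node (.node (.leaf 0x26da4b347480003) (.leaf 0xb670001)) (.node (.leaf 0xab78001) (.leaf 0))) (.node (.node (.leaf 0xbcd8001) (.leaf 0)) (.node (.leaf 0xd1f8001) (.leaf 0)))) (.node (.node (.node (.leaf 0xbc0001) (.leaf 0x5ec0e918002)) (.node (.leaf 0xaf913b21d049448004) (.leaf 0))) (.node (.node (.leaf 0x5938001) (.leaf 0)) (.node (.leaf 0x2e105ff8002) (.leaf 0))))))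
def pathRows_23 : Tree := .node (.node (.node (.node (.node (.node (.leaf 0x98001) (.leaf 0x2ba45e60002)) (.node (.leaf 0x16b85aa4b518003) (.leaf 0))) (.node (.node (.leaf 0x16f52d8e57a4b790004) (.leaf 0)) (.node (.leaf 0x2e10bfd8002) (.leaf 0)))) (.node (.node (.node (.leaf 0x3410b7c8002) (.leaf 0x4254aef0002)) (.node (.leaf 0x5944a7e0002) (.leaf 0))) (.node (.node (.leaf 0x1928001) (.leaf 0)) (.node (.leaf 0xe4f0001) (.leaf 0))))) (.node (.node (.node (.node (.leaf 0x26a84420002) (.leaf 0xd988001)) (.node (.leaf 0x1b84bca0002) (.leaf 0))) (.node (.node (.leaf 0xc8a0001) (.leaf 0)) (.node (.leaf 0x3840001) (.leaf 0)))) (.node (.node (.node (.leaf 0xa60001) (.leaf 0xe1b8001)) (.node (.leaf 0x145928d62ac85780004) (.leaf 0))) (.node (.node (.leaf 0x5a28001) (.leaf 0)) (.node (.leaf 0x2f00bfc8002) (.leaf 0)))))) (.node (.node (.node (.node (.node (.leaf 0x29d0001) (.leaf 0x6438001)) (.node (.leaf 0x4cc0001) (.leaf 0))) (.node (.node (.leaf 0x6c54b948002) (.leaf 0))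 (.node (.leaf 0x2f205548ad00003) (.leaf 0)))) (.node (.node (.node (.leaf 0xce0001) (.leaf 0x17282bf6580ca110004)) (.node (.leaf 0x2e383c08b9d8003) (.leaf 0))) (.node (.node (.leaf 0x1a70001) (.leaf 0)) (.node (.leaf 0x145c276cb470003) (.leaf 0))))) (.node (.node (.node (.node (.leaf 0x7180001) (.leaf 0x71c8001)) (.node (.leaf 0xe300001) (.leaf 0))) (.node (.node (.leaf 0x5d68b750002) (.leaf 0)) (.node (.leaf 0xb8a0001) (.leaf 0)))) (.node (.node (.node (.leaf 0x103c5760002) (.leaf 0x512ce928002)) (.node (.leaf 0x70889448002) (.leaf 0))) (.node (.node (.leaf 0x26fc5958002) (.leaf 0)) (.node (.leaf 0x595cbff8002) (.leaf 0))))))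
def pathRows_24 : Tree := .node (.node (.node (.node (.node (.node (.leaf 0x200001) (.leaf 0x46a8001)) (.node (.leaf 0x2a0c5aa4b518003) (.leaf 0))) (.node (.node (.leaf 0x5c9c1160002) (.leaf 0)) (.node (.leaf 0x59ccd4d8002) (.leaf 0)))) (.node (.node (.node (.leaf 0xdef0001) (.leaf 0x426caef0002)) (.node (.leaf 0x2cec5d00002) (.leaf 0))) (.node (.node (.leaf 0xc8c1838002) (.leaf 0)) (.node (.leaf 0xcb90001) (.leaf 0))))) (.node (.node (.node (.node (.leaf 0x470001) (.leaf 0x139663286998003)) (.node (.leaf 0x2c2c27a0002) (.leaf 0))) (.node (.node (.leaf 0x643c6970002) (.leaf 0)) (.node (.leaf 0x17892c4e41a0bc40004) (.leaf 0)))) (.node (.node (.node (.leaf 0x2bac1e80002) (.leaf 0xe1a8001)) (.node (.leaf 0x15e22a945780003) (.leaf 0))) (.node (.node (.leaf 0x577c84f0002) (.leaf 0)) (.node (.leaf 0x4178001) (.leaf 0)))))) (.node (.node (.node (.node (.node (.leaf 0x2a8001) (.leaf 0x6418001)) (.node (.leaf 0x4d48001) (.leaf 0))) (.node (.node (.leaf 0x185a2f7e57e8b948004)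 (.leaf 0)) (.node (.leaf 0x8d50001) (.leaf 0)))) (.node (.node (.node (.leaf 0x62f863c0002) (.leaf 0xdf88001)) (.node (.leaf 0x2dde3bdcb9d8003) (.leaf 0))) (.node (.node (.leaf 0x168c10445a28ca20004) (.leaf 0)) (.node (.leaf 0x5a403ec0002) (.leaf 0))))) (.node (.node (.node (.node (.leaf 0x6a847210002) (.leaf 0xcfe0001)) (.node (.leaf 0x26985938ad68003) (.leaf 0))) (.node (.node (.leaf 0xee4b748002) (.leaf 0)) (.node (.leaf 0x3a58001) (.leaf 0)))) (.node (.node (.node (.leaf 0x32764e245760003) (.leaf 0xe9c8001)) (.node (.leaf 0x143f250e389032d0004) (.leaf 0))) (.node (.node (.leaf 0x2d1e27685918003) (.leaf 0)) (.node (.leaf 0x4558d390002) (.leaf 0))))))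
def pathRows_25 : Tree := .node (.node (.node (.node (.node (.node (.leaf 0x248001) (.leaf 0x5fe046b8002)) (.node (.leaf 0x2ebc5aa4b518003) (.leaf 0))) (.node (.node (.leaf 0x20c657a4b790003) (.leaf 0)) (.node (.leaf 0x3528001) (.leaf 0)))) (.node (.node (.node (.leaf 0x5c70b668002) (.leaf 0x5edcaef0002)) (.node (.leaf 0x5c48001) (.leaf 0))) (.node (.node (.leaf 0x1908001) (.leaf 0)) (.node (.leaf 0xcd98001) (.leaf 0))))) (.node (.node (.node (.node (.leaf 0x55a44460002) (.leaf 0xd9d8001)) (.node (.leaf 0x9c78001) (.leaf 0))) (.node (.node (.leaf 0x1730001) (.leaf 0)) (.node (.leaf 0x144925b03d04bc40004) (.leaf 0)))) (.node (.node (.node (.leaf 0xab0001) (.leaf 0xe258001)) (.node (.leaf 0x2a6c5780002) (.leaf 0))) (.node (.node (.leaf 0x1ef8001) (.leaf 0)) (.node (.leaf 0x5244bfc8002) (.leaf 0)))))) (.node (.node (.node (.node (.node (.leaf 0x2a20001) (.leaf 0x62f863e8002)) (.node (.leaf 0x15e22a705708003) (.leaf 0))) (.node (.node (.leaf 0x3294b948002) (.leaf 0))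 (.node (.leaf 0x3668001) (.leaf 0)))) (.node (.node (.node (.leaf 0x1bc0001) (.leaf 0x251a2fc4d850003)) (.node (.leaf 0xdc58001) (.leaf 0))) (.node (.node (.leaf 0x215cca20002) (.leaf 0)) (.node (.leaf 0x598cb470002) (.leaf 0))))) (.node (.node (.node (.node (.leaf 0x7610001) (.leaf 0xd010001)) (.node (.leaf 0x2ba0001) (.leaf 0))) (.node (.node (.leaf 0x10b8b748002) (.leaf 0)) (.node (.leaf 0xb8b0001) (.leaf 0)))) (.node (.node (.node (.leaf 0x106c5760002) (.leaf 0xe9d0001)) (.node (.leaf 0xacb0001) (.leaf 0))) (.node (.node (.leaf 0xbf10001) (.leaf 0)) (.node (.leaf 0x9e10001) (.leaf 0))))))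
def pathRows_26 : Tree := .node (.node (.node (.node (.node (.node (.leaf 0x380001) (.leaf 0xa710001)) (.node (.leaf 0xc0e8001) (.leaf 0))) (.node (.node (.leaf 0x11a0001) (.leaf 0)) (.node (.leaf 0x266847f0002) (.leaf 0)))) (.node (.node (.node (.leaf 0x5bbcdc60002) (.leaf 0x63f0aef0002)) (.node (.leaf 0xe8c0001) (.leaf 0))) (.node (.node (.leaf 0x5a78001) (.leaf 0)) (.node (.leaf 0x59443c80002) (.leaf 0))))) (.node (.node (.node (.node (.leaf 0x480001) (.leaf 0xd9e8001)) (.node (.leaf 0x5b48001) (.leaf 0))) (.node (.node (.leaf 0x39a8b8e8002) (.leaf 0)) (.node (.leaf 0x26d64e64bc40003) (.leaf 0)))) (.node (.node (.node (.leaf 0x2c100f50002) (.leaf 0xe268001)) (.node (.leaf 0x15e24f205780003) (.leaf 0))) (.node (.node (.leaf 0xe970001) (.leaf 0)) (.node (.leaf 0x2eb04198002) (.leaf 0)))))) (.node (.node (.node (.node (.node (.leaf 0x400001) (.leaf 0x6468001)) (.node (.leaf 0xae028e625bc5708004) (.leaf 0))) (.node (.node (.leaf 0xc0c8001) (.leaf 0)) (.node (.leaf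 0x633c3658002) (.leaf 0)))) (.node (.node (.node (.leaf 0x1380001) (.leaf 0x8d48001)) (.node (.leaf 0x173d1f885b48b9d8004) (.leaf 0))) (.node (.node (.leaf 0x38585a28ca20003) (.leaf 0)) (.node (.leaf 0x15bb0fd8276cb470004) (.leaf 0))))) (.node (.node (.node (.node (.leaf 0x56e474c0002) (.leaf 0xb5d0001)) (.node (.leaf 0x38b8001) (.leaf 0))) (.node (.node (.leaf 0x5860b7e8002) (.leaf 0)) (.node (.leaf 0x3a60001) (.leaf 0)))) (.node (.node (.node (.leaf 0x65485760002) (.leaf 0xe9b8001)) (.node (.leaf 0x35cc92b0002) (.leaf 0))) (.node (.node (.leaf 0x56e4a0a0002) (.leaf 0)) (.node (.leaf 0x4368001) (.leaf 0))))))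
def pathRows_27 : Tree := .node (.node (.node (.node (.node (.node (.leaf 0x2c0001) (.leaf 0xa740001)) (.node (.leaf 0xbb50001) (.leaf 0))) (.node (.node (.leaf 0x5be01970002) (.leaf 0)) (.node (.leaf 0x3518001) (.leaf 0)))) (.node (.node (.node (.leaf 0x5c70b8c8002) (.leaf 0xd338001)) (.node (.leaf 0xde60001) (.leaf 0))) (.node (.node (.leaf 0x5800001) (.leaf 0)) (.node (.leaf 0xcae0001) (.leaf 0))))) (.node (.node (.node (.node (.leaf 0xae728ea11742318004) (.leaf 0x62546a00002)) (.node (.leaf 0x2c6c2798002) (.leaf 0))) (.node (.node (.leaf 0x2e705c68b8e8003) (.leaf 0)) (.node (.leaf 0x144b253e4120bc40004) (.leaf 0)))) (.node (.node (.node (.leaf 0x2620001) (.leaf 0xe248001)) (.node (.leaf 0x2b805770002) (.leaf 0))) (.node (.node (.leaf 0xd868001) (.leaf 0)) (.node (.leaf 0x46c0001) (.leaf 0)))))) (.node (.node (.node (.node (.node (.leaf 0x530001) (.leaf 0x6478001)) (.node (.leaf 0x5718001) (.leaf 0))) (.node (.node (.leaf 0xbb80001) (.leaf 0)) (.node (.leaf 0x59c08950002)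 (.leaf 0)))) (.node (.node (.node (.leaf 0xe20001) (.leaf 0x8d38001)) (.node (.leaf 0x65c4b9d8002) (.leaf 0))) (.node (.node (.leaf 0x10605a28ca20003) (.leaf 0)) (.node (.leaf 0xd2b8001) (.leaf 0))))) (.node (.node (.node (.node (.leaf 0x4db47370002) (.leaf 0xcaf8001)) (.node (.leaf 0xac20001) (.leaf 0))) (.node (.node (.leaf 0x153c12a854c0b748004) (.leaf 0)) (.node (.leaf 0x2e68d2c0002) (.leaf 0)))) (.node (.node (.node (.leaf 0xd820001) (.leaf 0xe9f8001)) (.node (.leaf 0x288a35bc92b0003) (.leaf 0))) (.node (.node (.leaf 0x2360001) (.leaf 0)) (.node (.leaf 0x2f104358002) (.leaf 0))))))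
def pathRows_28 : Tree := .node (.node (.node (.node (.node (.node (.leaf 0x7f0001) (.leaf 0x5de8001)) (.node (.leaf 0xbb30001) (.leaf 0))) (.node (.node (.leaf 0xc1d8001) (.leaf 0)) (.node (.leaf 0x5d10001) (.leaf 0)))) (.node (.node (.node (.leaf 0x2e745b4cd008003) (.leaf 0x58688230002)) (.node (.leaf 0x2eb05eb0002) (.leaf 0))) (.node (.node (.leaf 0x6424c350002) (.leaf 0)) (.node (.leaf 0x2ca630b0a790003) (.leaf 0))))) (.node (.node (.node (.node (.leaf 0x2b00001) (.leaf 0x69a8001)) (.node (.leaf 0x577c8480002) (.leaf 0))) (.node (.node (.leaf 0x1990333a3984b8e8004) (.leaf 0)) (.node (.leaf 0x38485898bc40003) (.leaf 0)))) (.node (.node (.node (.leaf 0xe180001) (.leaf 0x251a2fc4e2c8003)) (.node (.leaf 0xa458001) (.leaf 0))) (.node (.node (.leaf 0x33ca593c9a68003) (.leaf 0)) (.node (.leaf 0x8898001) (.leaf 0)))))) (.node (.node (.node (.node (.node (.leaf 0x2d0001) (.leaf 0x346cc610002)) (.node (.leaf 0x15ce2ad05708003) (.leaf 0))) (.node (.node (.leaf 0x1188001)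 (.leaf 0)) (.node (.leaf 0x5168001) (.leaf 0)))) (.node (.node (.node (.leaf 0x31541008c500003) (.leaf 0x68c49000002)) (.node (.leaf 0x6c10001) (.leaf 0))) (.node (.node (.leaf 0x1882368c2498ca20004) (.leaf 0)) (.node (.leaf 0xa6e0001) (.leaf 0))))) (.node (.node (.node (.node (.leaf 0x5e2479f0002) (.leaf 0x71d8001)) (.node (.leaf 0x2be0001) (.leaf 0))) (.node (.node (.leaf 0xeecb748002) (.leaf 0)) (.node (.leaf 0x5868d2d0002) (.leaf 0)))) (.node (.node (.node (.leaf 0xf3c5750002) (.leaf 0xea28001)) (.node (.leaf 0x2e743d30002) (.leaf 0))) (.node (.node (.leaf 0x516826e0002) (.leaf 0)) (.node (.leaf 0x63304990002) (.leaf 0))))))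
def pathRows_29 : Tree := .node (.node (.node (.node (.node (.node (.leaf 0x8b0001) (.leaf 0x5db0001)) (.node (.leaf 0xd238001) (.leaf 0))) (.node (.node (.leaf 0x56d4cf70002) (.leaf 0)) (.node (.leaf 0x68c49080002) (.leaf 0)))) (.node (.node (.node (.leaf 0x633cdb60002) (.leaf 0x289a5e908140003)) (.node (.leaf 0x2da0001) (.leaf 0))) (.node (.node (.leaf 0x34d8c860002) (.leaf 0)) (.node (.leaf 0x7428a790002) (.leaf 0))))) (.node (.node (.node (.node (.leaf 0x2650001) (.leaf 0x4db473c0002)) (.node (.leaf 0xc780001) (.leaf 0))) (.node (.node (.leaf 0x5be019a0002) (.leaf 0)) (.node (.leaf 0x36f23fe8bc40003) (.leaf 0)))) (.node (.node (.node (.leaf 0x1cc858a0002) (.leaf 0x5a50e298002)) (.node (.leaf 0x2b8057f8002) (.leaf 0))) (.node (.node (.leaf 0x15a11466593c9a68004) (.leaf 0)) (.node (.leaf 0x41a8001) (.leaf 0)))))) (.node (.node (.node (.node (.node (.leaf 0x49ec28f0002) (.leaf 0xd898001)) (.node (.leaf 0x2b705708002) (.leaf 0))) (.node (.node (.leaf 0xba88001) (.leaf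 0)) (.node (.leaf 0x256e4b289758003) (.leaf 0)))) (.node (.node (.node (.leaf 0xda18001) (.leaf 0x595c8d70002)) (.node (.leaf 0x1a2c95c8002) (.leaf 0))) (.node (.node (.leaf 0x2bbe4260ca18003) (.leaf 0)) (.node (.leaf 0x88b0001) (.leaf 0))))) (.node (.node (.node (.node (.leaf 0x4a8878d0002) (.leaf 0xc758001)) (.node (.leaf 0xabe0001) (.leaf 0))) (.node (.node (.leaf 0x338a54c0b748003) (.leaf 0)) (.node (.leaf 0xc150001) (.leaf 0)))) (.node (.node (.node (.leaf 0xf245750002) (.leaf 0xea08001)) (.node (.leaf 0x3348001) (.leaf 0))) (.node (.node (.leaf 0x2118001) (.leaf 0)) (.node (.leaf 0xa558001) (.leaf 0))))))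
def pathRows_30 : Tree := .node (.node (.node (.node (.node (.node (.leaf 0x1a00140002) (.leaf 0x28b251ac5dd0003)) (.node (.leaf 0x5bacbb60002) (.leaf 0))) (.node (.node (.leaf 0x60dcc300002) (.leaf 0)) (.node (.leaf 0xe7b0001) (.leaf 0)))) (.node (.node (.node (.leaf 0xc0f8001) (.leaf 0x58608138002)) (.node (.leaf 0xa23928424d81a005ce0005) (.leaf 0))) (.node (.node (.leaf 0x1850001) (.leaf 0)) (.node (.leaf 0x5424a790002) (.leaf 0))))) (.node (.node (.node (.node (.leaf 0x2b58001) (.leaf 0x56d46bb8002)) (.node (.leaf 0xc790001) (.leaf 0))) (.node (.node (.leaf 0x31a25a68b8e8003) (.leaf 0)) (.node (.leaf 0x1fe25894bc30003) (.leaf 0)))) (.node (.node (.node (.leaf 0xa58001) (.leaf 0xe278001)) (.node (.leaf 0x2ba45720002) (.leaf 0))) (.node (.node (.leaf 0x1f20001) (.leaf 0)) (.node (.leaf 0x5fe06000002) (.leaf 0)))))) (.node (.node (.node (.node (.node (.leaf 0x256e4b282c40003) (.leaf 0x4bc46578002)) (.node (.leaf 0xb0b13ca27bc2498004) (.leaf 0))) (.node (.node (.leaf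 0x1580001) (.leaf 0)) (.node (.leaf 0x69e88b90002) (.leaf 0)))) (.node (.node (.node (.leaf 0x7240858002) (.leaf 0x8d28001)) (.node (.leaf 0x3d189350002) (.leaf 0))) (.node (.node (.leaf 0x23c4ca18002) (.leaf 0)) (.node (.leaf 0x8880001) (.leaf 0))))) (.node (.node (.node (.node (.leaf 0x4ca87760002) (.leaf 0x7658001)) (.node (.leaf 0x52945d68002) (.leaf 0))) (.node (.node (.leaf 0x2d24b748002) (.leaf 0)) (.node (.leaf 0xb860001) (.leaf 0)))) (.node (.node (.node (.leaf 0x17385750002) (.leaf 0xea18001)) (.node (.leaf 0x5cc8001) (.leaf 0))) (.node (.node (.leaf 0x2148001) (.leaf 0)) (.node (.leaf 0xd128001) (.leaf 0))))))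
def pathRows_31 : Tree := .node (.node (.node (.node (.node (.node (.leaf 0x1a00368002) (.leaf 0x595446f8002)) (.node (.leaf 0x22b0001) (.leaf 0))) (.node (.node (.leaf 0x1760001) (.leaf 0)) (.node (.leaf 0xd578001) (.leaf 0)))) (.node (.node (.node (.leaf 0x768001) (.leaf 0xaa38001)) (.node (.leaf 0x2e445ce0002) (.leaf 0))) (.node (.node (.leaf 0x18d8001) (.leaf 0)) (.node (.leaf 0x227a51dca790003) (.leaf 0))))) (.node (.node (.node (.node (.leaf 0x263c4b00002) (.leaf 0xc118001)) (.node (.leaf 0x27e0001) (.leaf 0))) (.node (.node (.leaf 0x6834b8e8002) (.leaf 0)) (.node (.leaf 0x178721045894bc30004) (.leaf 0)))) (.node (.node (.node (.leaf 0xa48001) (.leaf 0xe2a8001)) (.node (.leaf 0x2b8057d8002) (.leaf 0))) (.node (.node (.leaf 0x39ac593c9a68003) (.leaf 0)) (.node (.leaf 0x2cee3100a328003) (.leaf 0)))))) (.node (.node (.node (.node (.node (.leaf 0x570001) (.leaf 0x3e54b2c0002)) (.node (.leaf 0x9d20001) (.leaf 0))) (.node (.node (.leaf 0x11d0001) (.leaf 0)) (.node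 (.leaf 0xc328001) (.leaf 0)))) (.node (.node (.node (.leaf 0x1c30001) (.leaf 0x5a3cbf80002)) (.node (.leaf 0x2d98001) (.leaf 0))) (.node (.node (.leaf 0xb08091e278cca18004) (.leaf 0)) (.node (.leaf 0x595c8e60002) (.leaf 0))))) (.node (.node (.node (.node (.leaf 0x4ce476a0002) (.leaf 0x60947f40002)) (.node (.leaf 0x23485d68002) (.leaf 0))) (.node (.node (.leaf 0x54f0a9d953e2be657d0b720006) (.leaf 0)) (.node (.leaf 0x5e40001) (.leaf 0)))) (.node (.node (.node (.leaf 0xf2c5750002) (.leaf 0xea50001)) (.node (.leaf 0x3d20001) (.leaf 0))) (.node (.node (.leaf 0x2128001) (.leaf 0)) (.node (.leaf 0xad40001) (.leaf 0))))))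
def pathRows_32 : Tree := .node (.node (.node (.node (.node (.node (.leaf 0x330001) (.leaf 0x59c089d0002)) (.node (.leaf 0xbb10001) (.leaf 0))) (.node (.node (.leaf 0x5a5ccf50002) (.leaf 0)) (.node (.leaf 0x3550001) (.leaf 0)))) (.node (.node (.node (.leaf 0xb6d8001) (.leaf 0x5ea0b0d8002)) (.node (.leaf 0x2bb8001) (.leaf 0))) (.node (.node (.leaf 0x1cd0001) (.leaf 0)) (.node (.leaf 0x2ca253e0a790003) (.leaf 0))))) (.node (.node (.node (.node (.leaf 0x4b10001) (.leaf 0x7f20001)) (.node (.leaf 0x2850001) (.leaf 0))) (.node (.node (.leaf 0x2040001) (.leaf 0)) (.node (.leaf 0x1fde5894bc30003) (.leaf 0)))) (.node (.node (.node (.leaf 0x2e90001) (.leaf 0xe318001)) (.node (.leaf 0x59544d28002) (.leaf 0))) (.node (.node (.leaf 0x1569148a593c9a68004) (.leaf 0)) (.node (.leaf 0x518c5e70002) (.leaf 0)))))) (.node (.node (.node (.node (.node (.leaf 0x2cc0001) (.leaf 0xc198001)) (.node (.leaf 0x15d2522452f0003) (.leaf 0))) (.node (.node (.leaf 0x1198001) (.leaf 0)) (.node (.leaf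 0x2df03c00002) (.leaf 0)))) (.node (.node (.node (.leaf 0xe90001) (.leaf 0x16d469f48fa0003)) (.node (.leaf 0x4ad06aa0002) (.leaf 0))) (.node (.node (.leaf 0xb0813c023d4ca18004) (.leaf 0)) (.node (.leaf 0x5a403ed8002) (.leaf 0))))) (.node (.node (.node (.node (.leaf 0x618001) (.leaf 0xbd38001)) (.node (.leaf 0x2a38001) (.leaf 0))) (.node (.node (.leaf 0x5b94afa95f22a7e5b8c1660006) (.leaf 0)) (.node (.leaf 0x60f0cd30002) (.leaf 0)))) (.node (.node (.node (.leaf 0xf4c5750002) (.leaf 0x495cea98002)) (.node (.leaf 0x288627cc9288003) (.leaf 0))) (.node (.node (.leaf 0x2ca651a08f10003) (.leaf 0)) (.node (.leaf 0x356ca968002) (.leaf 0))))))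
def pathRows_33 : Tree := .node (.node (.node (.node (.node (.node (.leaf 0x270001) (.leaf 0xcfa0001)) (.node (.leaf 0x22c0001) (.leaf 0))) (.node (.node (.leaf 0xd040001) (.leaf 0)) (.node (.leaf 0x69c03750002) (.leaf 0)))) (.node (.node (.node (.leaf 0x4cfcb6c8002) (.leaf 0xb7295f52be454fcdc48005)) (.node (.leaf 0x17341a485ce0003) (.leaf 0))) (.node (.node (.leaf 0x1848001) (.leaf 0)) (.node (.leaf 0xe940001) (.leaf 0))))) (.node (.node (.node (.node (.leaf 0x2ad0001) (.leaf 0xc778001)) (.node (.leaf 0x6ad8c668002) (.leaf 0))) (.node (.node (.leaf 0x13d8001) (.leaf 0)) (.node (.leaf 0x279e5894bc30003) (.leaf 0)))) (.node (.node (.node (.leaf 0xaa8001) (.leaf 0xe328001)) (.node (.leaf 0x9e30001) (.leaf 0))) (.node (.node (.leaf 0x2cba3f789a68003) (.leaf 0)) (.node (.leaf 0x67f88998002) (.leaf 0)))))) (.node (.node (.node (.node (.node (.leaf 0x710001) (.leaf 0x5ed46580002)) (.node (.leaf 0x24e8001) (.leaf 0))) (.node (.node (.leaf 0x5ac0b7a0002) (.leaf 0)) (.node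 (.leaf 0x2cc036c8002) (.leaf 0)))) (.node (.node (.node (.leaf 0xe70001) (.leaf 0xcf30001)) (.node (.leaf 0x2f123d109350003) (.leaf 0))) (.node (.node (.leaf 0x2c2c4f289ef0920278cca18006) (.leaf 0)) (.node (.leaf 0xe470001) (.leaf 0))))) (.node (.node (.node (.node (.leaf 0x4cfc7b00002) (.leaf 0xbc18001)) (.node (.leaf 0x1c7c5d68002) (.leaf 0))) (.node (.node (.leaf 0x40b4d1e153e2be657d0b720006) (.leaf 0)) (.node (.leaf 0xd290001) (.leaf 0)))) (.node (.node (.node (.leaf 0xbd0001) (.leaf 0xea78001)) (.node (.leaf 0xcb68001) (.leaf 0))) (.node (.node (.leaf 0x59b06170002) (.leaf 0)) (.node (.leaf 0x549c4860002) (.leaf 0))))))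
def pathRows_34 : Tree := .node (.node (.node (.node (.node (.node (.leaf 0x870001) (.leaf 0xa170001)) (.node (.leaf 0xa8a8001) (.leaf 0))) (.node (.node (.leaf 0x9250001) (.leaf 0)) (.node (.leaf 0x135a1f364d40d378004) (.leaf 0)))) (.node (.node (.node (.leaf 0x770001) (.leaf 0xec30001)) (.node (.leaf 0x56285ce0002) (.leaf 0))) (.node (.node (.leaf 0x2bb42080002) (.leaf 0)) (.node (.leaf 0x297051dca790003) (.leaf 0))))) (.node (.node (.node (.node (.leaf 0x51645450002) (.leaf 0x609cb838002)) (.node (.leaf 0x1b1cc668002) (.leaf 0))) (.node (.node (.leaf 0x2e40001) (.leaf 0)) (.node (.leaf 0x144d276e5894bc30004) (.leaf 0)))) (.node (.node (.node (.leaf 0x5050001) (.leaf 0xe3c0001)) (.node (.leaf 0x387c92a0002) (.leaf 0))) (.node (.node (.leaf 0x2aac593c9a68003) (.leaf 0)) (.node (.leaf 0x595446e0002) (.leaf 0)))))) (.node (.node (.node (.node (.node (.leaf 0x1ba0001) (.leaf 0xe4c0001)) (.node (.leaf 0x24f8001) (.leaf 0))) (.node (.node (.leaf 0x30b43bf8b7a0003) (.leaf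 0)) (.node (.leaf 0x38c0001) (.leaf 0)))) (.node (.node (.node (.leaf 0x62081b10002) (.leaf 0xe080001)) (.node (.leaf 0xaae8001) (.leaf 0))) (.node (.node (.leaf 0x15d665041a80003) (.leaf 0)) (.node (.leaf 0x3f00001) (.leaf 0))))) (.node (.node (.node (.node (.leaf 0x2dd64d247690003) (.leaf 0x6640cc58002)) (.node (.leaf 0x2a40001) (.leaf 0))) (.node (.node (.leaf 0x95290412be657d0b720005) (.leaf 0)) (.node (.leaf 0x5e40b878002) (.leaf 0)))) (.node (.node (.node (.leaf 0x11085750002) (.leaf 0xead8001)) (.node (.leaf 0x3320664cc1e8003) (.leaf 0))) (.node (.node (.leaf 0x2168001) (.leaf 0)) (.node (.leaf 0x2f1854ac43e8003) (.leaf 0))))))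
def pathRows_35 : Tree := .node (.node (.node (.node (.node (.node (.leaf 0xc40001) (.leaf 0xce38001)) (.node (.leaf 0x5a5ca898002) (.leaf 0))) (.node (.node (.leaf 0xd90001) (.leaf 0)) (.node (.leaf 0x4674d378002) (.leaf 0)))) (.node (.node (.node (.leaf 0x5bd4ba60002) (.leaf 0x58848620002)) (.node (.leaf 0x73405ce0002) (.leaf 0))) (.node (.node (.leaf 0x6544c9f0002) (.leaf 0)) (.node (.leaf 0xde80001) (.leaf 0))))) (.node (.node (.node (.node (.leaf 0x50d025a0002) (.leaf 0xdaf0001)) (.node (.leaf 0x2890001) (.leaf 0))) (.node (.node (.leaf 0x1408001) (.leaf 0)) (.node (.leaf 0x33f65894bc30003) (.leaf 0)))) (.node (.node (.node (.leaf 0x1da858a0002) (.leaf 0xe398001)) (.node (.leaf 0x50fc3170002) (.leaf 0))) (.node (.node (.leaf 0x1e48b280002) (.leaf 0)) (.node (.leaf 0x41b8001) (.leaf 0)))))) (.node (.node (.node (.node (.node (.leaf 0x15d0001) (.leaf 0x4868cef0002)) (.node (.leaf 0xaf128d82a50a2c0004) (.leaf 0))) (.node (.node (.leaf 0x2d4c5ae0b7a0003) (.leaf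 0)) (.node (.leaf 0x5c60001) (.leaf 0)))) (.node (.node (.node (.leaf 0x62746610002) (.leaf 0x674c90e0002)) (.node (.leaf 0x44c0cff8002) (.leaf 0))) (.node (.node (.leaf 0x6400ca18002) (.leaf 0)) (.node (.leaf 0x2e103f48002) (.leaf 0))))) (.node (.node (.node (.node (.leaf 0x620001) (.leaf 0x71f8001)) (.node (.leaf 0xe9e2f1c5d68003) (.leaf 0))) (.node (.node (.leaf 0xaf210d7277457d0b720005) (.leaf 0)) (.node (.leaf 0x1623347640c8dbb0004) (.leaf 0)))) (.node (.node (.node (.leaf 0xbe0001) (.leaf 0xeaf8001)) (.node (.leaf 0x3b3cc1e8002) (.leaf 0))) (.node (.node (.leaf 0x5ca06500002) (.leaf 0)) (.node (.leaf 0x2f203798a968003) (.leaf 0))))))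
def pathRows_36 : Tree := .node (.node (.node (.node (.node (.node (.leaf 0xd60001) (.leaf 0x2c1259f08a60003)) (.node (.leaf 0x53cca778002) (.leaf 0))) (.node (.node (.leaf 0xd78001) (.leaf 0)) (.node (.leaf 0x16f869b03790003) (.leaf 0)))) (.node (.node (.node (.leaf 0xb7295f52be454fcb6f8005) (.leaf 0xd220001)) (.node (.leaf 0x2de23324be50003) (.leaf 0))) (.node (.node (.leaf 0x2200001) (.leaf 0)) (.node (.leaf 0x2f60576c3cb8003) (.leaf 0))))) (.node (.node (.node (.node (.leaf 0x2640001) (.leaf 0x6bd0001)) (.node (.leaf 0x6b04c668002) (.leaf 0))) (.node (.node (.leaf 0x1420001) (.leaf 0)) (.node (.leaf 0xdc10001) (.leaf 0)))) (.node (.node (.node (.leaf 0x1ed0001) (.leaf 0x25162fcce368003)) (.node (.leaf 0x2e683480002) (.leaf 0))) (.node (.node (.leaf 0x53dcb280002) (.leaf 0)) (.node (.leaf 0x8de0001) (.leaf 0)))))) (.node (.node (.node (.node (.node (.leaf 0x308001) (.leaf 0x47b4cef0002)) (.node (.leaf 0x51645490002) (.leaf 0))) (.node (.node (.leaf 0x2dd85ab8b7a0003)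 (.leaf 0)) (.node (.leaf 0x2b803ab49870003) (.leaf 0)))) (.node (.node (.node (.leaf 0xc8b0001) (.leaf 0xcfc8001)) (.node (.leaf 0x72e8cff8002) (.leaf 0))) (.node (.node (.leaf 0x31bcc5f8002) (.leaf 0)) (.node (.leaf 0x90c0001) (.leaf 0))))) (.node (.node (.node (.node (.leaf 0x4d607d80002) (.leaf 0x2f6a576085d0003)) (.node (.leaf 0x29022f405d68003) (.leaf 0))) (.node (.node (.leaf 0xb38b71153e2be657d0b720006) (.leaf 0)) (.node (.leaf 0x5da0001) (.leaf 0)))) (.node (.node (.node (.leaf 0x147f1838520c5740004) (.leaf 0x2e745b4cea48003)) (.node (.leaf 0xd318001) (.leaf 0))) (.node (.node (.leaf 0xb818001) (.leaf 0)) (.node (.leaf 0x4b78a968002) (.leaf 0))))))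
def pathRows_37 : Tree := .node (.node (.node (.node (.node (.node (.leaf 0xe8001) (.leaf 0xd7b0001)) (.node (.leaf 0xe590001) (.leaf 0))) (.node (.node (.leaf 0xf80001) (.leaf 0)) (.node (.leaf 0x5f68d378002) (.leaf 0)))) (.node (.node (.node (.leaf 0xbb28001) (.leaf 0x6168d210002)) (.node (.leaf 0x12ef2b9c3b8c97c0004) (.leaf 0))) (.node (.node (.leaf 0x2bac1e60002) (.leaf 0)) (.node (.leaf 0xa878001) (.leaf 0))))) (.node (.node (.node (.node (.leaf 0x2600001) (.leaf 0xd8e8001)) (.node (.leaf 0x2840001) (.leaf 0))) (.node (.node (.leaf 0x334cc620002) (.leaf 0)) (.node (.leaf 0x12ef2b9c3dbc97e0004) (.leaf 0)))) (.node (.node (.node (.leaf 0x2100001) (.leaf 0xe348001)) (.node (.leaf 0x5c70001) (.leaf 0))) (.node (.node (.leaf 0x53ecb280002) (.leaf 0)) (.node (.leaf 0x26ca5cf88e78003) (.leaf 0)))))) (.node (.node (.node (.node (.node (.leaf 0x370001) (.leaf 0x57449f78002)) (.node (.leaf 0x28dc48a0a2c0003) (.leaf 0))) (.node (.node (.leaf 0x5b80b7a0002) (.leaf 0)) (.node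 (.leaf 0x36d0001) (.leaf 0)))) (.node (.node (.node (.leaf 0x890001) (.leaf 0xcfb8001)) (.node (.leaf 0x251044d8cff8003) (.leaf 0))) (.node (.node (.leaf 0x31dcc5f8002) (.leaf 0)) (.node (.leaf 0x26ca5cf83ef8003) (.leaf 0))))) (.node (.node (.node (.node (.leaf 0x4d307bf0002) (.leaf 0x71e8001)) (.node (.leaf 0x5fe05e18002) (.leaf 0))) (.node (.node (.leaf 0xdbd95f121b057d0b720005) (.leaf 0)) (.node (.leaf 0x17582f183a88003) (.leaf 0)))) (.node (.node (.node (.leaf 0x15ce2b345740003) (.leaf 0xeaa8001)) (.node (.leaf 0x6f28c1e8002) (.leaf 0))) (.node (.node (.leaf 0x17282bf642349e60004) (.leaf 0)) (.node (.leaf 0x7440a968002) (.leaf 0))))))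
def pathRows_38 : Tree := .node (.node (.node (.node (.node (.node (.leaf 0x328001) (.leaf 0x26985938aac8003)) (.node (.leaf 0xbde0001) (.leaf 0))) (.node (.node (.leaf 0x1060001) (.leaf 0)) (.node (.leaf 0x5e543710002) (.leaf 0)))) (.node (.node (.node (.leaf 0x9d0b930002) (.leaf 0x609cd200002)) (.node (.leaf 0x62e8001) (.leaf 0))) (.node (.node (.leaf 0x18b8001) (.leaf 0)) (.node (.leaf 0xec60001) (.leaf 0))))) (.node (.node (.node (.node (.leaf 0x2c644f50002) (.leaf 0xa880001)) (.node (.leaf 0x24c4c670002) (.leaf 0))) (.node (.node (.leaf 0xc940001) (.leaf 0)) (.node (.leaf 0x3d9caff0002) (.leaf 0)))) (.node (.node (.node (.leaf 0x3284250058c0003) (.leaf 0xe378001)) (.node (.leaf 0x5c98001) (.leaf 0))) (.node (.node (.leaf 0x72f8b280002) (.leaf 0)) (.node (.leaf 0xb328001) (.leaf 0)))))) (.node (.node (.node (.node (.node (.leaf 0x398001) (.leaf 0x58dc9f98002)) (.node (.leaf 0x2ca630a8a2c0003) (.leaf 0))) (.node (.node (.leaf 0x6db8b7a0002) (.leaf 0)) (.node (.leaf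 0x394c575cbcc8003) (.leaf 0)))) (.node (.node (.node (.leaf 0xb30001) (.leaf 0xdd38001)) (.node (.leaf 0x16d41ae4cff8003) (.leaf 0))) (.node (.node (.leaf 0x15da31d4c5f8003) (.leaf 0)) (.node (.leaf 0x9098001) (.leaf 0))))) (.node (.node (.node (.node (.leaf 0x4d4c7ad0002) (.leaf 0x9ce0001)) (.node (.leaf 0xa508001) (.leaf 0))) (.node (.node (.leaf 0x1680001) (.leaf 0)) (.node (.leaf 0x429c5e28002) (.leaf 0)))) (.node (.node (.node (.leaf 0x2bf05740002) (.leaf 0xeb58001)) (.node (.leaf 0x3368001) (.leaf 0))) (.node (.node (.leaf 0x5ac8001) (.leaf 0)) (.node (.leaf 0x55eca968002) (.leaf 0))))))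
def pathRows_39 : Tree := .node (.node (.node (.node (.node (.node (.leaf 0xf0001) (.leaf 0xe710001)) (.node (.leaf 0xd800001) (.leaf 0))) (.node (.node (.leaf 0xfc4c5d0002) (.leaf 0)) (.node (.leaf 0x48dcd3a8002) (.leaf 0)))) (.node (.node (.node (.leaf 0x780001) (.leaf 0xd240001)) (.node (.leaf 0x9f58001) (.leaf 0))) (.node (.node (.leaf 0x1888001) (.leaf 0)) (.node (.leaf 0xcbd8001) (.leaf 0))))) (.node (.node (.node (.node (.leaf 0x519c4b30002) (.leaf 0x6bc8001)) (.node (.leaf 0x1b38c670002) (.leaf 0))) (.node (.node (.leaf 0x1480001) (.leaf 0)) (.node (.leaf 0x5e14aff0002) (.leaf 0)))) (.node (.node (.node (.leaf 0x328423dc58c0003) (.leaf 0xe418001)) (.node (.leaf 0x36b0001) (.leaf 0))) (.node (.node (.leaf 0x14f328ec540cb280004) (.leaf 0)) (.node (.leaf 0xd658001) (.leaf 0)))))) (.node (.node (.node (.node (.node (.leaf 0x510001) (.leaf 0x50a0aee8002)) (.node (.leaf 0x3704a230002) (.leaf 0))) (.node (.node (.leaf 0x5dc8b7a0002) (.leaf 0)) (.node (.leaf 0x268e3928bcc8003)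 (.leaf 0)))) (.node (.node (.node (.leaf 0x38549b50002) (.leaf 0x2e74ceb0002)) (.node (.leaf 0x546ccff8002) (.leaf 0))) (.node (.node (.leaf 0x6f08c5f8002) (.leaf 0)) (.node (.leaf 0xdba0001) (.leaf 0))))) (.node (.node (.node (.node (.leaf 0x5e247a10002) (.leaf 0xc738001)) (.node (.leaf 0x5d78001) (.leaf 0))) (.node (.node (.leaf 0x2458ab40002) (.leaf 0)) (.node (.leaf 0xd5a0001) (.leaf 0)))) (.node (.node (.node (.leaf 0x15ce2b5c5740003) (.leaf 0xeb90001)) (.node (.leaf 0x5ddcc1e8002) (.leaf 0))) (.node (.node (.leaf 0xc058001) (.leaf 0)) (.node (.leaf 0xe230001) (.leaf 0))))))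
def pathRows_40 : Tree := .node (.node (.node (.node (.node (.node (.leaf 0x7e0001) (.leaf 0x27c44d78002)) (.node (.leaf 0x45f4b420002) (.leaf 0))) (.node (.node (.leaf 0x11c0001) (.leaf 0)) (.node (.leaf 0x69cc8910002) (.leaf 0)))) (.node (.node (.node (.leaf 0xbe00001) (.leaf 0xd260001)) (.node (.leaf 0x4bbc62d8002) (.leaf 0))) (.node (.node (.leaf 0x1948001) (.leaf 0)) (.node (.leaf 0xe4b0001) (.leaf 0))))) (.node (.node (.node (.node (.leaf 0x8c0001) (.leaf 0xe980001)) (.node (.leaf 0x2ce64c8cc670003) (.leaf 0))) (.node (.node (.leaf 0x1418001) (.leaf 0)) (.node (.leaf 0x9ea0001) (.leaf 0)))) (.node (.node (.node (.leaf 0xad8001) (.leaf 0xe408001)) (.node (.leaf 0x5bf0001) (.leaf 0))) (.node (.node (.leaf 0x16a22d505414b280004) (.leaf 0)) (.node (.leaf 0x41d8001) (.leaf 0)))))) (.node (.node (.node (.node (.node (.leaf 0xac0001) (.leaf 0x56d49fc8002)) (.node (.leaf 0x68324da4a14a230004) (.leaf 0))) (.node (.node (.leaf 0x17982bac4f7cbda0004) (.leaf 0)) (.node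 (.leaf 0x2b723a58bcc8003) (.leaf 0)))) (.node (.node (.node (.leaf 0x289639dc9b50003) (.leaf 0x9268001)) (.node (.leaf 0x2db8001) (.leaf 0))) (.node (.node (.leaf 0x31ecc5f8002) (.leaf 0)) (.node (.leaf 0x58dcdac8002) (.leaf 0))))) (.node (.node (.node (.node (.leaf 0x57900630002) (.leaf 0x3f74b2e0002)) (.node (.leaf 0x5fd8001) (.leaf 0))) (.node (.node (.leaf 0xa850001) (.leaf 0)) (.node (.leaf 0xa4d8001) (.leaf 0)))) (.node (.node (.node (.leaf 0x194213c42b145740004) (.leaf 0xeb78001)) (.node (.leaf 0x5e309d50002) (.leaf 0))) (.node (.node (.leaf 0x9478bee138827045a98005) (.leaf 0)) (.node (.leaf 0x328e248c4df0003) (.leaf 0))))))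
def pathRows_41 : Tree := .node (.node (.node (.node (.node (.node (.leaf 0xd30001) (.leaf 0x26ec4dc8002)) (.node (.leaf 0x26ca5cf8a738003) (.leaf 0))) (.node (.node (.leaf 0x1110001) (.leaf 0)) (.node (.leaf 0x48acd3a8002) (.leaf 0)))) (.node (.node (.node (.leaf 0xbd98001) (.leaf 0x2efc4570d190003)) (.node (.leaf 0x2bd8001) (.leaf 0))) (.node (.node (.leaf 0x1958001) (.leaf 0)) (.node (.leaf 0xc100001) (.leaf 0))))) (.node (.node (.node (.node (.leaf 0x28885890002) (.leaf 0xdfb0001)) (.node (.leaf 0x7060c670002) (.leaf 0))) (.node (.node (.leaf 0x1438001) (.leaf 0)) (.node (.leaf 0x2de266e4aff0003) (.leaf 0)))) (.node (.node (.node (.leaf 0x27b458c0002) (.leaf 0x5a50e438002)) (.node (.leaf 0x5fe0001) (.leaf 0))) (.node (.node (.leaf 0x5404b280002) (.leaf 0)) (.node (.leaf 0x4700001) (.leaf 0)))))) (.node (.node (.node (.node (.node (.leaf 0x496c2fc0002) (.leaf 0x7020aee8002)) (.node (.leaf 0x2518001) (.leaf 0))) (.node (.node (.leaf 0x32c8bda0002) (.leaf 0)) (.node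 (.leaf 0x2ba23938bcc8003) (.leaf 0)))) (.node (.node (.node (.leaf 0x888001) (.leaf 0x9238001)) (.node (.leaf 0xd620001) (.leaf 0))) (.node (.node (.leaf 0x64fc1aa8002) (.leaf 0)) (.node (.leaf 0x2ce63af49860003) (.leaf 0))))) (.node (.node (.node (.node (.leaf 0x8120001) (.leaf 0x6d58b1b0002)) (.node (.leaf 0x2eb05d98002) (.leaf 0))) (.node (.node (.leaf 0xcec8001) (.leaf 0)) (.node (.leaf 0xc6c8001) (.leaf 0)))) (.node (.node (.node (.leaf 0x165129fc52205740004) (.leaf 0xeb88001)) (.node (.leaf 0x2e7433e8002) (.leaf 0))) (.node (.node (.leaf 0x6640cc68002) (.leaf 0)) (.node (.leaf 0xe770001) (.leaf 0))))))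
def pathRows_42 : Tree := .node (.node (.node (.node (.node (.node (.leaf 0x12d0001) (.leaf 0x5030001)) (.node (.leaf 0x2ca651a0a728003) (.leaf 0))) (.node (.node (.leaf 0xdb8001) (.leaf 0)) (.node (.leaf 0x48fcd3a8002) (.leaf 0)))) (.node (.node (.node (.leaf 0x8acb930002) (.leaf 0x82c0001)) (.node (.leaf 0x26763c60adc0003) (.leaf 0))) (.node (.node (.leaf 0xe3e0001) (.leaf 0)) (.node (.leaf 0x3cd0001) (.leaf 0))))) (.node (.node (.node (.node (.leaf 0x1c40001) (.leaf 0xa660001)) (.node (.leaf 0x15f228ecc670003) (.leaf 0))) (.node (.node (.leaf 0x1478001) (.leaf 0)) (.node (.leaf 0x3858001) (.leaf 0)))) (.node (.node (.node (.leaf 0x4cc02f30002) (.leaf 0xe448001)) (.node (.leaf 0x5f4c9488002) (.leaf 0))) (.node (.node (.leaf 0x1f38001) (.leaf 0)) (.node (.leaf 0xe2f0001) (.leaf 0)))))) (.node (.node (.node (.node (.node (.leaf 0x3c0001) (.leaf 0x65a0001)) (.node (.leaf 0x67f24da4a14a230004) (.leaf 0))) (.node (.node (.leaf 0x618411e0002) (.leaf 0)) (.node (.leaf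 0x2baa3a10bcc8003) (.leaf 0)))) (.node (.node (.node (.leaf 0x1c4c4ab09b50003) (.leaf 0x9208001)) (.node (.leaf 0x64ec9c18002) (.leaf 0))) (.node (.node (.leaf 0x161664c0c5f8003) (.leaf 0)) (.node (.leaf 0x3f28001) (.leaf 0))))) (.node (.node (.node (.node (.leaf 0x2dd04f2c8300003) (.leaf 0x26ca5cf8a8c0003)) (.node (.leaf 0x97a0001) (.leaf 0))) (.node (.node (.leaf 0x134c2c9c2478ab40004) (.leaf 0)) (.node (.leaf 0x28fe52345e28003) (.leaf 0)))) (.node (.node (.node (.leaf 0x145928d62aa85730004) (.leaf 0xeb28001)) (.node (.leaf 0x50f45ee8002) (.leaf 0))) (.node (.node (.leaf 0xbae0001) (.leaf 0)) (.node (.leaf 0x24a44df0002) (.leaf 0))))))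
def pathRows_43 : Tree := .node (.node (.node (.node (.node (.node (.leaf 0x5b00348002) (.leaf 0x4da8001)) (.node (.leaf 0x2ca651a0a758003) (.leaf 0))) (.node (.node (.leaf 0xda8001) (.leaf 0)) (.node (.leaf 0x48b4d3a8002) (.leaf 0)))) (.node (.node (.node (.leaf 0xc048001) (.leaf 0x442cd190002)) (.node (.leaf 0x54b06ac0002) (.leaf 0))) (.node (.node (.leaf 0x5a3c5948002) (.leaf 0)) (.node (.leaf 0x18252c6a41e8c120004) (.leaf 0))))) (.node (.node (.node (.node (.leaf 0x2c100e00002) (.leaf 0xe9a0001)) (.node (.leaf 0x287a42b4c670003) (.leaf 0))) (.node (.node (.leaf 0x1468001) (.leaf 0)) (.node (.leaf 0x6c40aff0002) (.leaf 0)))) (.node (.node (.node (.leaf 0xf8a27905850003) (.leaf 0x4c28e3d8002)) (.node (.leaf 0x4a3c3330002) (.leaf 0))) (.node (.node (.leaf 0x166c29aa51a4b290004) (.leaf 0)) (.node (.leaf 0xbf08001) (.leaf 0)))))) (.node (.node (.node (.node (.node (.leaf 0x3b8001) (.leaf 0x13966328da90003)) (.node (.leaf 0xbe824da4a14a230004) (.leaf 0))) (.node (.node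 (.leaf 0x15dc27f6509cbda0004) (.leaf 0)) (.node (.leaf 0x152c27c0575cbcc8004) (.leaf 0)))) (.node (.node (.node (.leaf 0xb10001) (.leaf 0x62f89278002)) (.node (.leaf 0x2e08001) (.leaf 0))) (.node (.node (.leaf 0x1bb8001) (.leaf 0)) (.node (.leaf 0x39fcd250002) (.leaf 0))))) (.node (.node (.node (.node (.leaf 0x16e52bea57c881f0004) (.leaf 0xe3b0001)) (.node (.leaf 0xa478001) (.leaf 0))) (.node (.node (.leaf 0x5b70ab40002) (.leaf 0)) (.node (.leaf 0x15ff1ed44abc9a10004) (.leaf 0)))) (.node (.node (.node (.leaf 0x147d12d051d05730004) (.leaf 0xebb8001)) (.node (.leaf 0x5d58001) (.leaf 0))) (.node (.node (.leaf 0x2188001) (.leaf 0)) (.node (.leaf 0x4448001) (.leaf 0))))))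
def pathRows_44 : Tree := .node (.node (.node (.node (.node (.node (.leaf 0x1780348002) (.leaf 0x257054a44830003)) (.node (.leaf 0x5954a6f8002) (.leaf 0))) (.node (.node (.leaf 0x1020001) (.leaf 0)) (.node (.leaf 0x48d4d3a8002) (.leaf 0)))) (.node (.node (.node (.leaf 0xab8b930002) (.leaf 0x13344424d190003)) (.node (.leaf 0x256e4b282c68003) (.leaf 0))) (.node (.node (.leaf 0x65a4cc88002) (.leaf 0)) (.node (.leaf 0x3f9cc120002) (.leaf 0))))) (.node (.node (.node (.node (.leaf 0xa80001) (.leaf 0xdb90001)) (.node (.leaf 0x6d38c670002) (.leaf 0))) (.node (.node (.leaf 0xca68001) (.leaf 0)) (.node (.leaf 0xfea56f897b8003) (.leaf 0)))) (.node (.node (.node (.leaf 0x70b85850002) (.leaf 0xe468001)) (.node (.leaf 0xe890001) (.leaf 0))) (.node (.node (.leaf 0x165523be51a4b290004) (.leaf 0)) (.node (.leaf 0xd158001) (.leaf 0)))))) (.node (.node (.node (.node (.node (.leaf 0x3140001) (.leaf 0x50cc65b0002)) (.node (.leaf 0x19900b3e4a14a230004) (.leaf 0))) (.node (.node (.leaf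 0x36c85764bda0003) (.leaf 0)) (.node (.leaf 0x35463a38bcc8003) (.leaf 0)))) (.node (.node (.node (.leaf 0x5ba01db0002) (.leaf 0x9c58001)) (.node (.leaf 0x2de8001) (.leaf 0))) (.node (.node (.leaf 0x2bb42090002) (.leaf 0)) (.node (.leaf 0x68849860002) (.leaf 0))))) (.node (.node (.node (.node (.leaf 0x578c8060002) (.leaf 0x72c8001)) (.node (.leaf 0x36c49600002) (.leaf 0))) (.node (.node (.leaf 0x12b72a4a2450ab40004) (.leaf 0)) (.node (.leaf 0x1dfa4abc9a10003) (.leaf 0)))) (.node (.node (.node (.leaf 0x15d22b685730003) (.leaf 0xeb48001)) (.node (.leaf 0x5f30001) (.leaf 0))) (.node (.node (.leaf 0xbd68001) (.leaf 0)) (.node (.leaf 0x385427384df0003) (.leaf 0))))))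
def pathRows_45 : Tree := .node (.node (.node (.node (.node (.node (.leaf 0x1880348002) (.leaf 0xac98001)) (.node (.leaf 0x2c10a708002) (.leaf 0))) (.node (.node (.leaf 0x10b0001) (.leaf 0)) (.node (.leaf 0x7028d3a8002) (.leaf 0)))) (.node (.node (.node (.leaf 0x3f5cb0c8002) (.leaf 0x13344414d190003)) (.node (.leaf 0x2a58369c9638003) (.leaf 0))) (.node (.node (.leaf 0x19a11cbe6670cc88004) (.leaf 0)) (.node (.leaf 0x3cc8001) (.leaf 0))))) (.node (.node (.node (.node (.leaf 0x498001) (.leaf 0x5e247a88002)) (.node (.leaf 0x3264c840002) (.leaf 0))) (.node (.node (.leaf 0xc968001) (.leaf 0)) (.node (.leaf 0x9b596292312500897b8005) (.leaf 0)))) (.node (.node (.node (.leaf 0xae8001) (.leaf 0xe3f8001)) (.node (.leaf 0x5fc0001) (.leaf 0))) (.node (.node (.leaf 0x1f40001) (.leaf 0)) (.node (.leaf 0xd618001) (.leaf 0)))))) (.node (.node (.node (.node (.node (.leaf 0x2ac0001) (.leaf 0xa128001)) (.node (.leaf 0x1c5624da4a14a230004) (.leaf 0))) (.node (.node (.leaf 0x2026509cbda0003)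 (.leaf 0)) (.node (.leaf 0x68cc8830002) (.leaf 0)))) (.node (.node (.node (.leaf 0xbe30001) (.leaf 0x62f8ca50002)) (.node (.leaf 0x2e38001) (.leaf 0))) (.node (.node (.leaf 0x62081b78002) (.leaf 0)) (.node (.leaf 0x6e70d250002) (.leaf 0))))) (.node (.node (.node (.node (.leaf 0x6ddc7fb0002) (.leaf 0xa8b0001)) (.node (.leaf 0x258c36bc9600003) (.leaf 0))) (.node (.node (.leaf 0x67a04f80002) (.leaf 0)) (.node (.leaf 0x16f51df64abc9a10004) (.leaf 0)))) (.node (.node (.node (.leaf 0x15c025c45730003) (.leaf 0xebc8001)) (.node (.leaf 0x9cf0001) (.leaf 0))) (.node (.node (.leaf 0x2d445aa05bb8003) (.leaf 0)) (.node (.leaf 0x15a1112427384df0004) (.leaf 0))))))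
def pathRows_46 : Tree := .node (.node (.node (.node (.node (.node (.leaf 0x1ac0348002) (.leaf 0x48c8001)) (.node (.leaf 0x6bf8b420002) (.leaf 0))) (.node (.node (.leaf 0x25162fccc6d0003) (.leaf 0)) (.node (.leaf 0x4d10001) (.leaf 0)))) (.node (.node (.node (.leaf 0x5b58b0c8002) (.leaf 0x145928d64454d190004)) (.node (.leaf 0x4b889638002) (.leaf 0))) (.node (.node (.leaf 0x5be019b8002) (.leaf 0)) (.node (.leaf 0x7478c120002) (.leaf 0))))) (.node (.node (.node (.node (.leaf 0x2150001) (.leaf 0x4db473a0002)) (.node (.leaf 0x325cc840002) (.leaf 0))) (.node (.node (.leaf 0x17d0001) (.leaf 0)) (.node (.leaf 0xfe256f897b8003) (.leaf 0)))) (.node (.node (.node (.leaf 0x58c894313aa27905850005) (.leaf 0x2f6a5760e548003)) (.node (.leaf 0x3370001) (.leaf 0))) (.node (.node (.leaf 0xb29946823c251a4b290005) (.leaf 0)) (.node (.leaf 0xd660001) (.leaf 0)))))) (.node (.node (.node (.node (.node (.leaf 0x3190001) (.leaf 0xa168001)) (.node (.leaf 0x2548001) (.leaf 0))) (.node (.node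 (.leaf 0x2efc6d50bda0003) (.leaf 0)) (.node (.leaf 0x3730001) (.leaf 0)))) (.node (.node (.node (.leaf 0xbb48001) (.leaf 0xba00001)) (.node (.leaf 0x2df8001) (.leaf 0))) (.node (.node (.leaf 0x1bd8001) (.leaf 0)) (.node (.leaf 0x14792c263a78d250004) (.leaf 0))))) (.node (.node (.node (.node (.leaf 0x650001) (.leaf 0x668c72d0002)) (.node (.leaf 0x6fb8001) (.leaf 0))) (.node (.node (.leaf 0x214c4f80002) (.leaf 0)) (.node (.leaf 0xbdd0001) (.leaf 0)))) (.node (.node (.node (.leaf 0x15d22b785730003) (.leaf 0xec78001)) (.node (.leaf 0xdd10001) (.leaf 0))) (.node (.node (.leaf 0xbdc8001) (.leaf 0)) (.node (.leaf 0x4518001) (.leaf 0))))))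
def pathRows_47 : Tree := .node (.node (.node (.node (.node (.node (.leaf 0x690001) (.leaf 0xac08001)) (.node (.leaf 0x2308001) (.leaf 0))) (.node (.node (.leaf 0x6168ba40002) (.leaf 0)) (.node (.leaf 0x3580001) (.leaf 0)))) (.node (.node (.node (.leaf 0x289c585c87c0003) (.leaf 0x34f247e0d190003)) (.node (.leaf 0x5e406f20002) (.leaf 0))) (.node (.node (.leaf 0x33426690cc88003) (.leaf 0)) (.node (.leaf 0x5be8c120002) (.leaf 0))))) (.node (.node (.node (.node (.leaf 0x4d0001) (.leaf 0x9cd8001)) (.node (.leaf 0x64282828002) (.leaf 0))) (.node (.node (.leaf 0x14a8001) (.leaf 0)) (.node (.leaf 0x38a8001) (.leaf 0)))) (.node (.node (.node (.leaf 0xca109d313aa27905850005) (.leaf 0x5c8ce498002)) (.node (.leaf 0xdcb8001) (.leaf 0))) (.node (.node (.leaf 0x23b651a4b290003) (.leaf 0)) (.node (.leaf 0x127855944240003) (.leaf 0)))))) (.node (.node (.node (.node (.node (.leaf 0x25264a543110003) (.leaf 0xa780001)) (.node (.leaf 0xea30001) (.leaf 0))) (.node (.node (.leaf 0x3b24c2d8002)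 (.leaf 0)) (.node (.leaf 0x5a00001) (.leaf 0)))) (.node (.node (.node (.leaf 0xb7295f52be454fc9e88005) (.leaf 0xdd78001)) (.node (.leaf 0x251a2fc4d670003) (.leaf 0))) (.node (.node (.leaf 0x1be8001) (.leaf 0)) (.node (.leaf 0x3a04d250002) (.leaf 0))))) (.node (.node (.node (.node (.leaf 0x4d08001) (.leaf 0xeac0001)) (.node (.leaf 0x258c36a49600003) (.leaf 0))) (.node (.node (.leaf 0x24ec4f80002) (.leaf 0)) (.node (.leaf 0x5ba0001) (.leaf 0)))) (.node (.node (.node (.leaf 0x8b651d05730003) (.leaf 0xec48001)) (.node (.leaf 0x5e409728002) (.leaf 0))) (.node (.node (.leaf 0xbab0001) (.leaf 0)) (.node (.leaf 0xa578001) (.leaf 0))))))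
def pathRows_48 : Tree := .node (.node (.node (.node (.node (.node (.leaf 0x5c9c1140002) (.leaf 0xd750001)) (.node (.leaf 0x8c425aca3e0003) (.leaf 0))) (.node (.node (.leaf 0x62f86390002) (.leaf 0)) (.node (.leaf 0x37a0001) (.leaf 0)))) (.node (.node (.node (.leaf 0x304e5c10b0c8003) (.leaf 0xd16164620b868b8d180005)) (.node (.leaf 0x183f115054bc9638004) (.leaf 0))) (.node (.node (.leaf 0x6650cc88002) (.leaf 0)) (.node (.leaf 0x5e24dbf8002) (.leaf 0))))) (.node (.node (.node (.node (.leaf 0x4a8001) (.leaf 0xd460001)) (.node (.leaf 0x327cc840002) (.leaf 0))) (.node (.node (.leaf 0x14b8001) (.leaf 0)) (.node (.leaf 0x570098e8002) (.leaf 0)))) (.node (.node (.node (.leaf 0x13b827905850003) (.leaf 0xe488001)) (.node (.leaf 0x35949610002) (.leaf 0))) (.node (.node (.leaf 0x23ba51a4b290003) (.leaf 0)) (.node (.leaf 0x55a44450002) (.leaf 0)))))) (.node (.node (.node (.node (.node (.leaf 0x700001) (.leaf 0xa5d8001)) (.node (.leaf 0x2528001) (.leaf 0))) (.node (.node (.leaf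 0x16f32bd05b10c2d8004) (.leaf 0)) (.node (.leaf 0x6340001) (.leaf 0)))) (.node (.node (.node (.leaf 0x5ba01de0002) (.leaf 0xdd58001)) (.node (.leaf 0x646644469d0003) (.leaf 0))) (.node (.node (.leaf 0xda08001) (.leaf 0)) (.node (.leaf 0x2e4639b09a30003) (.leaf 0))))) (.node (.node (.node (.node (.leaf 0x6328001) (.leaf 0xd810001)) (.node (.leaf 0x1bac4b109600003) (.leaf 0))) (.node (.node (.leaf 0x26c84f80002) (.leaf 0)) (.node (.leaf 0x2d6c4abc9a10003) (.leaf 0)))) (.node (.node (.node (.leaf 0x14f328ec45205730004) (.leaf 0xebd8001)) (.node (.leaf 0x5e306fe0002) (.leaf 0))) (.node (.node (.leaf 0x2b723d8c99f0003) (.leaf 0)) (.node (.leaf 0xe7f0001) (.leaf 0))))))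
def pathRows_49 : Tree := .node (.node (.node (.node (.node (.node (.leaf 0x1a00158002) (.leaf 0xac18001)) (.node (.leaf 0x2370001) (.leaf 0))) (.node (.node (.leaf 0xf98001) (.leaf 0)) (.node (.leaf 0x35a0001) (.leaf 0)))) (.node (.node (.node (.leaf 0x30b45bf8b0c8003) (.leaf 0x4814d180002)) (.node (.leaf 0x110254bc9638003) (.leaf 0))) (.node (.node (.leaf 0x2ce04c20cd48003) (.leaf 0)) (.node (.leaf 0x588cd340002) (.leaf 0))))) (.node (.node (.node (.node (.leaf 0x860001) (.leaf 0xa650001)) (.node (.leaf 0x32764df4c840003) (.leaf 0))) (.node (.node (.leaf 0x1498001) (.leaf 0)) (.node (.leaf 0x25823bac97b8003) (.leaf 0)))) (.node (.node (.node (.leaf 0x63d85850002) (.leaf 0x5c8ce558002)) (.node (.leaf 0x2a58357c9610003) (.leaf 0))) (.node (.node (.leaf 0x72e0b2a0002) (.leaf 0)) (.node (.leaf 0xac38001) (.leaf 0)))))) (.node (.node (.node (.node (.node (.leaf 0x3f0001) (.leaf 0xa530001)) (.node (.leaf 0xea60001) (.leaf 0))) (.node (.node (.leaf 0x5af0c2d8002) (.leaf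 0)) (.node (.leaf 0x5208001) (.leaf 0)))) (.node (.node (.node (.leaf 0x5df8bcf8002) (.leaf 0x64ecdd88002)) (.node (.leaf 0x642464d0002) (.leaf 0))) (.node (.node (.leaf 0x1ec0001) (.leaf 0)) (.node (.leaf 0x39349a30002) (.leaf 0))))) (.node (.node (.node (.node (.leaf 0x69b88c90002) (.leaf 0xd708001)) (.node (.leaf 0x2a58001) (.leaf 0))) (.node (.node (.leaf 0x26dc4f80002) (.leaf 0)) (.node (.leaf 0x2bac5b80002) (.leaf 0)))) (.node (.node (.node (.leaf 0xc30001) (.leaf 0xec80001)) (.node (.leaf 0x5e4096d8002) (.leaf 0))) (.node (.node (.leaf 0x2bfe3d9099f0003) (.leaf 0)) (.node (.leaf 0x9478bee138827044538005) (.leaf 0))))))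
def pathRows_50 : Tree := .node (.node (.node (.node (.node (.node (.leaf 0x7c0001) (.leaf 0xc7f8001)) (.node (.leaf 0x118822f8002) (.leaf 0))) (.node (.node (.leaf 0xfb8001) (.leaf 0)) (.node (.leaf 0x3720001) (.leaf 0)))) (.node (.node (.node (.leaf 0x790001) (.leaf 0x483cd180002)) (.node (.leaf 0xcba0001) (.leaf 0))) (.node (.node (.leaf 0x6638cc88002) (.leaf 0)) (.node (.leaf 0xb890001) (.leaf 0))))) (.node (.node (.node (.node (.leaf 0x4e0001) (.leaf 0x6c28001)) (.node (.leaf 0x62d428a0002) (.leaf 0))) (.node (.node (.leaf 0x16f0001) (.leaf 0)) (.node (.leaf 0xfe656f897b8003) (.leaf 0)))) (.node (.node (.node (.leaf 0xf7227845848003) (.leaf 0x5964e4a8002)) (.node (.leaf 0x7008001) (.leaf 0))) (.node (.node (.leaf 0x1f50001) (.leaf 0)) (.node (.leaf 0xd8b8001) (.leaf 0)))))) (.node (.node (.node (.node (.node (.leaf 0x3d8001) (.leaf 0x2b9ca5b8002)) (.node (.leaf 0x7570a220002) (.leaf 0))) (.node (.node (.leaf 0x3fb0c2d8002) (.leaf 0)) (.node (.leaf 0xc760001)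 (.leaf 0)))) (.node (.node (.node (.leaf 0x5a88001) (.leaf 0xdda8001)) (.node (.leaf 0x62082ec8002) (.leaf 0))) (.node (.node (.leaf 0x1c08001) (.leaf 0)) (.node (.leaf 0x56ec3f78002) (.leaf 0))))) (.node (.node (.node (.node (.leaf 0x5df88b40002) (.leaf 0x2fb4d748002)) (.node (.leaf 0x2ad64b109600003) (.leaf 0))) (.node (.node (.leaf 0x288624044f80003) (.leaf 0)) (.node (.leaf 0x5ca06550002) (.leaf 0)))) (.node (.node (.node (.leaf 0x2c100c08002) (.leaf 0xebe8001)) (.node (.leaf 0x5e306ff0002) (.leaf 0))) (.node (.node (.leaf 0x21a8001) (.leaf 0)) (.node (.leaf 0x5240001) (.leaf 0))))))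
def pathRows_51 : Tree := .node (.node (.node (.node (.node (.node (.leaf 0xf40001) (.leaf 0x25824b14aa80003)) (.node (.leaf 0x2b40001) (.leaf 0))) (.node (.node (.leaf 0xfc8001) (.leaf 0)) (.node (.leaf 0xad88001) (.leaf 0)))) (.node (.node (.node (.leaf 0xb5116a82ec25c94b0c8005) (.leaf 0x2ff04824d180003)) (.node (.leaf 0x60f0bce0002) (.leaf 0))) (.node (.node (.leaf 0x19e8001) (.leaf 0)) (.node (.leaf 0x5e58001) (.leaf 0))))) (.node (.node (.node (.node (.leaf 0xf20001) (.leaf 0x5e406f00002)) (.node (.leaf 0x2838001) (.leaf 0))) (.node (.node (.leaf 0x69d091c0002) (.leaf 0)) (.node (.leaf 0x3918001) (.leaf 0)))) (.node (.node (.node (.leaf 0xf7427845848003) (.leaf 0xe528001)) (.node (.leaf 0x2a5835749610003) (.leaf 0))) (.node (.node (.leaf 0x236cb2a0002) (.leaf 0)) (.node (.leaf 0x568444a0002) (.leaf 0)))))) (.node (.node (.node (.node (.node (.leaf 0x2e7433d0002) (.leaf 0xbec0001)) (.node (.leaf 0x2700001) (.leaf 0))) (.node (.node (.leaf 0x16182e485d2cc2d8004)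 (.leaf 0)) (.node (.leaf 0xdd08001) (.leaf 0)))) (.node (.node (.node (.leaf 0x6420001) (.leaf 0xde08001)) (.node (.leaf 0x2ee8001) (.leaf 0))) (.node (.node (.leaf 0x1ea0001) (.leaf 0)) (.node (.leaf 0x15b72ba639589a30004) (.leaf 0))))) (.node (.node (.node (.node (.leaf 0x5bcc87e0002) (.leaf 0x354a4b3873e8003)) (.node (.leaf 0x368c95b0002) (.leaf 0))) (.node (.node (.leaf 0x256855784f80003) (.leaf 0)) (.node (.leaf 0x5ad0001) (.leaf 0)))) (.node (.node (.node (.leaf 0xf18001) (.leaf 0xec28001)) (.node (.leaf 0x54b09d90002) (.leaf 0))) (.node (.node (.leaf 0x25fa3db099f0003) (.leaf 0)) (.node (.leaf 0xcd50001) (.leaf 0))))))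
def pathRows_52 : Tree := .node (.node (.node (.node (.node (.node (.leaf 0x160001) (.leaf 0x519c4b20002)) (.node (.leaf 0x4c80001) (.leaf 0))) (.node (.node (.leaf 0xfe0001) (.leaf 0)) (.node (.leaf 0x69c03760002) (.leaf 0)))) (.node (.node (.node (.leaf 0x7a0001) (.leaf 0x480cd180002)) (.node (.leaf 0x2d80001) (.leaf 0))) (.node (.node (.leaf 0x33123bd4b770003) (.leaf 0)) (.node (.leaf 0xdec0001) (.leaf 0))))) (.node (.node (.node (.node (.leaf 0x625c65d0002) (.leaf 0x4adc6f58002)) (.node (.leaf 0x1a74c680002) (.leaf 0))) (.node (.node (.leaf 0xc8e0001) (.leaf 0)) (.node (.leaf 0x50a8001) (.leaf 0)))) (.node (.node (.node (.leaf 0xaf8001) (.leaf 0x68cce508002)) (.node (.leaf 0x5e306fc0002) (.leaf 0))) (.node (.node (.leaf 0x2698b2a0002) (.leaf 0)) (.node (.leaf 0xc698001) (.leaf 0)))))) (.node (.node (.node (.node (.node (.leaf 0x410001) (.leaf 0x69b8beb0002)) (.node (.leaf 0x2538001) (.leaf 0))) (.node (.node (.leaf 0x1220001) (.leaf 0)) (.node (.leaf 0x346248304e48003)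 (.leaf 0)))) (.node (.node (.node (.leaf 0x8d0001) (.leaf 0xdd98001)) (.node (.leaf 0x2bac2ea8002) (.leaf 0))) (.node (.node (.leaf 0x69b88cd0002) (.leaf 0)) (.node (.leaf 0x56dca090002) (.leaf 0))))) (.node (.node (.node (.node (.leaf 0x69cc88f0002) (.leaf 0xe280001)) (.node (.leaf 0x2a68001) (.leaf 0))) (.node (.node (.leaf 0x16e8001) (.leaf 0)) (.node (.leaf 0x2d445aa03b38003) (.leaf 0)))) (.node (.node (.node (.leaf 0xec0001) (.leaf 0)) (.node (.leaf 0x2ccc3448002) (.leaf 0))) (.node (.node (.leaf 0x5b98001) (.leaf 0)) (.node (.leaf 0xe7a0001) (.leaf 0))))))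
def pathRows_53 : Tree := .node (.node (.node (.node (.node (.node (.leaf 0xc80001) (.leaf 0x53cc5310002)) (.node (.leaf 0xe820001) (.leaf 0))) (.node (.node (.leaf 0xe2d0001) (.leaf 0)) (.node (.leaf 0x3690001) (.leaf 0)))) (.node (.node (.node (.leaf 0x59cc9928002) (.leaf 0x346268bc82d0003)) (.node (.leaf 0x5caccd00002) (.leaf 0))) (.node (.node (.leaf 0x19c8001) (.leaf 0)) (.node (.leaf 0xdc38001) (.leaf 0))))) (.node (.node (.node (.node (.leaf 0x5ba01da0002) (.leaf 0x6bf8001)) (.node (.leaf 0x2bbe4280c680003) (.leaf 0))) (.node (.node (.leaf 0x17a0001) (.leaf 0)) (.node (.leaf 0x3920001) (.leaf 0)))) (.node (.node (.node (.leaf 0x161613e05848003) (.leaf 0xe568001)) (.node (.leaf 0x2fb431c8002) (.leaf 0))) (.node (.node (.leaf 0x53b0b2a0002) (.leaf 0)) (.node (.leaf 0x258c54b84410003) (.leaf 0)))))) (.node (.node (.node (.node (.node (.leaf 0x420001) (.leaf 0xbee0001)) (.node (.leaf 0x2688001) (.leaf 0))) (.node (.node (.leaf 0x5d64c2d8002) (.leaf 0)) (.node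 (.leaf 0x1d684e48002) (.leaf 0)))) (.node (.node (.node (.leaf 0xb50001) (.leaf 0xddc8001)) (.node (.leaf 0x2e88001) (.leaf 0))) (.node (.node (.leaf 0x6350001) (.leaf 0)) (.node (.leaf 0x24ae5c449a30003) (.leaf 0))))) (.node (.node (.node (.node (.leaf 0x23f44cd8002) (.leaf 0xd738001)) (.node (.leaf 0x6f98001) (.leaf 0))) (.node (.node (.leaf 0x64246490002) (.leaf 0)) (.node (.leaf 0x2de25f08b538003) (.leaf 0)))) (.node (.node (.node (.leaf 0xef0001) (.leaf 0)) (.node (.leaf 0xabf8001) (.leaf 0))) (.node (.node (.leaf 0x2260001) (.leaf 0)) (.node (.leaf 0xc330001) (.leaf 0))))))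
def pathRows_54 : Tree := .node (.node (.node (.node (.node (.node (.leaf 0x629c17f0002) (.leaf 0x5668a3c0002)) (.node (.leaf 0x2358001) (.leaf 0))) (.node (.node (.leaf 0xdcf0001) (.leaf 0)) (.node (.leaf 0x3598001) (.leaf 0)))) (.node (.node (.node (.leaf 0x5c10001) (.leaf 0x6aa4d180002)) (.node (.leaf 0xccc8001) (.leaf 0))) (.node (.node (.leaf 0x33126e38b770003) (.leaf 0)) (.node (.leaf 0xd2e0001) (.leaf 0))))) (.node (.node (.node (.node (.leaf 0x4c8001) (.leaf 0x256e4b286c48003)) (.node (.leaf 0x16d442d0c680003) (.leaf 0))) (.node (.node (.leaf 0x14d8001) (.leaf 0)) (.node (.leaf 0x5a504220002) (.leaf 0)))) (.node (.node (.node (.leaf 0xb20001) (.leaf 0x4c28e608002)) (.node (.leaf 0xab68001) (.leaf 0))) (.node (.node (.leaf 0x2670b2a0002) (.leaf 0)) (.node (.leaf 0x4390001) (.leaf 0)))))) (.node (.node (.node (.node (.node (.leaf 0xf403e8002) (.leaf 0xe420001)) (.node (.leaf 0x18aca1e0002) (.leaf 0))) (.node (.node (.leaf 0x1230001) (.leaf 0)) (.node (.leaf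 0x2d084e48002) (.leaf 0)))) (.node (.node (.node (.leaf 0x900001) (.leaf 0xde28001)) (.node (.leaf 0x50d02ef8002) (.leaf 0))) (.node (.node (.leaf 0x1f00001) (.leaf 0)) (.node (.leaf 0x69ac9a30002) (.leaf 0))))) (.node (.node (.node (.node (.leaf 0x8d10001) (.leaf 0xd718001)) (.node (.leaf 0x24de37b895b0003) (.leaf 0))) (.node (.node (.leaf 0x16d8001) (.leaf 0)) (.node (.leaf 0x5ab0001) (.leaf 0)))) (.node (.node (.node (.leaf 0x62241cb0002) (.leaf 0)) (.node (.leaf 0xdb30001) (.leaf 0))) (.node (.node (.leaf 0x21b8001) (.leaf 0)) (.node (.leaf 0xc2c0001) (.leaf 0))))))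
def pathRows_55 : Tree := .node (.node (.node (.node (.node (.node (.leaf 0x1720001) (.leaf 0xc2b8001)) (.node (.leaf 0x306ca3f0002) (.leaf 0))) (.node (.node (.leaf 0x10c0001) (.leaf 0)) (.node (.leaf 0x251a2fc439c0003) (.leaf 0)))) (.node (.node (.node (.leaf 0x8550001) (.leaf 0x69c08948002)) (.node (.leaf 0x2dc0001) (.leaf 0))) (.node (.node (.leaf 0x33426810b770003) (.leaf 0)) (.node (.leaf 0xdc08001) (.leaf 0))))) (.node (.node (.node (.node (.leaf 0x670001) (.leaf 0xd430001)) (.node (.leaf 0x251024acc680003) (.leaf 0))) (.node (.node (.leaf 0x14c8001) (.leaf 0)) (.node (.leaf 0x128d17e2270c3c10004) (.leaf 0)))) (.node (.node (.node (.leaf 0x2c180b80002) (.leaf 0xe5e8001)) (.node (.leaf 0x353c95a8002) (.leaf 0))) (.node (.node (.leaf 0xe610001) (.leaf 0)) (.node (.leaf 0x4278001) (.leaf 0)))))) (.node (.node (.node (.node (.node (.leaf 0x34c0001) (.leaf 0x4c34bea0002)) (.node (.leaf 0x2f80a1e0002) (.leaf 0))) (.node (.node (.leaf 0x5238001) (.leaf 0)) (.node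 (.leaf 0x2ec04e48002) (.leaf 0)))) (.node (.node (.node (.leaf 0x8f0001) (.leaf 0xded8001)) (.node (.leaf 0xc9b8001) (.leaf 0))) (.node (.node (.leaf 0x2d4c3ee89a78003) (.leaf 0)) (.node (.leaf 0xb4e8001) (.leaf 0))))) (.node (.node (.node (.node (.leaf 0x68cc8800002) (.leaf 0x5bc4d838002)) (.node (.leaf 0x1b004b2c95b0003) (.leaf 0))) (.node (.node (.leaf 0x1708001) (.leaf 0)) (.node (.leaf 0x153c2c2a5aa83c30004) (.leaf 0)))) (.node (.node (.node (.leaf 0xda48001) (.leaf 0)) (.node (.leaf 0x136d254e3a18aea0004) (.leaf 0))) (.node (.node (.leaf 0x5a3c5968002) (.leaf 0)) (.node (.leaf 0xd938001) (.leaf 0))))))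
def pathRows_56 : Tree := .node (.node (.node (.node (.node (.node (.leaf 0x3a8001) (.leaf 0x5350001)) (.node (.leaf 0x2348001) (.leaf 0))) (.node (.node (.leaf 0xfd8001) (.leaf 0)) (.node (.leaf 0x35e0001) (.leaf 0)))) (.node (.node (.node (.leaf 0x8540001) (.leaf 0x16d469f48f90003)) (.node (.leaf 0xd058001) (.leaf 0))) (.node (.node (.leaf 0x1a30001) (.leaf 0)) (.node (.leaf 0x5a504210002) (.leaf 0))))) (.node (.node (.node (.node (.leaf 0xcd0001) (.leaf 0x26a8aad8002)) (.node (.leaf 0x1de04cb8c680003) (.leaf 0))) (.node (.node (.leaf 0x1528001) (.leaf 0)) (.node (.leaf 0x2f10d648002) (.leaf 0)))) (.node (.node (.node (.leaf 0xb08001) (.leaf 0xe578001)) (.node (.leaf 0x31d8001) (.leaf 0))) (.node (.node (.leaf 0x46ccb2b0002) (.leaf 0)) (.node (.leaf 0x26fc4900002) (.leaf 0)))))) (.node (.node (.node (.node (.node (.leaf 0x3570001) (.leaf 0xc6e0001)) (.node (.leaf 0x288a4e80a1e0003) (.leaf 0))) (.node (.node (.leaf 0x53cca5a8002) (.leaf 0)) (.node (.leaf 0x3748001)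 (.leaf 0)))) (.node (.node (.node (.leaf 0xb308001) (.leaf 0xdea8001)) (.node (.leaf 0x103057309b60003) (.leaf 0))) (.node (.node (.leaf 0x4d281e20002) (.leaf 0)) (.node (.leaf 0xe000001) (.leaf 0))))) (.node (.node (.node (.node (.leaf 0x69d091e0002) (.leaf 0x7628001)) (.node (.leaf 0x26da39c095b0003) (.leaf 0))) (.node (.node (.leaf 0x16b8001) (.leaf 0)) (.node (.leaf 0x3b48001) (.leaf 0)))) (.node (.node (.node (.leaf 0xc28001) (.leaf 0)) (.node (.leaf 0x3890001) (.leaf 0))) (.node (.node (.leaf 0x21f8001) (.leaf 0)) (.node (.leaf 0xc6f0001) (.leaf 0))))))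
def pathRows_57 : Tree := .node (.node (.node (.node (.node (.node (.leaf 0x170001) (.leaf 0x6130a3c0002)) (.node (.leaf 0x2b20001) (.leaf 0))) (.node (.node (.leaf 0xff8001) (.leaf 0)) (.node (.leaf 0x5210001) (.leaf 0)))) (.node (.node (.node (.leaf 0x26864ab8b5a8003) (.leaf 0xd990001)) (.node (.leaf 0x2d443efcb9c8003) (.leaf 0))) (.node (.node (.leaf 0x19d8001) (.leaf 0)) (.node (.leaf 0x4650001) (.leaf 0))))) (.node (.node (.node (.node (.leaf 0x4b8001) (.leaf 0x6ec8001)) (.node (.leaf 0x5cd8c680002) (.leaf 0))) (.node (.node (.leaf 0x14f8001) (.leaf 0)) (.node (.leaf 0x39a0001) (.leaf 0)))) (.node (.node (.node (.leaf 0x23185004ae08003) (.leaf 0xe628001)) (.node (.leaf 0x4ae07018002) (.leaf 0))) (.node (.node (.leaf 0x46e4b2b0002) (.leaf 0)) (.node (.leaf 0x42d0001) (.leaf 0)))))) (.node (.node (.node (.node (.node (.leaf 0x430001) (.leaf 0x26da4a9cdcc8003)) (.node (.leaf 0x1354a1c0002) (.leaf 0))) (.node (.node (.leaf 0x2d2e25344de0003) (.leaf 0)) (.node (.leaf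 0xd288001) (.leaf 0)))) (.node (.node (.node (.leaf 0xb40001) (.leaf 0xde38001)) (.node (.leaf 0x2b6e3c809b60003) (.leaf 0))) (.node (.node (.leaf 0x2e20001) (.leaf 0)) (.node (.leaf 0xcc08001) (.leaf 0))))) (.node (.node (.node (.node (.leaf 0x68cc88e0002) (.leaf 0x5bc4be20002)) (.node (.leaf 0x1222549095b0003) (.leaf 0))) (.node (.node (.leaf 0x1698001) (.leaf 0)) (.node (.leaf 0x161027804e88003) (.leaf 0)))) (.node (.node (.node (.leaf 0x16a0001) (.leaf 0)) (.node (.leaf 0x17982bac394c9ed8004) (.leaf 0))) (.node (.node (.leaf 0xbef8001) (.leaf 0)) (.node (.leaf 0x47f4d3c0002) (.leaf 0))))))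
def pathRows_58 : Tree := .node (.node (.node (.node (.node (.node (.leaf 0xed8001) (.leaf 0x52b0001)) (.node (.leaf 0x2618001) (.leaf 0))) (.node (.node (.leaf 0x1090001) (.leaf 0)) (.node (.leaf 0x33744b3cd520003) (.leaf 0)))) (.node (.node (.node (.leaf 0x67848a70002) (.leaf 0xd5e8001)) (.node (.leaf 0xde90001) (.leaf 0))) (.node (.node (.leaf 0x2c305c901a28003) (.leaf 0)) (.node (.leaf 0x2eb03d08002) (.leaf 0))))) (.node (.node (.node (.node (.leaf 0x1320001) (.leaf 0x6ea8001)) (.node (.leaf 0x6418c680002) (.leaf 0))) (.node (.node (.leaf 0x4d68001) (.leaf 0)) (.node (.leaf 0x3938001) (.leaf 0)))) (.node (.node (.node (.leaf 0x25ec56fc5b18003) (.leaf 0xe588001)) (.node (.leaf 0x4afc6f80002) (.leaf 0))) (.node (.node (.leaf 0x2ff046ecb2b0003) (.leaf 0)) (.node (.leaf 0x651c44f0002) (.leaf 0)))))) (.node (.node (.node (.node (.node (.leaf 0x2e8438e0002) (.leaf 0x5770cd68002)) (.node (.leaf 0xb988001) (.leaf 0))) (.node (.node (.leaf 0xa598001) (.leaf 0)) (.node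 (.leaf 0x5be1a6c0de028a84e48005) (.leaf 0)))) (.node (.node (.node (.leaf 0xa90001) (.leaf 0xdee8001)) (.node (.leaf 0x2f08001) (.leaf 0))) (.node (.node (.leaf 0x1c28001) (.leaf 0)) (.node (.leaf 0xeb60001) (.leaf 0))))) (.node (.node (.node (.node (.leaf 0x23ec4cd8002) (.leaf 0x61687630002)) (.node (.leaf 0x4a6c2c30002) (.leaf 0))) (.node (.node (.leaf 0xc920001) (.leaf 0)) (.node (.leaf 0x9478bee138827043b70005) (.leaf 0)))) (.node (.node (.node (.leaf 0xe88001) (.leaf 0)) (.node (.leaf 0x2f3057589f38003) (.leaf 0))) (.node (.node (.leaf 0xe350001) (.leaf 0)) (.node (.leaf 0x612c45b8002) (.leaf 0))))))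
def pathRows_59 : Tree := .node (.node (.node (.node (.node (.node (.leaf 0x4f0001) (.leaf 0x651ca540002)) (.node (.leaf 0x4c90001) (.leaf 0))) (.node (.node (.leaf 0x1038001) (.leaf 0)) (.node (.leaf 0x37344b3cd520003) (.leaf 0)))) (.node (.node (.node (.leaf 0x2d20001) (.leaf 0x69e48ff0002)) (.node (.leaf 0x2cd8001) (.leaf 0))) (.node (.node (.leaf 0x6f80b900002) (.leaf 0)) (.node (.leaf 0x59c0001) (.leaf 0))))) (.node (.node (.node (.node (.leaf 0x61fc6720002) (.leaf 0x4b186f68002)) (.node (.leaf 0x15ee2758d900003) (.leaf 0))) (.node (.node (.leaf 0xbaa8001) (.leaf 0)) (.node (.leaf 0x51e0001) (.leaf 0)))) (.node (.node (.node (.leaf 0x5e60a060002) (.leaf 0xe5b8001)) (.node (.leaf 0x4ae07038002) (.leaf 0))) (.node (.node (.leaf 0x46fcb2b0002) (.leaf 0)) (.node (.leaf 0xbf60001) (.leaf 0)))))) (.node (.node (.node (.node (.node (.leaf 0x139028ac3770003) (.leaf 0x399cb910002)) (.node (.leaf 0xeab0001) (.leaf 0))) (.node (.node (.leaf 0x5ca0c318002) (.leaf 0)) (.node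 (.leaf 0x5098001) (.leaf 0)))) (.node (.node (.node (.leaf 0x8e8001) (.leaf 0x4b18de48002)) (.node (.leaf 0xa2492d81e9a3ae89b60005) (.leaf 0))) (.node (.node (.leaf 0x1c58001) (.leaf 0)) (.node (.leaf 0x5974cc18002) (.leaf 0))))) (.node (.node (.node (.node (.leaf 0x8930001) (.leaf 0x2f0e58907fa0003)) (.node (.leaf 0x2ab8001) (.leaf 0))) (.node (.node (.leaf 0x5c9c1748002) (.leaf 0)) (.node (.leaf 0x51f0001) (.leaf 0)))) (.node (.node (.node (.leaf 0xc18001) (.leaf 0)) (.node (.leaf 0x34a8001) (.leaf 0))) (.node (.node (.leaf 0xd6d0001) (.leaf 0)) (.node (.leaf 0xe4e0001) (.leaf 0))))))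
def pathRows_60 : Tree := .node (.node (.node (.node (.node (.node (.leaf 0x1b80001) (.leaf 0xa580001)) (.node (.leaf 0x5330001) (.leaf 0))) (.node (.node (.leaf 0x6b18a380002) (.leaf 0)) (.node (.leaf 0x69b88cc0002) (.leaf 0)))) (.node (.node (.node (.leaf 0x2e1c4cb8002) (.leaf 0xcea0001)) (.node (.leaf 0x2da03f00b9c8003) (.leaf 0))) (.node (.node (.leaf 0x5a60b900002) (.leaf 0)) (.node (.leaf 0x4500001) (.leaf 0))))) (.node (.node (.node (.node (.leaf 0x5be01960002) (.leaf 0x4b0c6ed8002)) (.node (.leaf 0xd8c0001) (.leaf 0))) (.node (.node (.leaf 0x267e5800be48003) (.leaf 0)) (.node (.leaf 0x59a0001) (.leaf 0)))) (.node (.node (.node (.leaf 0x25ec4c58ae08003) (.leaf 0xe6e8001)) (.node (.leaf 0x2e385cbc95a8003) (.leaf 0))) (.node (.node (.leaf 0x46c4b2b0002) (.leaf 0)) (.node (.leaf 0x48d0001) (.leaf 0)))))) (.node (.node (.node (.node (.node (.leaf 0x34b0001) (.leaf 0x67e8001)) (.node (.leaf 0xeb00001) (.leaf 0))) (.node (.node (.leaf 0xad30001) (.leaf 0)) (.node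 (.leaf 0x251a2fc439b0003) (.leaf 0)))) (.node (.node (.node (.leaf 0x1070001) (.leaf 0xde78001)) (.node (.leaf 0x1d124a989b60003) (.leaf 0))) (.node (.node (.leaf 0x1d90001) (.leaf 0)) (.node (.leaf 0xcf68001) (.leaf 0))))) (.node (.node (.node (.node (.leaf 0xd80001) (.leaf 0x4ac07920002)) (.node (.leaf 0x2aa8001) (.leaf 0))) (.node (.node (.leaf 0x1a00001) (.leaf 0)) (.node (.leaf 0x5060001) (.leaf 0)))) (.node (.node (.node (.leaf 0x1390001) (.leaf 0)) (.node (.leaf 0xdca0001) (.leaf 0))) (.node (.node (.leaf 0x6330d5f0002) (.leaf 0)) (.node (.leaf 0x4c80b390002) (.leaf 0))))))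
def pathRows_61 : Tree := .node (.node (.node (.node (.node (.node (.leaf 0x62841c60002) (.leaf 0x5288001)) (.node (.leaf 0x2390001) (.leaf 0))) (.node (.node (.leaf 0x577cc958002) (.leaf 0)) (.node (.leaf 0xd580001) (.leaf 0)))) (.node (.node (.node (.leaf 0x69d091d0002) (.leaf 0x677c8f80002)) (.node (.leaf 0x66402ce0002) (.leaf 0))) (.node (.node (.leaf 0x60a0b900002) (.leaf 0)) (.node (.leaf 0xc740001) (.leaf 0))))) (.node (.node (.node (.node (.leaf 0x1360001) (.leaf 0x25824b147088003)) (.node (.leaf 0xd8d0001) (.leaf 0))) (.node (.node (.leaf 0x1343255c5b0cb780004) (.leaf 0)) (.node (.leaf 0x41e0001) (.leaf 0)))) (.node (.node (.node (.leaf 0x25ec56fc5b08003) (.leaf 0xe648001)) (.node (.leaf 0x55d495a8002) (.leaf 0))) (.node (.node (.leaf 0x1f60001) (.leaf 0)) (.node (.leaf 0x63304970002) (.leaf 0)))))) (.node (.node (.node (.node (.node (.leaf 0x3540001) (.leaf 0xe070001)) (.node (.leaf 0xb16962f20e04b64a240005) (.leaf 0))) (.node (.node (.leaf 0xe6d0001) (.leaf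 0)) (.node (.leaf 0x2df03bf0002) (.leaf 0)))) (.node (.node (.node (.leaf 0x940001) (.leaf 0xdf58001)) (.node (.leaf 0x4c109b60002) (.leaf 0))) (.node (.node (.leaf 0x2ed0001) (.leaf 0)) (.node (.leaf 0xdae0001) (.leaf 0))))) (.node (.node (.node (.node (.leaf 0x1d40001) (.leaf 0xb568001)) (.node (.leaf 0x5cf0001) (.leaf 0))) (.node (.node (.leaf 0xdb40001) (.leaf 0)) (.node (.leaf 0x5130001) (.leaf 0)))) (.node (.node (.node (.leaf 0x62dc6760002) (.leaf 0)) (.node (.leaf 0x3530001) (.leaf 0))) (.node (.node (.leaf 0x57fcd878002) (.leaf 0)) (.node (.leaf 0x45c8001) (.leaf 0))))))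
def pathRows_62 : Tree := .node (.node (.node (.node (.node (.node (.leaf 0x1bf0001) (.leaf 0xa560001)) (.node (.leaf 0x2660001) (.leaf 0))) (.node (.node (.leaf 0x1500001) (.leaf 0)) (.node (.leaf 0x5b30001) (.leaf 0)))) (.node (.node (.node (.leaf 0x346644304cb8003) (.leaf 0x677c8f70002)) (.node (.leaf 0x3bcccc40002) (.leaf 0))) (.node (.node (.leaf 0x6390b900002) (.leaf 0)) (.node (.leaf 0x127855944250003) (.leaf 0))))) (.node (.node (.node (.node (.leaf 0x2e10001) (.leaf 0x4a3c9730002)) (.node (.leaf 0xd960001) (.leaf 0))) (.node (.node (.leaf 0x1548001) (.leaf 0)) (.node (.leaf 0x5140001) (.leaf 0)))) (.node (.node (.node (.leaf 0x4c40ae08002) (.leaf 0xe638001)) (.node (.leaf 0x7c0138a2fbc9470004) (.leaf 0))) (.node (.node (.leaf 0x26146bc0b2b0003) (.leaf 0)) (.node (.leaf 0x651442c8002) (.leaf 0)))))) (.node (.node (.node (.node (.node (.leaf 0x3900001) (.leaf 0x2b6a5068b910003)) (.node (.leaf 0x2710001) (.leaf 0))) (.node (.node (.leaf 0x22184d58002) (.leaf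 0)) (.node (.leaf 0x39e0001) (.leaf 0)))) (.node (.node (.node (.leaf 0xf70001) (.leaf 0xdf48001)) (.node (.leaf 0x1aa5259c39e89b60004) (.leaf 0))) (.node (.node (.leaf 0x2fb0001) (.leaf 0)) (.node (.leaf 0x239cb4b0002) (.leaf 0))))) (.node (.node (.node (.node (.leaf 0x1270001) (.leaf 0x4d5476c0002)) (.node (.leaf 0x2a98001) (.leaf 0))) (.node (.node (.leaf 0xcb38001) (.leaf 0)) (.node (.leaf 0x5bb06620002) (.leaf 0)))) (.node (.node (.node (.leaf 0xc900001) (.leaf 0)) (.node (.leaf 0x4cf0001) (.leaf 0))) (.node (.node (.leaf 0x2228001) (.leaf 0)) (.node (.leaf 0x4e4cb390002) (.leaf 0))))))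
def pathRows_63 : Tree := .node (.node (.node (.node (.node (.node (.leaf 0x1600001) (.leaf 0xa4e0001)) (.node (.leaf 0x2f90a1f0002) (.leaf 0))) (.node (.node (.leaf 0x1058001) (.leaf 0)) (.node (.leaf 0x2df085b8002) (.leaf 0)))) (.node (.node (.node (.leaf 0x69d09170002) (.leaf 0xdb18001)) (.node (.leaf 0x5d0cb9c8002) (.leaf 0))) (.node (.node (.leaf 0xb9a0001) (.leaf 0)) (.node (.leaf 0x251a2fc43df8003) (.leaf 0))))) (.node (.node (.node (.node (.leaf 0x4d00960002) (.leaf 0x651cab08002)) (.node (.leaf 0x2888001) (.leaf 0))) (.node (.node (.leaf 0x56ccb780002) (.leaf 0)) (.node (.leaf 0xc2a8001) (.leaf 0)))) (.node (.node (.node (.leaf 0x5aa8001) (.leaf 0xe6f8001)) (.node (.leaf 0x759138a2fbc9470004) (.leaf 0))) (.node (.node (.leaf 0x1f70001) (.leaf 0)) (.node (.leaf 0x4960001) (.leaf 0)))))) (.node (.node (.node (.node (.node (.leaf 0x37b0001) (.leaf 0xcd78001)) (.node (.leaf 0x1d824b64a240003) (.leaf 0))) (.node (.node (.leaf 0x24084dd0002) (.leaf 0)) (.node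 (.leaf 0x3b60001) (.leaf 0)))) (.node (.node (.node (.leaf 0xd680001) (.leaf 0xdfa0001)) (.node (.leaf 0x19a05f409958003) (.leaf 0))) (.node (.node (.leaf 0x62f4c998002) (.leaf 0)) (.node (.leaf 0x4f00b4b0002) (.leaf 0))))) (.node (.node (.node (.node (.leaf 0x12c0001) (.leaf 0xe1c0001)) (.node (.leaf 0x4520001) (.leaf 0))) (.node (.node (.leaf 0x1758001) (.leaf 0)) (.node (.leaf 0x5a30001) (.leaf 0)))) (.node (.node (.node (.leaf 0xc68001) (.leaf 0)) (.node (.leaf 0x34d0001) (.leaf 0))) (.node (.node (.leaf 0x2238001) (.leaf 0)) (.node (.leaf 0x5474b390002) (.leaf 0))))))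
def pathRows : Tree := .node (.node (.node (.node (.node (.node (pathRows_0) (pathRows_32)) (.node (pathRows_16) (pathRows_48))) (.node (.node (pathRows_8) (pathRows_40)) (.node (pathRows_24) (pathRows_56)))) (.node (.node (.node (pathRows_4) (pathRows_36)) (.node (pathRows_20) (pathRows_52))) (.node (.node (pathRows_12) (pathRows_44)) (.node (pathRows_28) (pathRows_60))))) (.node (.node (.node (.node (pathRows_2) (pathRows_34)) (.node (pathRows_18) (pathRows_50))) (.node (.node (pathRows_10) (pathRows_42)) (.node (pathRows_26) (pathRows_58)))) (.node (.node (.node (pathRows_6) (pathRows_38)) (.node (pathRows_22) (pathRows_54))) (.node (.node (pathRows_14) (pathRows_46)) (.node (pathRows_30) (pathRows_62)))))) (.node (.node (.node (.node (.node (pathRows_1) (pathRows_33)) (.node (pathRows_17) (pathRows_49))) (.node (.node (pathRows_9) (pathRows_41)) (.node (pathRows_25) (pathRows_57)))) (.node (.node (.node (pathRows_5) (pathRows_37)) (.node (pathRows_21) (pathRows_53)))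 (.node (.node (pathRows_13) (pathRows_45)) (.node (pathRows_29) (pathRows_61))))) (.node (.node (.node (.node (pathRows_3) (pathRows_35)) (.node (pathRows_19) (pathRows_51))) (.node (.node (pathRows_11) (pathRows_43)) (.node (pathRows_27) (pathRows_59)))) (.node (.node (.node (pathRows_7) (pathRows_39)) (.node (pathRows_23) (pathRows_55))) (.node (.node (pathRows_15) (pathRows_47)) (.node (pathRows_31) (pathRows_63))))))

def treeOrder_0 : List ℕ := [0x5000, 0x12800, 0x2ec00, 0xc001, 0x8401, 0x3a801, 0x6ec01, 0x33001, 0x43401, 0xc0004, 0x64404, 0xd4804, 0xd8c04, 0x19004, 0x15404, 0xcf004, 0xfb404, 0x12800b, 0x11c40b, 0xdc80b, 0x144c0b, 0x9500b, 0xbd40b, 0x2a700b, 0x2af40b, 0x37003, 0x9b403, 0x73002, 0x77402, 0x1f400e, 0x2040e, 0x19880e, 0x1ccc0e, 0xf300e, 0x7f40e, 0x17801b, 0xc841b, 0x31881b, 0x184c1b, 0x1c701b, 0x4eb41b, 0x2d900c, 0x3d40c, 0x2b980c, 0x2edc0c, 0x2c680c, 0x2f2c0c, 0x46810, 0x36ac10, 0x4c4830, 0xecc30, 0xc5030, 0x1c1430, 0x175830, 0x125c30, 0xd3030,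 0x3b7430, 0x60819, 0x3dcc19, 0x1d819, 0x69c19, 0x1a3019, 0x3ff419, 0x101035, 0x139435, 0x3da835, 0x48ec35, 0xff035, 0x427435, 0x149036, 0x13d436, 0xe1836, 0xe5c36, 0x3d6836, 0x3f2c36, 0x3d3036, 0x4f436, 0xab006, 0x197406, 0x133005, 0x15b405, 0x79033, 0x321433, 0x295833, 0x3c5c33, 0x356833, 0x26ec33, 0xf503e, 0x1ed43e, 0x2683e, 0x2ac3e, 0x10884a, 0x14cc4a, 0x12e04a, 0x2ab04a, 0x104847, 0x200c47, 0x121c47, 0x46f047, 0x31f447]
def treeOrder_1 : List ℕ := [0x181037, 0x141437, 0x396837, 0x39ec37, 0x2b3037, 0x462851, 0x4bec51, 0x533051, 0x1b3451, 0x373425, 0x2b702f, 0x4e742f, 0x5450a9, 0x3b94a9, 0x47dca9, 0x246ca9, 0x2050ab, 0x1b94ab, 0x1c98ab, 0x1be8ab, 0x2d580d, 0x311c0d, 0x2fa80d, 0x316c0d, 0x9e826, 0x32ac26, 0x34581c, 0x4f9c1c, 0x492c1c, 0x502c1d, 0x10c87d, 0x110c7d, 0x20f07d, 0x52347d, 0x1fb008, 0x83408, 0x44e866, 0x4b6c66, 0x233066, 0x586873, 0x433073, 0x39b473, 0x5ec3c, 0x32681f, 0x2bec1f, 0x188c5e, 0x52745e, 0x1fc832, 0xeb032, 0x57b432, 0x34e8c6, 0x173061, 0x3e3461,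 0x3598b6, 0x339cb6, 0x48a8b6, 0x41ecb6, 0x33e80f, 0x35ec0f, 0x2c08ae, 0x3b28ae, 0x3eacae, 0x44b0ae, 0x54f4ae, 0x2848bb, 0x360cbb, 0x4ae8bb, 0x50acbb, 0x5930bb, 0x55f4bb, 0x5800b1, 0x4504b1, 0x2108b1, 0x2e90b1, 0x2c94b1, 0x498b1, 0x249cb1, 0x4ff0b1, 0x1e74b1, 0x1900bc, 0x2404bc, 0x29d0bc, 0x3a94bc, 0x36c011, 0x37c411, 0x388811, 0x38cc11, 0x383011, 0x5480da, 0x4c84da, 0x1f1131, 0x22d531, 0x557131, 0x27e83b, 0x3fb03b, 0x32f031, 0x1eb470, 0x56485d, 0x18cc5d, 0x17f05d]
def treeOrder_2 : List ℕ := [0x25345d, 0x560849, 0x150c49, 0x137049, 0x259034, 0x165434, 0x1a5834, 0x3c9c34, 0x4e2834, 0x40ac34, 0x3010ed, 0x1da8ed, 0x52eced, 0x23b018, 0x34b418, 0x1570f7, 0xb8807, 0x1b7007, 0x1d7407, 0x9081a, 0x4df41a, 0xad068, 0x19d468, 0x299868, 0x85c68, 0x552868, 0x41ac68, 0x3ad0ff, 0x2a18ff, 0x4c1cff, 0x51e840, 0x257440, 0x22a84e, 0x15f04e, 0x3780f6, 0x3744f6, 0x43f0f6, 0x2e0123, 0x3a4523, 0xb0923, 0x4b9923, 0x4b1d23, 0x58b123, 0x53f523, 0x42d909, 0x485d09, 0xa7052, 0x35284f, 0x23f44f,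 0x57e838, 0x4d54f5, 0x2cc0fc, 0x4544fc, 0x49ccfc, 0x26b0fc, 0x4410f4, 0x2d28f4, 0x51813, 0x3cd02a, 0x30682a, 0x8ac4c, 0x162856, 0x50401e, 0x51441e, 0x4f581e, 0x291c1e, 0x4440c8, 0x4ec4c8, 0x3a28c8, 0x5af0a5, 0x59f4a5, 0x5768f1, 0x4070f1, 0x4640d5, 0x4284d5, 0x1dd0d5, 0x28c89b, 0x5a5c9b, 0x28b09b, 0x116c7b, 0x20b009, 0x27080a, 0x274c0a, 0x23500a, 0x282c53, 0xa2caa, 0x11a841, 0x262c41, 0x59591b, 0x469d1b, 0x4a2cc7, 0x4940e5, 0x2204e5, 0x58cce5, 0x3bf0e7, 0x1e1cac, 0x45c118, 0x4a4918, 0x59812f, 0x47052f]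
def treeOrder_3 : List ℕ := [0x214d2f, 0x39114c, 0x1ae86c, 0x478551, 0x8f551, 0x5404ee, 0xb70ee, 0x4cf4ee, 0x42091f, 0x498d1f, 0x34351f, 0x50f081, 0x40f481, 0x56f06e, 0x56b46e, 0x2f4cb5, 0x570b5, 0x1ab4b5, 0x3648c4, 0x3c0cc4, 0x16b0c4, 0x4ab4c4, 0x1d0cbe, 0x30d0be, 0x2fd4be, 0x51a0c5, 0x480cd1, 0x16f13e, 0x438124, 0x3f7444, 0x5a2883, 0x2e688c, 0x436c8c, 0x25c961, 0x55ad0c, 0x2dc017, 0x58417, 0x45b417, 0x4744c9, 0x386862, 0x27ac62, 0x33687f, 0x21ec7f, 0x21ac3a, 0x332c5c, 0x30acf8, 0x3ed107, 0x3e5507, 0x403507, 0x5380fa, 0x5370fa, 0x4da864, 0x24e890, 0x5700a7, 0x52a8e0, 0x417463, 0x412894, 0x513054, 0x266c24, 0x4f1506, 0x22448a, 0x4d092e, 0x5a9d41]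
def treeOrder : List (ℕ) := treeOrder_0 ++ treeOrder_1 ++ treeOrder_2 ++ treeOrder_3

def toRep_0 : Tree := .node (.node (.node (.node (.node (.node (.leaf 0) (.leaf 0xd07030c070d02070d09)) (.node (.leaf 0x10d07030d07020c08) (.leaf 0))) (.node (.node (.leaf 0xd07030d070d020608) (.leaf 0xd07030d04)) (.node (.leaf 0x90d02) (.leaf 0)))) (.node (.node (.node (.leaf 0xd070d0207030d07) (.leaf 0xd07000204)) (.node (.leaf 0x703000c04) (.leaf 0))) (.node (.node (.leaf 0xd07030d070d0207) (.leaf 0xd06020c04)) (.node (.leaf 0xd01) (.leaf 0))))) (.node (.node (.node (.node (.leaf 0xc01) (.leaf 0x90c02)) (.node (.leaf 0x10d07030c070d07) (.leaf 0))) (.node (.node (.leaf 0xd07030d06020c07) (.leaf 0x90102)) (.node (.leaf 0xd07030004) (.leaf 0)))) (.node (.node (.node (.leaf 0xd07030c060d0207) (.leaf 0xd07030d070206)) (.node (.leaf 0xd070303) (.leaf 0))) (.node (.node (.leaf 0xd07030d070c0607) (.leaf 0)) (.node (.leaf 0x10d060204) (.leaf 0)))))) (.node (.node (.node (.node (.node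 (.leaf 0xd070d0207030c07) (.leaf 0xd070d000205)) (.node (.leaf 0x20703) (.leaf 0))) (.node (.node (.leaf 0xd07020c060d06) (.leaf 0xd07030c070d0207)) (.node (.leaf 0x20c02) (.leaf 0)))) (.node (.node (.node (.leaf 0xd07030d07020c070d09) (.leaf 0x60303)) (.node (.leaf 0xd07030d060206) (.leaf 0))) (.node (.node (.leaf 0xd070d0206030c07) (.leaf 0x1020c0604)) (.node (.leaf 0x10202) (.leaf 0))))) (.node (.node (.node (.node (.leaf 0x10d07030c060d07) (.leaf 0x9030703)) (.node (.leaf 0x703000604) (.leaf 0))) (.node (.node (.leaf 0x3060c03) (.leaf 0x10d07030d070d020709)) (.node (.leaf 0xd060203) (.leaf 0)))) (.node (.node (.node (.leaf 0xd07030d070d06) (.leaf 0x30602)) (.node (.leaf 0x3060d03) (.leaf 0))) (.node (.node (.leaf 0xd060d0204) (.leaf 0)) (.node (.leaf 0xd07020c070306) (.leaf 0))))))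
def toRep_1 : Tree := .node (.node (.node (.node (.node (.node (.leaf 0) (.leaf 0x10d070d0207030d070d0a)) (.node (.leaf 0x10d07030d07020c0609) (.leaf 0))) (.node (.node (.leaf 0xd0700020c060c07) (.leaf 0x10c060304)) (.node (.leaf 0x10d07030d070d02060c0a) (.leaf 0)))) (.node (.node (.node (.leaf 0xd070d0207030d0708) (.leaf 0xd0006030d05)) (.node (.leaf 0xd060303) (.leaf 0))) (.node (.node (.leaf 0xd07020c07030d07) (.leaf 0x9030603)) (.node (.leaf 0x10d02) (.leaf 0))))) (.node (.node (.node (.node (.leaf 0) (.leaf 0x1020c03)) (.node (.leaf 0xd070d020705) (.leaf 0))) (.node (.node (.leaf 0xd07020c06030c07) (.leaf 0x3070303)) (.node (.leaf 0xd070003) (.leaf 0)))) (.node (.node (.node (.leaf 0xd07030d070c0707) (.leaf 0xd07030c060d06)) (.node (.leaf 0xd070c070205) (.leaf 0))) (.node (.node (.leaf 0xd07030d00060c07) (.leaf 0)) (.node (.leaf 0x10d070d0207030d0709) (.leaf 0)))))) (.node (.node (.node (.node (.node (.leaf 0x10d07030c070c07) (.leaf 0xd0703000c0606)) (.node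 (.leaf 0x20603) (.leaf 0))) (.node (.node (.leaf 0xd07030c07020c0708) (.leaf 0xd07030d0605)) (.node (.leaf 0x3070203) (.leaf 0)))) (.node (.node (.node (.leaf 0xd07020c07030d060d09) (.leaf 0x107030704)) (.node (.leaf 0xd07030d070006) (.leaf 0))) (.node (.node (.leaf 0xd07030c070d020608) (.leaf 0x30c02)) (.node (.leaf 0x70702) (.leaf 0))))) (.node (.node (.node (.node (.leaf 0xd070d0206030d07) (.leaf 0x10d07020c05)) (.node (.leaf 0x7090c03) (.leaf 0))) (.node (.node (.leaf 0xd07020c07030d070d09) (.leaf 0x10d07030d070d020609)) (.node (.leaf 0x10d060304) (.leaf 0)))) (.node (.node (.node (.leaf 0xd07030d060c06) (.leaf 0x10d07020c070d07)) (.node (.leaf 0x70002) (.leaf 0))) (.node (.node (.leaf 0xd00060d0205) (.leaf 0)) (.node (.leaf 0xd070d0207030d060c09) (.leaf 0))))))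
def toRep_2 : Tree := .node (.node (.node (.node (.node (.node (.leaf 1) (.leaf 0xd07020c07030c060c09)) (.node (.leaf 0x10d07030c0706) (.leaf 0))) (.node (.node (.leaf 0x10d07020c060c07) (.leaf 0x10d07030d070d02060d0a)) (.node (.leaf 0x10d07030d070d02070d0a) (.leaf 0)))) (.node (.node (.node (.leaf 0x10302) (.leaf 0x10d06030d05)) (.node (.leaf 0xc01) (.leaf 0))) (.node (.node (.leaf 0xd07030d060d0207) (.leaf 0x1030c0704)) (.node (.leaf 0x301) (.leaf 0))))) (.node (.node (.node (.node (.leaf 0xd07030c060306) (.leaf 0xd070d03)) (.node (.leaf 0xd07030c070306) (.leaf 0))) (.node (.node (.leaf 0xd07020c07030d0608) (.leaf 0x1030c03)) (.node (.leaf 0x10d07030c0606) (.leaf 0)))) (.node (.node (.node (.leaf 0x10d07030d060d07) (.leaf 0x3000c03)) (.node (.leaf 0x601) (.leaf 0))) (.node (.node (.leaf 0xd070d02070c06) (.leaf 0)) (.node (.leaf 0xd07030c070d020708) (.leaf 0)))))) (.node (.node (.node (.node (.node (.leaf 0) (.leaf 0xd0700020c05)) (.node (.leaf 0x20602) (.leaf 0)))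 (.node (.node (.leaf 0xd07030d070c06) (.leaf 0x20c0704)) (.node (.leaf 0xd07020c0705) (.leaf 0)))) (.node (.node (.node (.leaf 0x10d070d0207030c060d0a) (.leaf 0x10d060c04)) (.node (.leaf 0xd07030d0705) (.leaf 0))) (.node (.node (.leaf 0x10d070c04) (.leaf 0x1020c0704)) (.node (.leaf 0x3090c03) (.leaf 0))))) (.node (.node (.node (.node (.leaf 0xd070d0207030c0708) (.leaf 0x10d07030d05)) (.node (.leaf 0x7020c03) (.leaf 0))) (.node (.node (.leaf 0x10d060d04) (.leaf 0x10d07030d07020c070c0a)) (.node (.leaf 0x30c02) (.leaf 0)))) (.node (.node (.node (.leaf 0x10d07030d060c07) (.leaf 0xd07030d000606)) (.node (.leaf 0x701) (.leaf 0))) (.node (.node (.leaf 0xd0700020c0606) (.leaf 0)) (.node (.leaf 0xd07030c070d02060d09) (.leaf 0))))))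
def toRep_3 : Tree := .node (.node (.node (.node (.node (.node (.leaf 0x101) (.leaf 0x10d07030d07020c060c0a)) (.node (.leaf 0xd07030c070206) (.leaf 0))) (.node (.node (.leaf 0xd07030c070c06) (.leaf 0x10d07030d07020c060d0a)) (.node (.leaf 0xd07020c07030c060d09) (.leaf 0)))) (.node (.node (.node (.leaf 0x30002) (.leaf 0x1070703)) (.node (.leaf 0x30d02) (.leaf 0))) (.node (.node (.leaf 0xd07030d07020c0708) (.leaf 0x7030703)) (.node (.leaf 0x201) (.leaf 0))))) (.node (.node (.node (.node (.leaf 0x10d070d020606) (.leaf 0xd070d0204)) (.node (.leaf 0xc02) (.leaf 0))) (.node (.node (.leaf 0xd07030d07020c07) (.leaf 0xd070c03)) (.node (.leaf 0xd07030c0605) (.leaf 0)))) (.node (.node (.node (.leaf 0x10d070d0206030c08) (.leaf 0x1090c03)) (.node (.leaf 0x90702) (.leaf 0))) (.node (.node (.leaf 0x10d070d02070c07) (.leaf 0)) (.node (.leaf 0xd070d02070d06) (.leaf 0)))))) (.node (.node (.node (.node (.node (.leaf 0xd07030d07000c07) (.leaf 0xd0703000c05)) (.node (.leaf 0x10d07030d070d0208)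 (.leaf 0))) (.node (.node (.leaf 0xd07020c070c06) (.leaf 0xd070d0207030d070c09)) (.node (.leaf 0xd0700020c0706) (.leaf 0)))) (.node (.node (.node (.leaf 0xd07030d070d02060d09) (.leaf 0x10d07030c05)) (.node (.leaf 0xd07030d070d0007) (.leaf 0))) (.node (.node (.leaf 0xd07000c04) (.leaf 0x10d070d0207030d060d0a)) (.node (.leaf 0x30902) (.leaf 0))))) (.node (.node (.node (.node (.leaf 0xd07030d00060d07) (.leaf 0x10d07030d0706)) (.node (.leaf 0xd01) (.leaf 0))) (.node (.node (.leaf 0xd00060d04) (.leaf 0x10d07030d07020c070d0a)) (.node (.leaf 0x101) (.leaf 0)))) (.node (.node (.node (.leaf 0xd07030c06030d07) (.leaf 0x20c03)) (.node (.leaf 0xd0602) (.leaf 0))) (.node (.node (.leaf 0x10d07030d070207) (.leaf 0)) (.node (.leaf 0xd070d0207030d070d09) (.leaf 0))))))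
def toRep_4 : Tree := .node (.node (.node (.node (.node (.node (.leaf 0x10d070d0206030d08) (.leaf 0x1070303)) (.node (.leaf 0xd070c0704) (.leaf 0))) (.node (.node (.leaf 0xd07030c07030c07) (.leaf 0xd07030d07020c060d09)) (.node (.leaf 0x10d0603) (.leaf 0)))) (.node (.node (.node (.leaf 0xd07020c07030c0608) (.leaf 0xd070303)) (.node (.leaf 0x20c0703) (.leaf 0))) (.node (.node (.leaf 0xd07030c070d06) (.leaf 0xd060d03)) (.node (.leaf 0x30702) (.leaf 0))))) (.node (.node (.node (.node (.leaf 0x10d070d0205) (.leaf 0x10d06020c05)) (.node (.leaf 0xd07030c07020c060c09) (.leaf 0))) (.node (.node (.leaf 0xd07030d07020c0608) (.leaf 0x7030603)) (.node (.leaf 0xd07030c04) (.leaf 0)))) (.node (.node (.node (.leaf 0xd07030c06020c07) (.leaf 0x1060303)) (.node (.leaf 0x10d070304) (.leaf 0))) (.node (.node (.leaf 0xd07030d07020c060c09) (.leaf 0)) (.node (.leaf 0x10d070d02060c07) (.leaf 0)))))) (.node (.node (.node (.node (.node (.leaf 0xd01) (.leaf 0x10d070d020706)) (.node (.leaf 0xd0703000c0706)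 (.leaf 0))) (.node (.node (.leaf 0x10d070d0207030c070d0a) (.leaf 0xd07020c060306)) (.node (.leaf 0x703000c0705) (.leaf 0)))) (.node (.node (.node (.leaf 0xd0702) (.leaf 0x10702)) (.node (.leaf 0xd07020c0605) (.leaf 0))) (.node (.node (.leaf 0xd07020c06030d07) (.leaf 0)) (.node (.leaf 0x901) (.leaf 0))))) (.node (.node (.node (.node (.leaf 0xd0002) (.leaf 0x7090103)) (.node (.leaf 0x301) (.leaf 0))) (.node (.node (.leaf 0xd07020c07030c07) (.leaf 0x10c02)) (.node (.leaf 0x10d07020c0606) (.leaf 0)))) (.node (.node (.node (.leaf 0x10d070d02070307) (.leaf 0x20c0604)) (.node (.leaf 0xd0703000c070d07) (.leaf 0))) (.node (.node (.leaf 0x10d07030d06020c08) (.leaf 0)) (.node (.leaf 0x60202) (.leaf 0))))))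
def toRep_5 : Tree := .node (.node (.node (.node (.node (.node (.leaf 0x10d070d0207030c0709) (.leaf 0xd07030d07020c070c09)) (.node (.leaf 0x70302) (.leaf 0))) (.node (.node (.leaf 0x7030c03) (.leaf 0x109030c04)) (.node (.leaf 0x2070303) (.leaf 0)))) (.node (.node (.node (.leaf 0x10d07020c060d07) (.leaf 0x1020703)) (.node (.leaf 0x10d070d0207030d0609) (.leaf 0))) (.node (.node (.leaf 0x10d070d0207030c060c0a) (.leaf 0x10d06030c05)) (.node (.leaf 0x20702) (.leaf 0))))) (.node (.node (.node (.node (.leaf 0x10d070d04) (.leaf 0x9010703)) (.node (.leaf 0xd07030d070d02060c09) (.leaf 0))) (.node (.node (.leaf 0xd070d02060c06) (.leaf 0xd07030c060c06)) (.node (.leaf 0xd07020c04) (.leaf 0)))) (.node (.node (.node (.leaf 0xd0703000c060d07) (.leaf 0xd0202)) (.node (.leaf 0x10d0703) (.leaf 0))) (.node (.node (.leaf 0xd070d0207030c060c09) (.leaf 0)) (.node (.leaf 0xd070d020605) (.leaf 0)))))) (.node (.node (.node (.node (.node (.leaf 0x10d02) (.leaf 0x10d020704)) (.node (.leaf 0x709010c04)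 (.leaf 0))) (.node (.node (.leaf 0xd07030c07020c070d09) (.leaf 0xd07030c070d02060c09)) (.node (.leaf 0x7030c0704) (.leaf 0)))) (.node (.node (.node (.leaf 0x1090d03) (.leaf 0x10d060d0205)) (.node (.leaf 0x10d07020c0706) (.leaf 0))) (.node (.node (.leaf 0xd070d0207030c060d09) (.leaf 0)) (.node (.leaf 0xd07030c060206) (.leaf 0))))) (.node (.node (.node (.node (.leaf 0xc02) (.leaf 0x10d0203)) (.node (.leaf 0x201) (.leaf 0))) (.node (.node (.leaf 0xd07030c07020c0608) (.leaf 0xd06030c04)) (.node (.leaf 0x1090303) (.leaf 0)))) (.node (.node (.node (.leaf 0x10d07030d060207) (.leaf 0x20c0603)) (.node (.leaf 0x10d070204) (.leaf 0))) (.node (.node (.leaf 0xd07030c07020c07) (.leaf 0)) (.node (.leaf 0xd07030c07030d07) (.leaf 0))))))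
def toRep_6 : Tree := .node (.node (.node (.node (.node (.node (.leaf 0x10d070d0207030c0609) (.leaf 0x10d070d0207030d070c0a)) (.node (.leaf 0x7030003) (.leaf 0))) (.node (.node (.leaf 0x107030c04) (.leaf 0x1020603)) (.node (.leaf 0xd07020c070d06) (.leaf 0)))) (.node (.node (.node (.leaf 0x10c02) (.leaf 0xd070d0004)) (.node (.leaf 0xd070d0207030d0608) (.leaf 0))) (.node (.node (.leaf 0xd0703000c070c07) (.leaf 0x70902)) (.node (.leaf 0x10d070d02070d07) (.leaf 0))))) (.node (.node (.node (.node (.leaf 0x1070c03) (.leaf 0x602)) (.node (.leaf 0xd07020c07030d060c09) (.leaf 0))) (.node (.node (.leaf 0x10d070d0207030c070c0a) (.leaf 0x202)) (.node (.leaf 0x20c02) (.leaf 0)))) (.node (.node (.node (.leaf 0x10d070d02060d07) (.leaf 0x10c0603)) (.node (.leaf 0xd020703) (.leaf 0))) (.node (.node (.leaf 0xd07020c07030c070d09) (.leaf 0)) (.node (.leaf 0x90302) (.leaf 0)))))) (.node (.node (.node (.node (.node (.leaf 0x10d070d0207030c08) (.leaf 0x109030d04)) (.node (.leaf 0x10d07030c060c07)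 (.leaf 0))) (.node (.node (.leaf 0xd07030d070d020708) (.leaf 0xd070d0207030d060d09)) (.node (.leaf 0xd0202) (.leaf 0)))) (.node (.node (.node (.leaf 0xd07020c07030c0708) (.leaf 0x10602)) (.node (.leaf 0xd0702) (.leaf 0))) (.node (.node (.leaf 0x10d07030d07020c0709) (.leaf 0)) (.node (.leaf 0x10902) (.leaf 0))))) (.node (.node (.node (.node (.leaf 0x9030c03) (.leaf 0x1030d03)) (.node (.leaf 0x20702) (.leaf 0))) (.node (.node (.leaf 0xd07030d060d06) (.leaf 0x10d07030d0606)) (.node (.leaf 0x9010303) (.leaf 0)))) (.node (.node (.node (.leaf 0x10d070d02060307) (.leaf 0xd000603)) (.node (.leaf 0xd07030c07020c070c09) (.leaf 0))) (.node (.node (.leaf 0xd070d02070306) (.leaf 0)) (.node (.leaf 0xd07030c070d0607) (.leaf 0))))))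
def toRep_7 : Tree := .node (.node (.node (.node (.node (.node (.leaf 0xd070d0207030c0608) (.leaf 0xd07030c070d02070c09)) (.node (.leaf 0x703070004) (.leaf 0))) (.node (.node (.leaf 0x10d07030d070c07) (.leaf 0xd07030c0705)) (.node (.leaf 0x10d07030d070d07) (.leaf 0)))) (.node (.node (.node (.leaf 0xd070d0207030c070d09) (.leaf 0x60302)) (.node (.leaf 0xc01) (.leaf 0))) (.node (.node (.leaf 0xd07030d070d02070c09) (.leaf 0x10d070d0207030d060c0a)) (.node (.leaf 0xd070c070305) (.leaf 0))))) (.node (.node (.node (.node (.leaf 0x7000c03) (.leaf 0x10d020604)) (.node (.leaf 0x107030604) (.leaf 0))) (.node (.node (.leaf 0xd07030d070d02070d09) (.leaf 0xd060c03)) (.node (.leaf 0x10d07030d070d02070c0a) (.leaf 0)))) (.node (.node (.node (.leaf 0xd07020c060c06) (.leaf 0xd070d0207030c070c09)) (.node (.leaf 0x70c02) (.leaf 0))) (.node (.node (.leaf 0x2060303) (.leaf 0)) (.node (.leaf 0xd070d02060d06) (.leaf 0)))))) (.node (.node (.node (.node (.node (.leaf 0xd020603) (.leaf 0x7070203))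 (.node (.leaf 0xd07020c07030d070c09) (.leaf 0))) (.node (.node (.leaf 0xd07020c07030d0708) (.leaf 0x3090103)) (.node (.leaf 0x30d02) (.leaf 0)))) (.node (.node (.node (.leaf 0x10d07020c070c07) (.leaf 0x70202)) (.node (.leaf 0xd070203) (.leaf 0))) (.node (.node (.leaf 0x10d07030d060d0208) (.leaf 0)) (.node (.leaf 0xd00060304) (.leaf 0))))) (.node (.node (.node (.node (.leaf 0x10d070d0207030d08) (.leaf 0xd07030d0005)) (.node (.leaf 0x107030c0705) (.leaf 0))) (.node (.node (.leaf 0xd07030c07020c060d09) (.leaf 0xd06030d04)) (.node (.leaf 1) (.leaf 0)))) (.node (.node (.node (.leaf 0xd0703000c060c07) (.leaf 0xd00060204)) (.node (.leaf 0xd07020c07030c070c09) (.leaf 0))) (.node (.node (.leaf 0xd0700020c070d07) (.leaf 0)) (.node (.leaf 0xd070d02060306) (.leaf 0))))))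
def toRep : Tree := .node (.node (.node (toRep_0) (toRep_4)) (.node (toRep_2) (toRep_6))) (.node (.node (toRep_1) (toRep_5)) (.node (toRep_3) (toRep_7)))

def chainTab : List (ℕ × List (ℕ × ℕ) × List ℕ) := [(1, [(0, 0), (0, 1), (0, 10), (0, 11), (0, 12), (0, 13), (1, 10), (1, 11), (2, 11), (3, 13), (4, 1), (4, 3), (4, 12), (5, 5), (5, 6), (6, 11), (7, 13), (8, 0), (8, 1), (9, 3), (10, 11), (11, 2), (12, 12), (13, 10), (14, 10), (15, 3), (16, 13), (17, 11), (18, 13), (19, 2)], [52, 43, 56, 46, 61, 44, 59, 41, 24, 48, 54, 51, 7]), (10, [(0, 2), (0, 3), (0, 4), (0, 10), (1, 4), (2, 10), (2, 11), (2, 12), (3, 12), (4, 12), (5, 12), (6, 12), (7, 3), (8, 7), (9, 10), (11, 5), (11, 10)], [28, 32, 35, 30, 27, 25, 20]), (17, [(0, 2), (0, 10), (1, 13)], [6, 5])]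

end CfsgLib.Recog.GTwoThree
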