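import Mathlib
import Cfsg.Agent.Lib.Recog.GTwoThree.TableData

/-!
The action on the 364 cosets obtained from the completed enumeration (owner: helper23).
-/

set_option autoImplicit false
set_option maxRecDepth 100000

namespace CfsgLib.Recog.GTwoThree

open Check

/-- The value at a leaf. -/
def getLeaf : Tree → ℕ → ℕ
  | .leaf v, _ => v
  | .node l r, i => bif Nat.beq (i % 2) 0 then getLeaf l (i / 2) else getLeaf r (i / 2)

def permAt (i x : ℕ) : ℕ := (getLeaf permRows i) >>> (16 * x) % 65536

def fixLetters : List ℕ := [0, 2, 6, 8, 12]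

def fixBoth : List ℕ := [0, 1, 2, 3, 6, 7, 8, 9, 12, 13]

def pathAt (i j : ℕ) : List ℕ :=
  let v := getLeaf pathRows (7 * i + j)
  entries (v % 32768) (v / 32768)

def wordAt : ℕ → ℕ → List ℕ
  | 0, _ => []
  | n + 1, v => v % 256 :: wordAt n (v / 256)

def repWord (i : ℕ) : List ℕ :=
  let v := getLeaf toRep i
  wordAt (v % 256) (v / 256)

def apply14 (i : ℕ) (w : List ℕ) : ℕ := w.foldl permAt i

/-- The pairs derived from a given one. -/
def derive (steps : List (ℕ × ℕ)) (start : List (ℕ × ℕ)) : List (ℕ × ℕ) :=
  steps.foldl (fun l s => l ++ [(permAt (l.getD s.1 (0, 0)).1 s.2, permAt (l.getD s.1 (0, 0)).2 s.2)])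
    start

def chainWalk (l : List (ℕ × ℕ)) : List ℕ → ℕ → Option ℕ
  | [], cur => some cur
  | e :: es, cur =>
    bif Nat.blt (e / 2) l.length then
      let q := l.getD (e / 2) (0, 0)
      bif Nat.beq (e % 2) 0 then (bif Nat.beq q.1 cur then chainWalk l es q.2 else none)
      else (bif Nat.beq q.2 cur then chainWalk l es q.1 else none)
    else none

theorem table_walks : ((List.range 364).all fun i => (List.range 7).all fun j =>
    walk tree8 3785 (pathAt i j) (getLeaf liveNodes i) [2 * j]
      (getLeaf liveNodes (permAt i (2 * j)))) = true := by decide +kernel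

theorem perm_inverse : ((List.range 364).all fun i => (List.range 14).all fun x =>
    Nat.blt (permAt i x) 364 && Nat.beq (permAt (permAt i x) (Check.flip x)) i) = true := by
  decide +kernel

theorem table_start : getLeaf liveNodes 0 = 0 ∧ (∀ x ∈ fixBoth, permAt 0 x = 0) ∧
    permAt 0 10 ≠ 0 := by decide +kernel

/-- A spanning tree: each new point comes from an old one. -/
def treeOk : List ℕ → List ℕ → Bool
  | [], seen => Nat.beq seen.length 364
  | q :: qs, seen =>
    seen.any (Nat.beq (q % 1024)) && Nat.blt (q / 1024 % 16) 14 &&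
      Nat.beq (permAt (q % 1024) (q / 1024 % 16)) (q / 16384) &&
      !(seen.any (Nat.beq (q / 16384))) && treeOk qs (seen ++ [q / 16384])

theorem tree_ok : treeOk treeOrder [0] = true := by decide +kernel

theorem rep_ok : ((List.range 363).all fun k =>
    (repWord (k + 1)).all (fun x => fixBoth.any (Nat.beq x)) &&
      chainTab.any fun c => Nat.beq c.1 (apply14 (k + 1) (repWord (k + 1)))) = true := by
  decide +kernel

theorem chains_ok : chainTab.all (fun c =>
    c.2.1.all (fun s => Nat.blt s.2 14) &&
      match chainWalk (derive c.2.1 [(0, c.1)]) c.2.2 0 with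
      | none => false
      | some e => Nat.beq e (permAt 0 10)) = true := by decide +kernel

theorem flip_lt {x : ℕ} (hx : x < 14) : Check.flip x < 14 := by
  have h : ∀ x < 14, Check.flip x < 14 := by decide +kernel
  exact h x hx

theorem permAt_lt {i x : ℕ} (hi : i < 364) (hx : x < 14) :
    permAt i x < 364 ∧ permAt (permAt i x) (Check.flip x) = i := by
  have h := List.all_eq_true.1 (List.all_eq_true.1 perm_inverse i (List.mem_range.2 hi)) x
    (List.mem_range.2 hx)
  rw [Bool.and_eq_true] at h
  exact ⟨Nat.lt_of_succ_le (Nat.le_of_ble_eq_true h.1), Nat.eq_of_beq_eq_true h.2⟩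

/-- The permutation of a letter. -/
def letterPerm (x : Fin 14) : Equiv.Perm (Fin 364) where
  toFun i := ⟨permAt i x, (permAt_lt i.isLt x.isLt).1⟩
  invFun i := ⟨permAt i (Check.flip x), (permAt_lt i.isLt (flip_lt x.isLt)).1⟩
  left_inv i := Fin.ext (permAt_lt i.isLt x.isLt).2
  right_inv i := Fin.ext (by
    have h := (permAt_lt i.isLt (flip_lt x.isLt)).2
    have hf : ∀ x < 14, Check.flip (Check.flip x) = x := by decide +kernel
    rwa [hf x.val x.isLt] at h)

/-- The permutation group of the table. -/
def tableGroup : Subgroup (Equiv.Perm (Fin 364)) := Subgroup.closure (Set.range letterPerm)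

/-- A group generated by the letters in which the relators hold acts as the table. -/
theorem exists_table_hom {G : Type*} [Group G] [Finite G] (a : ℕ → G)
    (ha : ∀ x, a (Check.flip x) = (a x)⁻¹) (he : a 31 = 1) (h14 : ∀ x, 14 ≤ x → a x = 1)
    (hrels : ∀ r ∈ allRels (rels8.map Rel.word ++ bRels xWord8), wval a r = 1)
    (hy : a 10 ∉ Subgroup.closure (a '' {x | x ∈ fixLetters})) :
    ∃ θ : Subgroup.closure (Set.range a) →* Equiv.Perm (Fin 364), θ.range = tableGroup ∧
      ∀ g ∈ θ.ker, (g : G) ∈ Subgroup.closure (a '' {x | x ∈ fixLetters}) := by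
  classical
  set K := Subgroup.closure (a '' {x | x ∈ fixLetters}) with hK
  set G₀ := Subgroup.closure (Set.range a) with hG₀
  obtain ⟨v, v0, hv⟩ := cert_sound a ha he K tree8 _ hrels [0, 2, 6, 8, 12]
    (fun x hx => Subgroup.subset_closure ⟨x, hx, rfl⟩) steps8 run8
  let w : ℕ → G := fun i => v (getLeaf liveNodes i)
  have w0 : w 0 = 1 := by simp only [w, table_start.1, v0]
  have edge : ∀ i < 364, ∀ x < 14, w i * a x * (w (permAt i x))⁻¹ ∈ K := by
    have even : ∀ i < 364, ∀ j < 7, w i * a (2 * j) * (w (permAt i (2 * j)))⁻¹ ∈ K := by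
      intro i hi j hj
      have h := hv _ _ _ _ (List.all_eq_true.1 (List.all_eq_true.1 table_walks i
        (List.mem_range.2 hi)) j (List.mem_range.2 hj))
      simpa [wval] using h
    intro i hi x hx
    rcases Nat.mod_two_eq_zero_or_one x with h | h
    · have := even i hi (x / 2) (by omega)
      rwa [show 2 * (x / 2) = x by omega] at this
    · have hf : ∀ x < 14, x % 2 = 1 → Check.flip x = 2 * (x / 2) ∧ Check.flip (2 * (x / 2)) = x := by
        decide +kernel
      obtain ⟨f1, f2⟩ := hf x hx h
      obtain ⟨l1, e1⟩ := permAt_lt hi hx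
      have := even _ l1 (x / 2) (by omega)
      rw [← f1, e1, ha] at this
      have := inv_mem this
      simpa [w, mul_assoc] using this
  have hKG : K ≤ G₀ := Subgroup.closure_mono (Set.image_subset_range a _)
  have haG : ∀ x, a x ∈ G₀ := fun x => Subgroup.subset_closure ⟨x, rfl⟩
  -- facts along the spanning tree
  have key : ∀ (P : ℕ → Prop), P 0 → (∀ i < 364, ∀ x < 14, P i → P (permAt i x)) →
      ∀ i < 364, P i := by
    intro P h0 hstep
    have gen : ∀ (qs seen : List ℕ), treeOk qs seen = true → seen.Nodup →
        (∀ i ∈ seen, i < 364 ∧ P i) →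
        ∃ fin : List ℕ, fin.Nodup ∧ fin.length = 364 ∧ ∀ i ∈ fin, i < 364 ∧ P i := by
      intro qs
      induction qs with
      | nil =>
        intro seen h hn hP
        exact ⟨seen, hn, Nat.eq_of_beq_eq_true h, hP⟩
      | cons q qs ih =>
        intro seen h hn hP
        simp only [treeOk, Bool.and_eq_true, Bool.not_eq_true'] at h
        obtain ⟨⟨⟨⟨h1, h2⟩, h3⟩, h4⟩, h5⟩ := h
        obtain ⟨hlt, hp⟩ := hP _ (mem_of_any h1)
        have hx : q / 1024 % 16 < 14 := Nat.lt_of_succ_le (Nat.le_of_ble_eq_true h2)
        have hnew := Nat.eq_of_beq_eq_true h3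
        refine ih _ h5 ?_ ?_
        · refine List.nodup_append.2 ⟨hn, List.nodup_singleton _, fun u hu u' hu' e => ?_⟩
          rw [List.mem_singleton] at hu'
          subst hu'
          have : seen.any (Nat.beq (q / 16384)) = true :=
            List.any_eq_true.2 ⟨u, hu, beq_of_eq e.symm⟩
          rw [h4] at this
          exact Bool.false_ne_true this
        · intro i hi
          rcases List.mem_append.1 hi with hi | hi
          · exact hP i hi
          · rw [List.mem_singleton] at hi
            subst hi
            exact ⟨hnew ▸ (permAt_lt hlt hx).1, hnew ▸ hstep _ hlt _ hx hp⟩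
    obtain ⟨fin, hn, hlen, hfin⟩ := gen treeOrder [0] tree_ok (List.nodup_singleton 0)
      (fun i hi => by rw [List.mem_singleton] at hi; subst hi; exact ⟨by norm_num, h0⟩)
    intro i hi
    have hsub : fin.toFinset ⊆ Finset.range 364 := fun u hu =>
      Finset.mem_range.2 (hfin u (List.mem_toFinset.1 hu)).1
    have heq := Finset.eq_of_subset_of_card_le hsub
      (by rw [List.toFinset_card_of_nodup hn, hlen, Finset.card_range])
    exact (hfin i (List.mem_toFinset.1 (heq ▸ Finset.mem_range.2 hi))).2
  have wG : ∀ i < 364, w i ∈ G₀ := key _ (w0 ▸ one_mem _) fun i hi x hx h => by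
    have h1 := mul_mem (inv_mem (hKG (edge i hi x hx))) (mul_mem h (haG x))
    simpa [mul_assoc] using h1
  let R : ℕ → ℕ → Prop := fun i j => w i * (w j)⁻¹ ∈ K
  have Rsymm : ∀ i j, R i j → R j i := fun i j h => by simpa [R] using inv_mem h
  have Rtrans : ∀ i j k, R i j → R j k → R i k := fun i j k h h' => by
    simpa [R, mul_assoc] using mul_mem h h'
  have Rstep : ∀ i j x, i < 364 → j < 364 → x < 14 → R i j → R (permAt i x) (permAt j x) :=
    fun i j x hi hj hx h => by
      have := mul_mem (mul_mem (inv_mem (edge i hi x hx)) h) (edge j hj x hx)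
      simpa [R, mul_assoc] using this
  have hy0 : ¬ R 0 (permAt 0 10) := fun h => hy (by
    have e := edge 0 (by norm_num) 10 (by norm_num)
    have := mul_mem e (Rsymm _ _ h)
    simpa [R, w0, mul_assoc] using this)
  have dist0 : ∀ i < 364, R 0 i → i = 0 := by
    intro i hi hR
    by_contra hne
    obtain ⟨k, rfl⟩ : ∃ k, i = k + 1 := ⟨i - 1, by omega⟩
    have h := List.all_eq_true.1 rep_ok k (List.mem_range.2 (by omega))
    rw [Bool.and_eq_true, List.all_eq_true, List.any_eq_true] at h
    obtain ⟨hw, c, hc, hce⟩ := h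
    have down : ∀ (l : List ℕ) (u : ℕ), (∀ x ∈ l, x ∈ fixBoth) → u < 364 → R 0 u →
        apply14 u l < 364 ∧ R 0 (apply14 u l) := by
      intro l
      induction l with
      | nil => intro u _ hu h; exact ⟨hu, h⟩
      | cons x l ih =>
        intro u hl hu h
        have hx := hl x List.mem_cons_self
        have hx14 : x < 14 := by
          have h' : ∀ x ∈ fixBoth, x < 14 := by decide
          exact h' x hx
        refine ih (permAt u x) (fun y hy => hl y (List.mem_cons_of_mem _ hy))
          (permAt_lt hu hx14).1 ?_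
        have := Rstep 0 u x (by norm_num) hu hx14 h
        rwa [table_start.2.1 x hx] at this
    obtain ⟨hlt, hRc⟩ := down (repWord (k + 1)) (k + 1) (fun x hx => mem_of_any (hw x hx)) hi hR
    rw [← Nat.eq_of_beq_eq_true hce] at hlt hRc
    have hch := List.all_eq_true.1 chains_ok c hc
    rw [Bool.and_eq_true, List.all_eq_true] at hch
    obtain ⟨hs14, hwalk⟩ := hch
    let Good : List (ℕ × ℕ) → Prop := fun l =>
      ∀ m, (l.getD m (0, 0)).1 < 364 ∧ (l.getD m (0, 0)).2 < 364 ∧
        R (l.getD m (0, 0)).1 (l.getD m (0, 0)).2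
    have hder : ∀ (st : List (ℕ × ℕ)) (l : List (ℕ × ℕ)), (∀ s ∈ st, s.2 < 14) → Good l →
        Good (derive st l) := by
      intro st
      induction st with
      | nil => intro l _ h; exact h
      | cons s st ih =>
        intro l hst h
        refine ih _ (fun u hu => hst u (List.mem_cons_of_mem _ hu)) ?_
        intro m
        obtain ⟨a1, a2, a3⟩ := h s.1
        have hs := hst s List.mem_cons_self
        by_cases hm : m < l.length
        · rw [List.getD_append _ _ _ _ hm]; exact h m
        · rw [List.getD_append_right _ _ _ _ (by omega)]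
          by_cases hm' : m - l.length = 0
          · rw [hm', List.getD_cons_zero]
            exact ⟨(permAt_lt a1 hs).1, (permAt_lt a2 hs).1, Rstep _ _ _ a1 a2 hs a3⟩
          · rw [List.getD_eq_default _ _ (by simp; omega)]
            exact ⟨by norm_num, by norm_num, by simp [R]⟩
    have good := hder c.2.1 [(0, c.1)] (fun s hs => Nat.lt_of_succ_le (Nat.le_of_ble_eq_true (hs14 s hs)))
      (fun m => by
        rcases m with _ | m
        · exact ⟨by norm_num, hlt, hRc⟩
        · rw [List.getD_eq_default _ _ (by simp)]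
          exact ⟨by norm_num, by norm_num, by simp [R]⟩)
    have hcw : ∀ (l : List (ℕ × ℕ)), Good l → ∀ (es : List ℕ) (cur e : ℕ),
        chainWalk l es cur = some e → R 0 cur → R 0 e := by
      intro l hl es
      induction es with
      | nil => intro cur e h h'; simp only [chainWalk, Option.some.injEq] at h; exact h ▸ h'
      | cons q es ih =>
        intro cur e h h'
        simp only [chainWalk] at h
        cases hb : Nat.blt (q / 2) l.length with
        | false => rw [hb] at h; simp at h
        | true =>
          rw [hb, cond_true] at h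
          obtain ⟨-, -, hq⟩ := hl (q / 2)
          cases hd : Nat.beq (q % 2) 0 with
          | true =>
            rw [hd, cond_true] at h
            cases he' : Nat.beq (l.getD (q / 2) (0, 0)).1 cur with
            | false => rw [he'] at h; simp at h
            | true =>
              rw [he', cond_true] at h
              rw [Nat.eq_of_beq_eq_true he'] at hq
              exact ih _ _ h (Rtrans _ _ _ h' hq)
          | false =>
            rw [hd, cond_false] at h
            cases he' : Nat.beq (l.getD (q / 2) (0, 0)).2 cur with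
            | false => rw [he'] at h; simp at h
            | true =>
              rw [he', cond_true] at h
              rw [Nat.eq_of_beq_eq_true he'] at hq
              exact ih _ _ h (Rtrans _ _ _ h' (Rsymm _ _ hq))
    cases hwk : chainWalk (derive c.2.1 [(0, c.1)]) c.2.2 0 with
    | none => rw [hwk] at hwalk; simp at hwalk
    | some e =>
      rw [hwk] at hwalk
      have h0 : R 0 0 := by simp [R]
      exact hy0 (Nat.eq_of_beq_eq_true hwalk ▸ hcw _ good _ 0 e hwk h0)
  have dist : ∀ i < 364, ∀ j < 364, R i j → i = j := by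
    have : ∀ j < 364, ∀ i < 364, R i j → i = j := by
      refine key _ (fun i hi h => dist0 i hi (Rsymm _ _ h)) ?_
      intro j hj x hx ih i hi h
      obtain ⟨lj, ej⟩ := permAt_lt hj hx
      obtain ⟨li, ei⟩ := permAt_lt hi (flip_lt hx)
      have h2 := Rstep i (permAt j x) (Check.flip x) hi lj (flip_lt hx) h
      rw [ej] at h2
      have e := ih _ li h2
      have hf : ∀ x < 14, Check.flip (Check.flip x) = x := by decide +kernel
      rw [hf x hx, e] at ei
      exact ei.symm
    exact fun i hi j hj => this j hj i hi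
  have cover : ∀ g ∈ G₀, ∀ i : Fin 364, ∃ j : Fin 364, w i * g * (w j)⁻¹ ∈ K := by
    intro g hg
    induction hg using Subgroup.closure_induction with
    | mem g hg =>
      obtain ⟨x, rfl⟩ := hg
      intro i
      by_cases hx : x < 14
      · exact ⟨⟨permAt i x, (permAt_lt i.isLt hx).1⟩, edge i i.isLt x hx⟩
      · exact ⟨i, by rw [h14 x (by omega)]; simp⟩
    | one => exact fun i => ⟨i, by simp⟩
    | mul g h _ _ eg eh =>
      intro i
      obtain ⟨j, hj⟩ := eg i
      obtain ⟨k, hk⟩ := eh j
      exact ⟨k, by simpa [mul_assoc] using mul_mem hj hk⟩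
    | inv g _ eg =>
      intro i
      choose f hf using eg
      have finj : Function.Injective f := fun u u' e => by
        refine Fin.ext (dist u u.isLt u' u'.isLt ?_)
        have h1 := hf u'
        rw [← e] at h1
        simpa [R, mul_assoc] using mul_mem (hf u) (inv_mem h1)
      obtain ⟨j, hj⟩ := Finite.surjective_of_injective finj i
      refine ⟨j, ?_⟩
      have := inv_mem (hf j)
      rw [hj] at this
      simpa [mul_assoc] using this
  have uniq : ∀ (g : G) (i j j' : Fin 364), w i * g * (w j)⁻¹ ∈ K → w i * g * (w j')⁻¹ ∈ K →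
      j = j' := fun g i j j' h h' =>
    Fin.ext (dist j j.isLt j' j'.isLt (by simpa [R, mul_assoc] using mul_mem (inv_mem h) h'))
  choose f hf using cover
  let σ : G₀ → Equiv.Perm (Fin 364) := fun g =>
    { toFun := f (g : G)⁻¹ (inv_mem g.2)
      invFun := f g g.2
      left_inv := fun i => uniq 1 i _ i (by
        simpa [mul_assoc] using mul_mem (hf _ (inv_mem g.2) i) (hf g g.2 (f _ (inv_mem g.2) i)))
        (by simp)
      right_inv := fun i => uniq 1 i _ i (by
        simpa [mul_assoc] using mul_mem (hf g g.2 i) (hf _ (inv_mem g.2) (f g g.2 i)))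
        (by simp) }
  let θ : G₀ →* Equiv.Perm (Fin 364) := MonoidHom.mk' σ fun g h => Equiv.ext fun i => by
    refine uniq ((g : G) * h)⁻¹ i _ _ (hf _ (inv_mem (g * h).2) i) ?_
    have := mul_mem (hf _ (inv_mem h.2) i) (hf _ (inv_mem g.2) (f _ (inv_mem h.2) i))
    show w i * ((g : G) * h)⁻¹ *
      (w (f (g : G)⁻¹ (inv_mem g.2) (f (h : G)⁻¹ (inv_mem h.2) i)))⁻¹ ∈ K
    rw [mul_inv_rev]
    simpa [mul_assoc] using this
  have θflip : ∀ (x : Fin 14), θ ⟨a (Check.flip x), haG _⟩ = letterPerm x := fun x => by
    refine Equiv.ext fun i => uniq (a x) i _ _ ?_ (edge i i.isLt x x.isLt)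
    show w i * a x * (w (f (a (Check.flip x))⁻¹ (inv_mem (haG _)) i))⁻¹ ∈ K
    have h := hf _ (inv_mem (haG (Check.flip x))) i
    have e : (a (Check.flip x))⁻¹ = a x := by rw [ha, inv_inv]
    simpa only [e] using h
  refine ⟨θ, ?_, ?_⟩
  · have htop : (Subgroup.closure (Set.range fun x => (⟨a x, haG x⟩ : G₀))) = ⊤ := by
      apply Subgroup.map_injective G₀.subtype_injective
      rw [MonoidHom.map_closure, ← Set.range_comp, ← MonoidHom.range_eq_map, Subgroup.range_subtype]
      rfl
    rw [MonoidHom.range_eq_map, ← htop, MonoidHom.map_closure, tableGroup, ← Set.range_comp]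
    refine le_antisymm ((Subgroup.closure_le _).2 ?_) ((Subgroup.closure_le _).2 ?_)
    · rintro _ ⟨x, rfl⟩
      by_cases hx : x < 14
      · have hf2 : ∀ x < 14, Check.flip (Check.flip x) = x := by decide +kernel
        have := θflip ⟨Check.flip x, flip_lt hx⟩
        simp only [hf2 x hx] at this
        show θ ⟨a x, haG x⟩ ∈ _
        rw [this]
        exact Subgroup.subset_closure ⟨_, rfl⟩
      · show θ ⟨a x, _⟩ ∈ _
        have h1 : (⟨a x, haG x⟩ : G₀) = 1 := Subtype.ext (h14 x (by omega))
        rw [h1, map_one]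
        exact one_mem _
    · rintro _ ⟨x, rfl⟩
      exact Subgroup.subset_closure ⟨Check.flip x, θflip x⟩
  · intro g hg
    have e : f (g : G)⁻¹ (inv_mem g.2) ⟨0, by norm_num⟩ = ⟨0, by norm_num⟩ :=
      congrArg (fun p : Equiv.Perm (Fin 364) => p ⟨0, by norm_num⟩) (MonoidHom.mem_ker.1 hg)
    have h := hf _ (inv_mem g.2) ⟨0, by norm_num⟩
    rw [e] at h
    simpa [w0] using h

end CfsgLib.Recog.GTwoThree
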