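import Mathlib
import Cfsg.Agent.Lib.Recog.GTwoThree.Table

/-!
Words for the elements of the centraliser in its five generators (owner: helper23; written by a
script).
-/

set_option autoImplicit false
set_option maxRecDepth 100000

namespace CfsgLib.Recog.GTwoThree

open Check

def hWord_0 : Tree := .node (.node (.node (.node (.node (.node (.leaf 0x60402) (.leaf 0x20704020005)) (.node (.leaf 0x60104030105) (.leaf 0))) (.node (.node (.leaf 0x20600040205) (.leaf 0)) (.node (.leaf 0x6040103) (.leaf 0)))) (.node (.node (.node (.leaf 0x601040304) (.leaf 0)) (.node (.leaf 0x207020004) (.leaf 0))) (.node (.node (.leaf 0x700040004) (.leaf 0)) (.node (.leaf 0x7030103) (.leaf 0))))) (.node (.node (.node (.node (.leaf 0x206040204) (.leaf 0x60004030105)) (.node (.leaf 0x70002) (.leaf 0))) (.node (.node (.leaf 0x70302) (.leaf 0)) (.node (.leaf 0x20604020105) (.leaf 0)))) (.node (.node (.node (.leaf 0x6000403) (.leaf 0)) (.node (.leaf 0x70104030005) (.leaf 0))) (.node (.node (.leaf 0x2070004020006) (.leaf 0)) (.node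 (.leaf 0x7040003) (.leaf 0)))))) (.node (.node (.node (.node (.node (.leaf 0x6040303) (.leaf 0x600040104)) (.node (.leaf 0x2060104020106) (.leaf 0))) (.node (.node (.leaf 0x701) (.leaf 0)) (.node (.leaf 0x604030104) (.leaf 0)))) (.node (.node (.node (.leaf 0x20601040205) (.leaf 0)) (.node (.leaf 0x701040004) (.leaf 0))) (.node (.node (.leaf 0x70004030005) (.leaf 0)) (.node (.leaf 0x207020104) (.leaf 0))))) (.node (.node (.node (.node (.leaf 0x6010403) (.leaf 0x2060004020106)) (.node (.leaf 0x7030003) (.leaf 0))) (.node (.node (.leaf 0x2070203) (.leaf 0)) (.node (.leaf 0x70102) (.leaf 0)))) (.node (.node (.node (.leaf 0x600040304) (.leaf 0)) (.node (.leaf 0x2070104020006) (.leaf 0))) (.node (.node (.leaf 0x601040104) (.leaf 0)) (.node (.leaf 0x704030004) (.leaf 0))))))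
def hWord_1 : Tree := .node (.node (.node (.node (.node (.node (.leaf 0x8060403) (.leaf 0x8020704020006)) (.node (.leaf 0x8060104030106) (.leaf 0))) (.node (.node (.leaf 0x8020600040206) (.leaf 0)) (.node (.leaf 0x806040104) (.leaf 0)))) (.node (.node (.node (.leaf 0x80601040305) (.leaf 0)) (.node (.leaf 0x80207020005) (.leaf 0))) (.node (.node (.leaf 0x80700040005) (.leaf 0)) (.node (.leaf 0x807030104) (.leaf 0))))) (.node (.node (.node (.node (.leaf 0x80206040205) (.leaf 0x8060004030106)) (.node (.leaf 0x8070003) (.leaf 0))) (.node (.node (.leaf 0x8070303) (.leaf 0)) (.node (.leaf 0x8020604020106) (.leaf 0)))) (.node (.node (.node (.leaf 0x806000404) (.leaf 0)) (.node (.leaf 0x8070104030006) (.leaf 0))) (.node (.node (.leaf 0x802070004020007) (.leaf 0)) (.node (.leaf 0x807040004) (.leaf 0)))))) (.node (.node (.node (.node (.node (.leaf 0x806040304) (.leaf 0x80600040105)) (.node (.leaf 0x802060104020107) (.leaf 0))) (.node (.node (.leaf 0x80702) (.leaf 0)) (.node (.leaf 0x80604030105) (.leaf 0)))) (.node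 (.node (.node (.leaf 0x8020601040206) (.leaf 0)) (.node (.leaf 0x80701040005) (.leaf 0))) (.node (.node (.leaf 0x8070004030006) (.leaf 0)) (.node (.leaf 0x80207020105) (.leaf 0))))) (.node (.node (.node (.node (.leaf 0x806010404) (.leaf 0x802060004020107)) (.node (.leaf 0x807030004) (.leaf 0))) (.node (.node (.leaf 0x802070204) (.leaf 0)) (.node (.leaf 0x8070103) (.leaf 0)))) (.node (.node (.node (.leaf 0x80600040305) (.leaf 0)) (.node (.leaf 0x802070104020007) (.leaf 0))) (.node (.node (.leaf 0x80601040105) (.leaf 0)) (.node (.leaf 0x80704030005) (.leaf 0))))))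
def hWord_2 : Tree := .node (.node (.node (.node (.node (.node (.leaf 0x3060403) (.leaf 0x30604030005)) (.node (.leaf 0x105030104) (.leaf 0))) (.node (.node (.leaf 0x30700040305) (.leaf 0)) (.node (.leaf 0x306040104) (.leaf 0)))) (.node (.node (.node (.leaf 0x1050303) (.leaf 0)) (.node (.leaf 0x306030004) (.leaf 0))) (.node (.node (.leaf 0x30700040005) (.leaf 0)) (.node (.leaf 0x30102) (.leaf 0))))) (.node (.node (.node (.node (.leaf 0x307040304) (.leaf 0x5030104)) (.node (.leaf 0x3070003) (.leaf 0))) (.node (.node (.leaf 0x301) (.leaf 0)) (.node (.leaf 0x30704030105) (.leaf 0)))) (.node (.node (.node (.leaf 0x306000404) (.leaf 0)) (.node (.leaf 0x104030004) (.leaf 0))) (.node (.node (.leaf 0x3060004030006) (.leaf 0)) (.node (.leaf 0x307040004) (.leaf 0)))))) (.node (.node (.node (.node (.node (.leaf 0x50302) (.leaf 0x30600040105)) (.node (.leaf 0x3070104030106) (.leaf 0))) (.node (.node (.leaf 0x30702) (.leaf 0)) (.node (.leaf 0x5030103) (.leaf 0)))) (.node (.node (.node (.leaf 0x30701040305) (.leaf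 0)) (.node (.leaf 0x30701040005) (.leaf 0))) (.node (.node (.leaf 0x4030004) (.leaf 0)) (.node (.leaf 0x306030104) (.leaf 0))))) (.node (.node (.node (.node (.leaf 0x306010404) (.leaf 0x3070004030106)) (.node (.leaf 0x30002) (.leaf 0))) (.node (.node (.leaf 0x3060303) (.leaf 0)) (.node (.leaf 0x3070103) (.leaf 0)))) (.node (.node (.node (.leaf 0x50303) (.leaf 0)) (.node (.leaf 0x3060104030006) (.leaf 0))) (.node (.node (.leaf 0x30601040105) (.leaf 0)) (.node (.leaf 0x4030003) (.leaf 0))))))
def hWord_3 : Tree := .node (.node (.node (.node (.node (.node (.leaf 0x803060404) (.leaf 0x8030604030006)) (.node (.leaf 0x80105030105) (.leaf 0))) (.node (.node (.leaf 0x8030700040306) (.leaf 0)) (.node (.leaf 0x80306040105) (.leaf 0)))) (.node (.node (.node (.leaf 0x801050304) (.leaf 0)) (.node (.leaf 0x80306030005) (.leaf 0))) (.node (.node (.leaf 0x8030700040006) (.leaf 0)) (.node (.leaf 0x8030103) (.leaf 0))))) (.node (.node (.node (.node (.leaf 0x80307040305) (.leaf 0x80005030105)) (.node (.leaf 0x803070004)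 (.leaf 0))) (.node (.node (.leaf 0x80302) (.leaf 0)) (.node (.leaf 0x8030704030106) (.leaf 0)))) (.node (.node (.node (.leaf 0x80306000405) (.leaf 0)) (.node (.leaf 0x80104030005) (.leaf 0))) (.node (.node (.leaf 0x803060004030007) (.leaf 0)) (.node (.leaf 0x80307040005) (.leaf 0)))))) (.node (.node (.node (.node (.node (.leaf 0x8050303) (.leaf 0x8030600040106)) (.node (.leaf 0x803070104030107) (.leaf 0))) (.node (.node (.leaf 0x8030703) (.leaf 0)) (.node (.leaf 0x805030104) (.leaf 0)))) (.node (.node (.node (.leaf 0x8030701040306) (.leaf 0)) (.node (.leaf 0x8030701040006) (.leaf 0))) (.node (.node (.leaf 0x80004030005) (.leaf 0)) (.node (.leaf 0x80306030105) (.leaf 0))))) (.node (.node (.node (.node (.leaf 0x80306010405) (.leaf 0x803070004030107)) (.node (.leaf 0x8030003) (.leaf 0))) (.node (.node (.leaf 0x803060304) (.leaf 0)) (.node (.leaf 0x803070104) (.leaf 0)))) (.node (.node (.node (.leaf 0x800050304) (.leaf 0)) (.node (.leaf 0x803060104030007) (.leaf 0))) (.node (.node (.leaf 0x8030601040106)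 (.leaf 0)) (.node (.leaf 0x804030004) (.leaf 0))))))
def hWord_4 : Tree := .node (.node (.node (.node (.node (.node (.leaf 0x2060403) (.leaf 0x5020003)) (.node (.leaf 0x70104020105) (.leaf 0))) (.node (.node (.leaf 0x40203) (.leaf 0)) (.node (.leaf 0x206040104) (.leaf 0)))) (.node (.node (.node (.leaf 0x701040204) (.leaf 0)) (.node (.leaf 0x404020004) (.leaf 0))) (.node (.node (.leaf 0x20700040005) (.leaf 0)) (.node (.leaf 0x6020103) (.leaf 0))))) (.node (.node (.node (.node (.leaf 0x40202) (.leaf 0x70004020105)) (.node (.leaf 0x2070003) (.leaf 0))) (.node (.node (.leaf 0x60202) (.leaf 0)) (.node (.leaf 0x4020103) (.leaf 0)))) (.node (.node (.node (.leaf 0x206000404) (.leaf 0)) (.node (.leaf 0x60104020005) (.leaf 0))) (.node (.node (.leaf 0x5020004) (.leaf 0)) (.node (.leaf 0x207040004) (.leaf 0)))))) (.node (.node (.node (.node (.node (.leaf 0x7040203) (.leaf 0x20600040105)) (.node (.leaf 0x104020104) (.leaf 0))) (.node (.node (.leaf 0x20702) (.leaf 0)) (.node (.leaf 0x704020104) (.leaf 0)))) (.node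 (.node (.node (.leaf 0x1040203) (.leaf 0)) (.node (.leaf 0x20701040005) (.leaf 0))) (.node (.node (.leaf 0x60004020005) (.leaf 0)) (.node (.leaf 0x404020104) (.leaf 0))))) (.node (.node (.node (.node (.leaf 0x206010404) (.leaf 0x4020104)) (.node (.leaf 0x6020003) (.leaf 0))) (.node (.node (.leaf 0x4040203) (.leaf 0)) (.node (.leaf 0x2070103) (.leaf 0)))) (.node (.node (.node (.leaf 0x700040204) (.leaf 0)) (.node (.leaf 0x105020004) (.leaf 0))) (.node (.node (.leaf 0x20601040105) (.leaf 0)) (.node (.leaf 0x604020004) (.leaf 0))))))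
def hWord_5 : Tree := .node (.node (.node (.node (.node (.node (.leaf 0x802060404) (.leaf 0x805020004)) (.node (.leaf 0x8070104020106) (.leaf 0))) (.node (.node (.leaf 0x800040204) (.leaf 0)) (.node (.leaf 0x80206040105) (.leaf 0)))) (.node (.node (.node (.leaf 0x80701040205) (.leaf 0)) (.node (.leaf 0x80404020005) (.leaf 0))) (.node (.node (.leaf 0x8020700040006) (.leaf 0)) (.node (.leaf 0x806020104) (.leaf 0))))) (.node (.node (.node (.node (.leaf 0x8040203) (.leaf 0x8070004020106)) (.node (.leaf 0x802070004) (.leaf 0))) (.node (.node (.leaf 0x8060203) (.leaf 0)) (.node (.leaf 0x804020104) (.leaf 0)))) (.node (.node (.node (.leaf 0x80206000405) (.leaf 0)) (.node (.leaf 0x8060104020006) (.leaf 0))) (.node (.node (.leaf 0x80005020005) (.leaf 0)) (.node (.leaf 0x80207040005) (.leaf 0)))))) (.node (.node (.node (.node (.node (.leaf 0x807040204) (.leaf 0x8020600040106)) (.node (.leaf 0x80104020105) (.leaf 0))) (.node (.node (.leaf 0x8020703) (.leaf 0)) (.node (.leaf 0x80704020105) (.leaf 0)))) (.node (.node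 (.node (.leaf 0x801040204) (.leaf 0)) (.node (.leaf 0x8020701040006) (.leaf 0))) (.node (.node (.leaf 0x8060004020006) (.leaf 0)) (.node (.leaf 0x80404020105) (.leaf 0))))) (.node (.node (.node (.node (.leaf 0x80206010405) (.leaf 0x80004020105)) (.node (.leaf 0x806020004) (.leaf 0))) (.node (.node (.leaf 0x804040204) (.leaf 0)) (.node (.leaf 0x802070104) (.leaf 0)))) (.node (.node (.node (.leaf 0x80700040205) (.leaf 0)) (.node (.leaf 0x80105020005) (.leaf 0))) (.node (.node (.leaf 0x8020601040106) (.leaf 0)) (.node (.leaf 0x80604020005) (.leaf 0))))))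
def hWord_6 : Tree := .node (.node (.node (.node (.node (.node (.leaf 0x501) (.leaf 0x30704020005)) (.node (.leaf 0x2060104030106) (.leaf 0))) (.node (.node (.leaf 0x30600040205) (.leaf 0)) (.node (.leaf 0x50102) (.leaf 0)))) (.node (.node (.node (.leaf 0x20601040305) (.leaf 0)) (.node (.leaf 0x307020004) (.leaf 0))) (.node (.node (.leaf 0x40003) (.leaf 0)) (.node (.leaf 0x207030104) (.leaf 0))))) (.node (.node (.node (.node (.leaf 0x306040204) (.leaf 0x2060004030106)) (.node (.leaf 0x1) (.leaf 0))) (.node (.node (.leaf 0x2070303) (.leaf 0)) (.node (.leaf 0x30604020105) (.leaf 0)))) (.node (.node (.node (.leaf 0x502) (.leaf 0)) (.node (.leaf 0x2070104030006) (.leaf 0))) (.node (.node (.leaf 0x3070004020006) (.leaf 0)) (.node (.leaf 0x40002) (.leaf 0)))))) (.node (.node (.node (.node (.node (.leaf 0x206040304) (.leaf 0x50103)) (.node (.leaf 0x3060104020106) (.leaf 0))) (.node (.node (.leaf 0x0) (.leaf 0)) (.node (.leaf 0x20604030105) (.leaf 0)))) (.node (.node (.node (.leaf 0x30601040205) (.leaf 0)) (.node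 (.leaf 0x1040003) (.leaf 0))) (.node (.node (.leaf 0x2070004030006) (.leaf 0)) (.node (.leaf 0x307020104) (.leaf 0))))) (.node (.node (.node (.node (.leaf 0x10502) (.leaf 0x3060004020106)) (.node (.leaf 0x207030004) (.leaf 0))) (.node (.node (.leaf 0x3070203) (.leaf 0)) (.node (.leaf 0x101) (.leaf 0)))) (.node (.node (.node (.leaf 0x20600040305) (.leaf 0)) (.node (.leaf 0x3070104020006) (.leaf 0))) (.node (.node (.leaf 0x1050103) (.leaf 0)) (.node (.leaf 0x20704030005) (.leaf 0))))))
def hWord_7 : Tree := .node (.node (.node (.node (.node (.node (.leaf 0x80502) (.leaf 0x8030704020006)) (.node (.leaf 0x802060104030107) (.leaf 0))) (.node (.node (.leaf 0x8030600040206) (.leaf 0)) (.node (.leaf 0x8050103) (.leaf 0)))) (.node (.node (.node (.leaf 0x8020601040306) (.leaf 0)) (.node (.leaf 0x80307020005) (.leaf 0))) (.node (.node (.leaf 0x800040004) (.leaf 0)) (.node (.leaf 0x80207030105) (.leaf 0))))) (.node (.node (.node (.node (.leaf 0x80306040205) (.leaf 0x802060004030107)) (.node (.leaf 0x80002) (.leaf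 0))) (.node (.node (.leaf 0x802070304) (.leaf 0)) (.node (.leaf 0x8030604020106) (.leaf 0)))) (.node (.node (.node (.leaf 0x8000503) (.leaf 0)) (.node (.leaf 0x802070104030007) (.leaf 0))) (.node (.node (.leaf 0x803070004020007) (.leaf 0)) (.node (.leaf 0x8040003) (.leaf 0)))))) (.node (.node (.node (.node (.node (.leaf 0x80206040305) (.leaf 0x800050104)) (.node (.leaf 0x803060104020107) (.leaf 0))) (.node (.node (.leaf 0x801) (.leaf 0)) (.node (.leaf 0x8020604030106) (.leaf 0)))) (.node (.node (.node (.leaf 0x8030601040206) (.leaf 0)) (.node (.leaf 0x801040004) (.leaf 0))) (.node (.node (.leaf 0x802070004030007) (.leaf 0)) (.node (.leaf 0x80307020105) (.leaf 0))))) (.node (.node (.node (.node (.leaf 0x8010503) (.leaf 0x803060004020107)) (.node (.leaf 0x80207030005) (.leaf 0))) (.node (.node (.leaf 0x803070204) (.leaf 0)) (.node (.leaf 0x80102) (.leaf 0)))) (.node (.node (.node (.leaf 0x8020600040306) (.leaf 0)) (.node (.leaf 0x803070104020007) (.leaf 0))) (.node (.node (.leaf 0x801050104) (.leaf 0))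 (.node (.leaf 0x8020704030006) (.leaf 0))))))
def hWord_8 : Tree := .node (.node (.node (.node (.node (.node (.leaf 0x207040204) (.leaf 0x604030004)) (.node (.leaf 0x701040104) (.leaf 0))) (.node (.node (.leaf 0x700040304) (.leaf 0)) (.node (.leaf 0x20704020105) (.leaf 0)))) (.node (.node (.node (.leaf 0x7010403) (.leaf 0)) (.node (.leaf 0x6030003) (.leaf 0))) (.node (.node (.leaf 0x2060004020006) (.leaf 0)) (.node (.leaf 0x60102) (.leaf 0))))) (.node (.node (.node (.node (.leaf 0x7040303) (.leaf 0x700040104)) (.node (.leaf 0x206020004) (.leaf 0))) (.node (.node (.leaf 0x601) (.leaf 0)) (.node (.leaf 0x704030104) (.leaf 0)))) (.node (.node (.node (.leaf 0x20700040205) (.leaf 0)) (.node (.leaf 0x601040004) (.leaf 0))) (.node (.node (.leaf 0x60004030005) (.leaf 0)) (.node (.leaf 0x20604020005) (.leaf 0)))))) (.node (.node (.node (.node (.node (.leaf 0x70402) (.leaf 0x2070004020106)) (.node (.leaf 0x70104030105) (.leaf 0))) (.node (.node (.leaf 0x2060203) (.leaf 0)) (.node (.leaf 0x7040103) (.leaf 0))))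 (.node (.node (.node (.leaf 0x701040304) (.leaf 0)) (.node (.leaf 0x2060104020006) (.leaf 0))) (.node (.node (.leaf 0x600040004) (.leaf 0)) (.node (.leaf 0x6030103) (.leaf 0))))) (.node (.node (.node (.node (.leaf 0x20701040205) (.leaf 0x70004030105)) (.node (.leaf 0x60002) (.leaf 0))) (.node (.node (.leaf 0x60302) (.leaf 0)) (.node (.leaf 0x206020104) (.leaf 0)))) (.node (.node (.node (.leaf 0x7000403) (.leaf 0)) (.node (.leaf 0x60104030005) (.leaf 0))) (.node (.node (.leaf 0x2070104020106) (.leaf 0)) (.node (.leaf 0x6040003) (.leaf 0))))))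
def hWord_9 : Tree := .node (.node (.node (.node (.node (.node (.leaf 0x80207040205) (.leaf 0x80604030005)) (.node (.leaf 0x80701040105) (.leaf 0))) (.node (.node (.leaf 0x80700040305) (.leaf 0)) (.node (.leaf 0x8020704020106) (.leaf 0)))) (.node (.node (.node (.leaf 0x807010404) (.leaf 0)) (.node (.leaf 0x806030004) (.leaf 0))) (.node (.node (.leaf 0x802060004020007) (.leaf 0)) (.node (.leaf 0x8060103) (.leaf 0))))) (.node (.node (.node (.node (.leaf 0x807040304) (.leaf 0x80700040105)) (.node (.leaf 0x80206020005) (.leaf 0))) (.node (.node (.leaf 0x80602) (.leaf 0)) (.node (.leaf 0x80704030105) (.leaf 0)))) (.node (.node (.node (.leaf 0x8020700040206) (.leaf 0)) (.node (.leaf 0x80601040005) (.leaf 0))) (.node (.node (.leaf 0x8060004030006) (.leaf 0)) (.node (.leaf 0x8020604020006) (.leaf 0)))))) (.node (.node (.node (.node (.node (.leaf 0x8070403) (.leaf 0x802070004020107)) (.node (.leaf 0x8070104030106) (.leaf 0))) (.node (.node (.leaf 0x802060204) (.leaf 0)) (.node (.leaf 0x807040104) (.leaf 0))))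 (.node (.node (.node (.leaf 0x80701040305) (.leaf 0)) (.node (.leaf 0x802060104020007) (.leaf 0))) (.node (.node (.leaf 0x80600040005) (.leaf 0)) (.node (.leaf 0x806030104) (.leaf 0))))) (.node (.node (.node (.node (.leaf 0x8020701040206) (.leaf 0x8070004030106)) (.node (.leaf 0x8060003) (.leaf 0))) (.node (.node (.leaf 0x8060303) (.leaf 0)) (.node (.leaf 0x80206020105) (.leaf 0)))) (.node (.node (.node (.leaf 0x807000404) (.leaf 0)) (.node (.leaf 0x8060104030006) (.leaf 0))) (.node (.node (.leaf 0x802070104020107) (.leaf 0)) (.node (.leaf 0x806040004) (.leaf 0))))))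
def hWord_10 : Tree := .node (.node (.node (.node (.node (.node (.leaf 0x306040304) (.leaf 0x5030003)) (.node (.leaf 0x30701040105) (.leaf 0))) (.node (.node (.leaf 0x40303) (.leaf 0)) (.node (.leaf 0x30604030105) (.leaf 0)))) (.node (.node (.node (.leaf 0x307010404) (.leaf 0)) (.node (.leaf 0x404030004) (.leaf 0))) (.node (.node (.leaf 0x3070004030006) (.leaf 0)) (.node (.leaf 0x3060103) (.leaf 0))))) (.node (.node (.node (.node (.leaf 0x40302) (.leaf 0x30700040105)) (.node (.leaf 0x307030004) (.leaf 0))) (.node (.node (.leaf 0x30602) (.leaf 0)) (.node (.leaf 0x4030103) (.leaf 0)))) (.node (.node (.node (.leaf 0x30600040305) (.leaf 0)) (.node (.leaf 0x30601040005) (.leaf 0))) (.node (.node (.leaf 0x5030004) (.leaf 0)) (.node (.leaf 0x30704030005) (.leaf 0)))))) (.node (.node (.node (.node (.node (.leaf 0x3070403) (.leaf 0x3060004030106)) (.node (.leaf 0x104030104) (.leaf 0))) (.node (.node (.leaf 0x3070303) (.leaf 0)) (.node (.leaf 0x307040104) (.leaf 0)))) (.node (.node (.node (.leaf 0x1040303) (.leaf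 0)) (.node (.leaf 0x3070104030006) (.leaf 0))) (.node (.node (.leaf 0x30600040005) (.leaf 0)) (.node (.leaf 0x404030104) (.leaf 0))))) (.node (.node (.node (.node (.leaf 0x30601040305) (.leaf 0x4030104)) (.node (.leaf 0x3060003) (.leaf 0))) (.node (.node (.leaf 0x4040303) (.leaf 0)) (.node (.leaf 0x307030104) (.leaf 0)))) (.node (.node (.node (.leaf 0x307000404) (.leaf 0)) (.node (.leaf 0x105030004) (.leaf 0))) (.node (.node (.leaf 0x3060104030106) (.leaf 0)) (.node (.leaf 0x306040004) (.leaf 0))))))
def hWord_11 : Tree := .node (.node (.node (.node (.node (.node (.leaf 0x80306040305) (.leaf 0x805030004)) (.node (.leaf 0x8030701040106) (.leaf 0))) (.node (.node (.leaf 0x800040304) (.leaf 0)) (.node (.leaf 0x8030604030106) (.leaf 0)))) (.node (.node (.node (.leaf 0x80307010405) (.leaf 0)) (.node (.leaf 0x80404030005) (.leaf 0))) (.node (.node (.leaf 0x803070004030007) (.leaf 0)) (.node (.leaf 0x803060104) (.leaf 0))))) (.node (.node (.node (.node (.leaf 0x8040303) (.leaf 0x8030700040106)) (.node (.leaf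 0x80307030005) (.leaf 0))) (.node (.node (.leaf 0x8030603) (.leaf 0)) (.node (.leaf 0x804030104) (.leaf 0)))) (.node (.node (.node (.leaf 0x8030600040306) (.leaf 0)) (.node (.leaf 0x8030601040006) (.leaf 0))) (.node (.node (.leaf 0x80005030005) (.leaf 0)) (.node (.leaf 0x8030704030006) (.leaf 0)))))) (.node (.node (.node (.node (.node (.leaf 0x803070404) (.leaf 0x803060004030107)) (.node (.leaf 0x80104030105) (.leaf 0))) (.node (.node (.leaf 0x803070304) (.leaf 0)) (.node (.leaf 0x80307040105) (.leaf 0)))) (.node (.node (.node (.leaf 0x801040304) (.leaf 0)) (.node (.leaf 0x803070104030007) (.leaf 0))) (.node (.node (.leaf 0x8030600040006) (.leaf 0)) (.node (.leaf 0x80404030105) (.leaf 0))))) (.node (.node (.node (.node (.leaf 0x8030601040306) (.leaf 0x80004030105)) (.node (.leaf 0x803060004) (.leaf 0))) (.node (.node (.leaf 0x804040304) (.leaf 0)) (.node (.leaf 0x80307030105) (.leaf 0)))) (.node (.node (.node (.leaf 0x80307000405) (.leaf 0)) (.node (.leaf 0x80105030005) (.leaf 0))) (.node (.node (.leaf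 0x803060104030107) (.leaf 0)) (.node (.leaf 0x80306040005) (.leaf 0))))))
def hWord_12 : Tree := .node (.node (.node (.node (.node (.node (.leaf 0x50202) (.leaf 0x704020004)) (.node (.leaf 0x20701040105) (.leaf 0))) (.node (.node (.leaf 0x600040204) (.leaf 0)) (.node (.leaf 0x5020103) (.leaf 0)))) (.node (.node (.node (.leaf 0x207010404) (.leaf 0)) (.node (.leaf 0x7020003) (.leaf 0))) (.node (.node (.leaf 0x4020004) (.leaf 0)) (.node (.leaf 0x2060103) (.leaf 0))))) (.node (.node (.node (.node (.leaf 0x6040203) (.leaf 0x20700040105)) (.node (.leaf 0x20002) (.leaf 0))) (.node (.node (.leaf 0x20602) (.leaf 0)) (.node (.leaf 0x604020104) (.leaf 0)))) (.node (.node (.node (.leaf 0x50203) (.leaf 0)) (.node (.leaf 0x20601040005) (.leaf 0))) (.node (.node (.leaf 0x70004020005) (.leaf 0)) (.node (.leaf 0x4020003) (.leaf 0)))))) (.node (.node (.node (.node (.node (.leaf 0x2070403) (.leaf 0x5020104)) (.node (.leaf 0x60104020105) (.leaf 0))) (.node (.node (.leaf 0x201) (.leaf 0)) (.node (.leaf 0x207040104) (.leaf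 0)))) (.node (.node (.node (.leaf 0x601040204) (.leaf 0)) (.node (.leaf 0x104020004) (.leaf 0))) (.node (.node (.leaf 0x20600040005) (.leaf 0)) (.node (.leaf 0x7020103) (.leaf 0))))) (.node (.node (.node (.node (.leaf 0x1050203) (.leaf 0x60004020105)) (.node (.leaf 0x2060003) (.leaf 0))) (.node (.node (.leaf 0x70202) (.leaf 0)) (.node (.leaf 0x20102) (.leaf 0)))) (.node (.node (.node (.leaf 0x207000404) (.leaf 0)) (.node (.leaf 0x70104020005) (.leaf 0))) (.node (.node (.leaf 0x105020104) (.leaf 0)) (.node (.leaf 0x206040004) (.leaf 0))))))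
def hWord_13 : Tree := .node (.node (.node (.node (.node (.node (.leaf 0x8050203) (.leaf 0x80704020005)) (.node (.leaf 0x8020701040106) (.leaf 0))) (.node (.node (.leaf 0x80600040205) (.leaf 0)) (.node (.leaf 0x805020104) (.leaf 0)))) (.node (.node (.node (.leaf 0x80207010405) (.leaf 0)) (.node (.leaf 0x807020004) (.leaf 0))) (.node (.node (.leaf 0x80004020005) (.leaf 0)) (.node (.leaf 0x802060104) (.leaf 0))))) (.node (.node (.node (.node (.leaf 0x806040204) (.leaf 0x8020700040106)) (.node (.leaf 0x8020003) (.leaf 0))) (.node (.node (.leaf 0x8020603) (.leaf 0)) (.node (.leaf 0x80604020105) (.leaf 0)))) (.node (.node (.node (.leaf 0x800050204) (.leaf 0)) (.node (.leaf 0x8020601040006) (.leaf 0))) (.node (.node (.leaf 0x8070004020006) (.leaf 0)) (.node (.leaf 0x804020004) (.leaf 0)))))) (.node (.node (.node (.node (.node (.leaf 0x802070404) (.leaf 0x80005020105)) (.node (.leaf 0x8060104020106) (.leaf 0))) (.node (.node (.leaf 0x80202) (.leaf 0)) (.node (.leaf 0x80207040105) (.leaf 0)))) (.node (.node (.node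 (.leaf 0x80601040205) (.leaf 0)) (.node (.leaf 0x80104020005) (.leaf 0))) (.node (.node (.leaf 0x8020600040006) (.leaf 0)) (.node (.leaf 0x807020104) (.leaf 0))))) (.node (.node (.node (.node (.leaf 0x801050204) (.leaf 0x8060004020106)) (.node (.leaf 0x802060004) (.leaf 0))) (.node (.node (.leaf 0x8070203) (.leaf 0)) (.node (.leaf 0x8020103) (.leaf 0)))) (.node (.node (.node (.leaf 0x80207000405) (.leaf 0)) (.node (.leaf 0x8070104020006) (.leaf 0))) (.node (.node (.leaf 0x80105020105) (.leaf 0)) (.node (.leaf 0x80206040005) (.leaf 0))))))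
def hWord_14 : Tree := .node (.node (.node (.node (.node (.node (.leaf 0x307040204) (.leaf 0x20604030005)) (.node (.leaf 0x1040103) (.leaf 0))) (.node (.node (.leaf 0x20700040305) (.leaf 0)) (.node (.leaf 0x30704020105) (.leaf 0)))) (.node (.node (.node (.leaf 0x10402) (.leaf 0)) (.node (.leaf 0x206030004) (.leaf 0))) (.node (.node (.leaf 0x3060004020006) (.leaf 0)) (.node (.leaf 0x4040103) (.leaf 0))))) (.node (.node (.node (.node (.leaf 0x207040304) (.leaf 0x40103)) (.node (.leaf 0x306020004) (.leaf 0))) (.node (.node (.leaf 0x40402) (.leaf 0)) (.node (.leaf 0x20704030105) (.leaf 0)))) (.node (.node (.node (.leaf 0x30700040205) (.leaf 0)) (.node (.leaf 0x1050003) (.leaf 0))) (.node (.node (.leaf 0x2060004030006) (.leaf 0)) (.node (.leaf 0x30604020005) (.leaf 0)))))) (.node (.node (.node (.node (.node (.leaf 0x401) (.leaf 0x3070004020106)) (.node (.leaf 0x2070104030106) (.leaf 0))) (.node (.node (.leaf 0x3060203) (.leaf 0)) (.node (.leaf 0x40102) (.leaf 0)))) (.node (.node (.node (.leaf 0x20701040305)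 (.leaf 0)) (.node (.leaf 0x3060104020006) (.leaf 0))) (.node (.node (.leaf 0x50003) (.leaf 0)) (.node (.leaf 0x206030104) (.leaf 0))))) (.node (.node (.node (.node (.leaf 0x30701040205) (.leaf 0x2070004030106)) (.node (.leaf 0x4040003) (.leaf 0))) (.node (.node (.leaf 0x2060303) (.leaf 0)) (.node (.leaf 0x306020104) (.leaf 0)))) (.node (.node (.node (.leaf 0x402) (.leaf 0)) (.node (.leaf 0x2060104030006) (.leaf 0))) (.node (.node (.leaf 0x3070104020106) (.leaf 0)) (.node (.leaf 0x50002) (.leaf 0))))))
def hWord_15 : Tree := .node (.node (.node (.node (.node (.node (.leaf 0x80307040205) (.leaf 0x8020604030006)) (.node (.leaf 0x801040104) (.leaf 0))) (.node (.node (.leaf 0x8020700040306) (.leaf 0)) (.node (.leaf 0x8030704020106) (.leaf 0)))) (.node (.node (.node (.leaf 0x8010403) (.leaf 0)) (.node (.leaf 0x80206030005) (.leaf 0))) (.node (.node (.leaf 0x803060004020007) (.leaf 0)) (.node (.leaf 0x804040104) (.leaf 0))))) (.node (.node (.node (.node (.leaf 0x80207040305) (.leaf 0x800040104)) (.node (.leaf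 0x80306020005) (.leaf 0))) (.node (.node (.leaf 0x8040403) (.leaf 0)) (.node (.leaf 0x8020704030106) (.leaf 0)))) (.node (.node (.node (.leaf 0x8030700040206) (.leaf 0)) (.node (.leaf 0x801050004) (.leaf 0))) (.node (.node (.leaf 0x802060004030007) (.leaf 0)) (.node (.leaf 0x8030604020006) (.leaf 0)))))) (.node (.node (.node (.node (.node (.leaf 0x80402) (.leaf 0x803070004020107)) (.node (.leaf 0x802070104030107) (.leaf 0))) (.node (.node (.leaf 0x803060204) (.leaf 0)) (.node (.leaf 0x8040103) (.leaf 0)))) (.node (.node (.node (.leaf 0x8020701040306) (.leaf 0)) (.node (.leaf 0x803060104020007) (.leaf 0))) (.node (.node (.leaf 0x800050004) (.leaf 0)) (.node (.leaf 0x80206030105) (.leaf 0))))) (.node (.node (.node (.node (.leaf 0x8030701040206) (.leaf 0x802070004030107)) (.node (.leaf 0x804040004) (.leaf 0))) (.node (.node (.leaf 0x802060304) (.leaf 0)) (.node (.leaf 0x80306020105) (.leaf 0)))) (.node (.node (.node (.leaf 0x8000403) (.leaf 0)) (.node (.leaf 0x802060104030007) (.leaf 0))) (.node (.node (.leaf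 0x803070104020107) (.leaf 0)) (.node (.leaf 0x8050003) (.leaf 0))))))
def hWord : Tree := .node (.node (.node (.node (hWord_0) (hWord_8)) (.node (hWord_4) (hWord_12))) (.node (.node (hWord_2) (hWord_10)) (.node (hWord_6) (hWord_14)))) (.node (.node (.node (hWord_1) (hWord_9)) (.node (hWord_5) (hWord_13))) (.node (.node (hWord_3) (hWord_11)) (.node (hWord_7) (hWord_15))))

def hWordOf (p : ℕ) : List ℕ :=
  let v := getLeaf hWord p
  wordAt (v % 256) (v / 256)

theorem hWord_ok : ((List.range 576).all fun p =>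
    allSmall (hWordOf p) && Nat.beq (hEval (hWordOf p)) p) = true := by decide +kernel

end CfsgLib.Recog.GTwoThree
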