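import Mathlib
import Cfsg.Agent.Lib.Recog.GTwoThree.HWords

/-!
The subgroup generated by the centraliser, `y` and the extra element is the table group
(owner: helper23).
-/

set_option autoImplicit false
set_option maxRecDepth 100000

namespace CfsgLib.Recog.GTwoThree

open Check

theorem fix_conj : (∀ x ∈ ([0, 2, 6, 8] : List ℕ),
      cConj 0 (hLetters.getD x 150) 294 = 294 ∨ cConj 0 (hLetters.getD x 150) 294 = cInv 0 294) ∧
    cMul 0 0 294 ≠ cMul 0 294 0 ∧ cMul 0 174 294 = cMul 0 294 174 ∧
    cMul 0 (cConj 0 0 294) 294 ≠ cMul 0 294 (cConj 0 0 294) := by decide +kernel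

def q32 : List ℕ := (List.range 576).filter fun p =>
  Nat.beq (cD p) 0 && q8.any (Nat.beq (cA p)) && q8.any (Nat.beq (cB p))

theorem centre_steps : ((List.range 576).all fun p =>
    Nat.beq p 150 || Nat.beq p 174 || q32.any fun q =>
      let c := cMul 0 (cMul 0 p q) (cMul 0 (cInv 0 p) (cInv 0 q))
      Nat.beq c 174 || q32.any fun q' =>
        Nat.beq (cMul 0 (cMul 0 c q') (cMul 0 (cInv 0 c) (cInv 0 q'))) 174) = true := by
  decide +kernel

variable {G : Type*} [Group G] [Finite G] {z : G} {μ : Model z 0} {L : Local μ} (A : Amal μ L)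
  {b : G}

/-- The stabiliser of the first point. -/
def fixGroup (b : G) : Subgroup G :=
  Subgroup.closure (letter μ A.y b '' {x | x ∈ fixLetters})

theorem y_conj_z : A.y * z * A.y⁻¹ = μ.val 0 := by
  have := A.act 0 (by norm_num)
  rwa [show wGens.getD 0 0 = 174 from rfl, show alGens.getD 0 0 = 0 from rfl, μ.val_z] at this

/-- The fixing group normalises the cyclic group of `c₁`. -/
theorem fix_normalises (hb : b * μ.val 294 = μ.val 294 * b) {g : G} (hg : g ∈ fixGroup A b) :
    g ∈ Subgroup.normalizer (Subgroup.zpowers (μ.val 294) : Set G) := by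
  set c := μ.val 294 with hc
  have hN : fixGroup A b ≤ Subgroup.normalizer (Subgroup.zpowers c : Set G) := by
    refine (Subgroup.closure_le _).2 ?_
    rintro _ ⟨x, hx, rfl⟩
    rw [SetLike.mem_coe, Subgroup.mem_normalizer_iff]
    have hcases : letter μ A.y b x * c * (letter μ A.y b x)⁻¹ = c ∨
        letter μ A.y b x * c * (letter μ A.y b x)⁻¹ = c⁻¹ := by
      simp only [fixLetters, Set.mem_setOf_eq, List.mem_cons, List.not_mem_nil, or_false] at hx
      have small : ∀ x ∈ ([0, 2, 6, 8] : List ℕ),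
          letter μ A.y b x * c * (letter μ A.y b x)⁻¹ = c ∨
            letter μ A.y b x * c * (letter μ A.y b x)⁻¹ = c⁻¹ := by
        intro x hx
        have hl : x < 10 := by revert x; decide
        have hg576 := (hLetters_facts.1 x hl).1
        rw [show letter μ A.y b x = μ.val (hLetters.getD x 150) by simp [letter, hl], hc,
          ← μ.val_conj (by norm_num) hg576 (by norm_num),
          ← μ.val_inv (by norm_num) (show 294 < 576 by norm_num)]
        exact (fix_conj.1 x hx).imp (congrArg μ.val) (congrArg μ.val)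
      rcases hx with rfl | rfl | rfl | rfl | rfl
      · exact small 0 (by simp)
      · exact small 2 (by simp)
      · exact small 6 (by simp)
      · exact small 8 (by simp)
      · left
        rw [show letter μ A.y b 12 = b by simp [letter], hb]; group
    intro h
    constructor
    · rintro ⟨n, rfl⟩
      show _ * c ^ n * _ ∈ Subgroup.zpowers c
      rw [← conj_zpow]
      rcases hcases with e | e <;> rw [e]
      · exact Subgroup.zpow_mem_zpowers c n
      · exact zpow_mem (inv_mem (Subgroup.mem_zpowers c)) n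
    · rintro ⟨n, hn⟩
      change c ^ n = _ at hn
      have e' : (letter μ A.y b x)⁻¹ * c * letter μ A.y b x = c ∨
          (letter μ A.y b x)⁻¹ * c * letter μ A.y b x = c⁻¹ := by
        rcases hcases with e | e
        · left; conv_lhs => rw [← e]
          group
        · right
          conv_lhs => rw [← inv_inv c, ← e]
          group
      have : h = ((letter μ A.y b x)⁻¹ * c * letter μ A.y b x) ^ n := by
        rw [show (letter μ A.y b x)⁻¹ * c * letter μ A.y b x =
          (letter μ A.y b x)⁻¹ * c * ((letter μ A.y b x)⁻¹)⁻¹ by rw [inv_inv], conj_zpow, hn]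
        group
      show h ∈ Subgroup.zpowers c
      rw [this]
      rcases e' with e | e <;> rw [e]
      · exact Subgroup.zpow_mem_zpowers c n
      · exact zpow_mem (inv_mem (Subgroup.mem_zpowers c)) n
  exact hN hg

/-- Nothing of the fixing group can move the centre as `y` does. -/
theorem fix_absurd (hb : b * μ.val 294 = μ.val 294 * b) {g : G} (hg : g ∈ fixGroup A b)
    (he : g * z * g⁻¹ = μ.val 0) : False := by
  set c := μ.val 294 with hc
  have hgi := fix_normalises A hb (inv_mem hg)
  rw [Subgroup.mem_normalizer_iff] at hgi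
  obtain ⟨n, hn⟩ := (hgi c).1 (Subgroup.mem_zpowers c)
  change c ^ n = _ at hn
  have hzc : Commute z c := by
    have h := congrArg μ.val fix_conj.2.2.1
    rw [μ.mul _ _ (by norm_num) (by norm_num), μ.mul _ _ (by norm_num) (by norm_num), μ.val_z] at h
    exact h
  have hcomm : Commute (μ.val 0) c := by
    have h1 : Commute z (g⁻¹ * c * g) := by
      have h := hzc.zpow_right n
      rwa [hn, inv_inv] at h
    have h2 := h1.map (MulAut.conj g)
    simp only [MulAut.conj_apply] at h2
    rw [he, show g * (g⁻¹ * c * g) * g⁻¹ = c by group] at h2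
    exact h2
  refine fix_conj.2.1 (μ.inj _ _ (cMul_lt (by norm_num) (by norm_num))
    (cMul_lt (by norm_num) (by norm_num)) ?_)
  rw [μ.mul _ _ (by norm_num) (by norm_num), μ.mul _ _ (by norm_num) (by norm_num)]
  exact hcomm

/-- An involution without fixed points inverts. -/
theorem invert_of_fpf {N : Subgroup G} {t : G} (ht : t * t = 1)
    (hN : ∀ n ∈ N, t * n * t⁻¹ ∈ N) (hfix : ∀ n ∈ N, n * t = t * n → n = 1) :
    ∀ n ∈ N, t * n * t⁻¹ = n⁻¹ := by
  have hti : t⁻¹ = t := inv_eq_of_mul_eq_one_right ht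
  let f : N → N := fun n => ⟨(n : G)⁻¹ * (t * n * t⁻¹), mul_mem (inv_mem n.2) (hN n n.2)⟩
  have hf : Function.Injective f := by
    intro n m h
    have h' : (n : G)⁻¹ * (t * n * t⁻¹) = (m : G)⁻¹ * (t * m * t⁻¹) := congrArg Subtype.val h
    refine Subtype.ext (mul_inv_eq_one.1 (hfix _ (mul_mem m.2 (inv_mem n.2)) ?_)).symm
    have h2 : (n : G)⁻¹ * t * n = (m : G)⁻¹ * t * m := by
      calc (n : G)⁻¹ * t * n = (n : G)⁻¹ * (t * n * t⁻¹) * t := by group
        _ = _ := by rw [h']; group
    calc (m : G) * (n : G)⁻¹ * t = (m : G) * ((n : G)⁻¹ * t * n) * (n : G)⁻¹ := by group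
      _ = _ := by rw [h2]; group
  intro n hn
  obtain ⟨m, hm⟩ := Finite.surjective_of_injective hf ⟨n, hn⟩
  have hm' : (m : G)⁻¹ * (t * m * t⁻¹) = n := congrArg Subtype.val hm
  rw [← hm', hti]
  calc t * ((m : G)⁻¹ * (t * m * t)) * t = t * (m : G)⁻¹ * t * m * (t * t) := by group
    _ = _ := by rw [ht, mul_one, mul_inv_rev, inv_inv, mul_inv_rev, mul_inv_rev, hti]; group

theorem exists_table_iso (ht : A.t = 574) (e : Extra μ A.y b 294) :
    ∃ G₀ : Subgroup G, (∀ p < 576, μ.val p ∈ G₀) ∧ Nonempty (G₀ ≃* tableGroup) := by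
  set a := letter μ A.y b with ha_def
  have hrels : ∀ r ∈ allRels (rels8.map Rel.word ++ bRels xWord8), wval a r = 1 := by
    refine allRels_one a (letter_flip μ A.y b) fun r hr => ?_
    rcases List.mem_append.1 hr with hr | hr
    · obtain ⟨R, hR, rfl⟩ := List.mem_map.1 hr
      exact rel_one μ A.y b A rfl R (ht.symm ▸ List.all_eq_true.1 facts8.1 R hR)
    · exact bRels_one μ A.y b e facts8.2.1 facts8.2.2 r hr
  have ha10 : a 10 = A.y := by simp [ha_def, letter]
  have hy : a 10 ∉ fixGroup A b := fun h =>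
    fix_absurd A e.c1 (ha10 ▸ h : A.y ∈ fixGroup A b) (y_conj_z A)
  have h14 : ∀ x, 14 ≤ x → a x = 1 := fun x hx => by
    simp [ha_def, letter, show ¬ x < 10 by omega, show x ≠ 10 by omega, show x ≠ 11 by omega,
      show x ≠ 12 by omega, show x ≠ 13 by omega]
  set G₀ := Subgroup.closure (Set.range a) with hG₀
  obtain ⟨θ, hrange, hker⟩ :=
    exists_table_hom a (letter_flip μ A.y b) (letter_empty μ A.y b) h14 hrels hy
  have haG : ∀ x, a x ∈ G₀ := fun x => Subgroup.subset_closure ⟨x, rfl⟩
  have hH : ∀ p < 576, μ.val p ∈ G₀ := by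
    intro p hp
    have h := List.all_eq_true.1 hWord_ok p (List.mem_range.2 hp)
    rw [Bool.and_eq_true] at h
    rw [← Nat.eq_of_beq_eq_true h.2, ← (wval_small μ A.y b h.1).2]
    exact list_prod_mem fun u hu => by
      obtain ⟨x, -, rfl⟩ := List.mem_map.1 hu; exact haG x
  let N : Subgroup G := θ.ker.map G₀.subtype
  have hNK : ∀ n ∈ N, n ∈ fixGroup A b := by
    rintro _ ⟨n, hn, rfl⟩; exact hker n (SetLike.mem_coe.1 hn)
  have hNn : ∀ g ∈ G₀, ∀ n ∈ N, g * n * g⁻¹ ∈ N := by
    rintro g hg _ ⟨n, hn, rfl⟩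
    exact ⟨_, θ.normal_ker.conj_mem n hn ⟨g, hg⟩, rfl⟩
  have hyG : A.y ∈ G₀ := ha10 ▸ haG 10
  have hzG : z ∈ G₀ := μ.val_z ▸ hH 174 (by norm_num)
  have hzN : z ∉ N := fun h => by
    have h0 := hNn A.y hyG z h
    rw [y_conj_z A] at h0
    have hn := fix_normalises A e.c1 (hNK _ h0)
    rw [Subgroup.mem_normalizer_iff] at hn
    obtain ⟨n, hn⟩ := (hn (μ.val 294)).1 (Subgroup.mem_zpowers _)
    change μ.val 294 ^ n = _ at hn
    rw [← μ.val_conj (by norm_num) (by norm_num) (by norm_num)] at hn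
    have hcom : Commute (μ.val (cConj 0 0 294)) (μ.val 294) := hn ▸ Commute.zpow_self _ n
    have l := cConj_lt (ε := 0) (g := 0) (x := 294) (by norm_num) (by norm_num) (by norm_num)
    refine fix_conj.2.2.2 (μ.inj _ _ (cMul_lt l (by norm_num)) (cMul_lt (by norm_num) l) ?_)
    rw [μ.mul _ _ l (by norm_num), μ.mul _ _ (by norm_num) l]
    exact hcom
  have hCz : ∀ n ∈ N, n * z = z * n → n = 1 := by
    intro n hn hnz
    obtain ⟨p, hp, rfl⟩ := (μ.mem n).1 hnz
    have h := List.all_eq_true.1 centre_steps p (List.mem_range.2 hp)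
    simp only [Bool.or_eq_true, List.any_eq_true] at h
    have comm_mem : ∀ u v, u < 576 → v < 576 → μ.val u ∈ N →
        μ.val (cMul 0 (cMul 0 u v) (cMul 0 (cInv 0 u) (cInv 0 v))) ∈ N := by
      intro u v hu hv hun
      have lu := (cInv_lt (ε := 0) (by norm_num) hu).1
      have lv := (cInv_lt (ε := 0) (by norm_num) hv).1
      rw [μ.mul _ _ (cMul_lt hu hv) (cMul_lt lu lv), μ.mul _ _ hu hv, μ.mul _ _ lu lv,
        μ.val_inv (by norm_num) hu, μ.val_inv (by norm_num) hv,
        show μ.val u * μ.val v * ((μ.val u)⁻¹ * (μ.val v)⁻¹) =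
          μ.val u * (μ.val v * (μ.val u)⁻¹ * (μ.val v)⁻¹) by group]
      exact mul_mem hun (hNn _ (hH v hv) _ (inv_mem hun))
    have q576 : ∀ q ∈ q32, q < 576 := fun q hq => List.mem_range.1 (List.mem_filter.1 hq).1
    rcases h with (h | h) | ⟨q, hq, h | ⟨q', hq', h⟩⟩
    · rw [Nat.eq_of_beq_eq_true h, μ.val_one]
    · exact absurd (μ.val_z ▸ Nat.eq_of_beq_eq_true h ▸ hn) hzN
    · have := comm_mem p q hp (q576 q hq) hn
      rw [Nat.eq_of_beq_eq_true h, μ.val_z] at this
      exact absurd this hzN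
    · have hc := comm_mem p q hp (q576 q hq) hn
      have hc576 : cMul 0 (cMul 0 p q) (cMul 0 (cInv 0 p) (cInv 0 q)) < 576 :=
        cMul_lt (cMul_lt hp (q576 q hq))
          (cMul_lt (cInv_lt (by norm_num) hp).1 (cInv_lt (by norm_num) (q576 q hq)).1)
      have := comm_mem _ q' hc576 (q576 q' hq') hc
      rw [Nat.eq_of_beq_eq_true h, μ.val_z] at this
      exact absurd this hzN
  have z2 : z * z = 1 := by
    rw [← μ.val_z, ← μ.mul _ _ (by norm_num) (by norm_num),
      show cMul 0 174 174 = 150 from by decide +kernel, μ.val_one]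
  have hinvz := invert_of_fpf (N := N) z2 (hNn z hzG) hCz
  -- transport by a conjugation
  have transport : ∀ (t : G) (g : G), g ∈ G₀ → g * z * g⁻¹ = t →
      ∀ n ∈ N, n * t = t * n → n = 1 := by
    intro t g hg ht' n hn hnt
    have h1 := hNn g⁻¹ (inv_mem hg) n hn
    rw [inv_inv] at h1
    have h2 := hCz _ h1 (by
      rw [show z = g⁻¹ * t * g by rw [← ht']; group]
      calc g⁻¹ * n * g * (g⁻¹ * t * g) = g⁻¹ * (n * t) * g := by group
        _ = _ := by rw [hnt]; group)
    calc n = g * (g⁻¹ * n * g) * g⁻¹ := by group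
      _ = 1 := by rw [h2]; group
  have he0 := transport (μ.val 0) A.y hyG (y_conj_z A)
  have he24 := transport (μ.val 24) (A.y * A.y) (mul_mem hyG hyG) (by
    have h := A.act 1 (by norm_num)
    rw [show wGens.getD 1 0 = 0 from rfl, show alGens.getD 1 0 = 24 from rfl,
      ← y_conj_z A] at h
    rw [← h]; group)
  have e2 : μ.val 0 * μ.val 0 = 1 := by
    rw [← μ.mul _ _ (by norm_num) (by norm_num), show cMul 0 0 0 = 150 from by decide +kernel,
      μ.val_one]
  have hinve := invert_of_fpf (N := N) e2 (hNn _ (hH 0 (by norm_num))) he0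
  have hbot : ∀ n ∈ N, n = 1 := by
    intro n hn
    refine he24 n hn ?_
    have h1 := hinvz _ (hNn _ (hH 0 (by norm_num)) n hn)
    have h24 : μ.val 24 = z * μ.val 0 := by
      have h := μ.mul 174 0 (by norm_num) (by norm_num)
      rwa [show cMul 0 174 0 = 24 from by decide +kernel, μ.val_z] at h
    have h2 : z * μ.val 0 * n * (z * μ.val 0)⁻¹ = n := by
      calc _ = z * (μ.val 0 * n * (μ.val 0)⁻¹) * z⁻¹ := by group
        _ = n := by rw [h1, hinve n hn, inv_inv]
    rw [h24]
    calc n * (z * μ.val 0) = z * μ.val 0 * n * (z * μ.val 0)⁻¹ * (z * μ.val 0) := by rw [h2]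
      _ = _ := by group
  have hinj : Function.Injective θ := (injective_iff_map_eq_one θ).2 fun g hg =>
    Subtype.ext (hbot _ ⟨g, hg, rfl⟩)
  exact ⟨G₀, hH, ⟨(MonoidHom.ofInjective hinj).trans (MulEquiv.subgroupCongr hrange)⟩⟩

end CfsgLib.Recog.GTwoThree
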