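import Cfsg.Agent.Lib.Recog.GTwoThree.Amalgam

/-!
Owner: helper5. The symmetry exchanging the two factors: it fixes the group of order eight pointwise and
carries the amalgam `(μ, y)` to `(μ', z * y)`.
-/

set_option autoImplicit false
set_option maxRecDepth 100000

namespace CfsgLib.Recog.GTwoThree

/-- The exchange of the factors; the outer element is multiplied by `z`. -/
def swapC (p : ℕ) : ℕ := flipS (code (cB p) (cA p) (cD p))

/-- The elements of one factor, of the other, and the outer ones. -/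
def parts : List ℕ :=
  (List.range 24).map (fun a => code a 3 0) ++ (List.range 24).map (fun b => code 3 b 0) ++ [150, 151]

theorem parts_mem : (∀ a : Fin 24, code a.val 3 0 ∈ parts ∧ code 3 a.val 0 ∈ parts) ∧
    150 ∈ parts ∧ 151 ∈ parts ∧ ∀ q ∈ parts, q < 576 := by decide +kernel

theorem parts_cover : ((List.range 576).all fun q =>
    Nat.beq (cMul 0 (cMul 0 (code (cA q) 3 0) (code 3 (cB q) 0)) (if cD q = 1 then 151 else 150)) q) = true := by
  decide +kernel

theorem swap_parts : (parts.all fun q => (List.range 576).all fun p =>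
    Nat.beq (swapC (cMul 0 p q)) (cMul 0 (swapC p) (swapC q))) = true := by decide +kernel

theorem swap_invol : ((List.range 576).all fun p =>
    Nat.ble (swapC p) 575 && Nat.beq (swapC (swapC p)) p) = true := by decide +kernel

theorem swap_values : (∀ x ∈ e0, swapC x = x) ∧ swapC 151 = 175 ∧ swapC 294 = 156 ∧ swapC 156 = 294 ∧
    swapC 300 = 300 ∧ swapC 574 = 574 ∧ swapC 22 = cMul 0 22 374 ∧ swapC 1 = cMul 0 1 174 ∧
    swapC 7 = cMul 0 7 0 ∧ (∀ i < 5, swapC (wGens.getD i 0) ∈ wSet) ∧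
    (∀ i < 5, cConj 0 174 (img 0 alGens (swapC (wGens.getD i 0))) = swapC (alGens.getD i 0)) ∧
    (∀ i < 5, alGens.getD i 0 < 576) := by
  decide +kernel

theorem swap_words : (∀ x ∈ e0, x ∈ wSet ∧ img 0 alGens x ∈ e0) ∧
    img 0 alGens 174 = 0 ∧ img 0 alGens 0 = 24 ∧ img 0 alGens 24 = 174 ∧ img 0 alGens 374 = 550 ∧
    cMul 0 (cMul 0 174 0) 24 = 150 ∧
    cMul 0 (cConj 0 22 (cMul 0 (cMul 0 374 174) 550)) 24 = 150 ∧
    cConj 0 300 174 = 174 ∧ img 0 alGens (cConj 0 300 174) = 0 ∧
    cMul 0 (cMul 0 (cMul 0 174 (cConj 0 300 0)) (cConj 0 300 (img 0 alGens (cConj 0 300 0))))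
      (cConj 0 300 (img 0 alGens (cConj 0 300 (img 0 alGens (cConj 0 300 0))))) = 150 := by
  decide +kernel

theorem swapC_lt {p : ℕ} (hp : p < 576) : swapC p < 576 ∧ swapC (swapC p) = p := by
  have h := List.all_eq_true.1 swap_invol p (List.mem_range.2 hp)
  rw [Bool.and_eq_true] at h
  exact ⟨Nat.lt_succ_of_le (Nat.le_of_ble_eq_true h.1), Nat.eq_of_beq_eq_true h.2⟩

variable {G : Type*} [Group G] {z : G} (μ : Model z 0)

theorem val_swap_mul {p q : ℕ} (hp : p < 576) (hq : q < 576) :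
    μ.val (swapC (cMul 0 p q)) = μ.val (swapC p) * μ.val (swapC q) := by
  have one : ∀ p < 576, ∀ r ∈ parts, μ.val (swapC (cMul 0 p r)) = μ.val (swapC p) * μ.val (swapC r) := by
    intro p hp r hr
    rw [Nat.eq_of_beq_eq_true (List.all_eq_true.1 (List.all_eq_true.1 swap_parts r hr) p (List.mem_range.2 hp)),
      μ.mul _ _ (swapC_lt hp).1 (swapC_lt (parts_mem.2.2.2 r hr)).1]
  have assoc : ∀ a b c, a < 576 → b < 576 → c < 576 → cMul 0 a (cMul 0 b c) = cMul 0 (cMul 0 a b) c := by
    intro a b c ha hb hc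
    refine μ.inj _ _ (cMul_lt ha (cMul_lt hb hc)) (cMul_lt (cMul_lt ha hb) hc) ?_
    rw [μ.mul _ _ ha (cMul_lt hb hc), μ.mul _ _ hb hc, μ.mul _ _ (cMul_lt ha hb) hc, μ.mul _ _ ha hb, mul_assoc]
  obtain ⟨ha, hb, -⟩ := dec_lt hq
  set a := code (cA q) 3 0
  set b := code 3 (cB q) 0
  set c := if cD q = 1 then 151 else 150
  have ma : a ∈ parts := (parts_mem.1 ⟨cA q, by omega⟩).1
  have mb : b ∈ parts := (parts_mem.1 ⟨cB q, hb⟩).2
  have mc : c ∈ parts := by
    show (if cD q = 1 then 151 else 150) ∈ parts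
    split
    · exact parts_mem.2.2.1
    · exact parts_mem.2.1
  have la := parts_mem.2.2.2 a ma
  have lb := parts_mem.2.2.2 b mb
  have lc := parts_mem.2.2.2 c mc
  have hq' : cMul 0 (cMul 0 a b) c = q :=
    Nat.eq_of_beq_eq_true (List.all_eq_true.1 parts_cover q (List.mem_range.2 hq))
  rw [← hq', assoc p _ c hp (cMul_lt la lb) lc, assoc p a b hp la lb, one _ (cMul_lt (cMul_lt hp la) lb) c mc,
    one _ (cMul_lt hp la) b mb, one _ hp a ma, one _ (cMul_lt la lb) c mc, one _ la b mb]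
  group

theorem exists_swap {G : Type*} [Group G] [Finite G] {z : G} (μ : Model z 0) (L : Local μ) (A : Amal μ L)
    (ht : A.t = 574) :
    ∃ (μ' : Model z 0) (L' : Local μ') (A' : Amal μ' L'), L'.M = L.M ∧ A'.t = 574 ∧
      μ'.val 151 = μ.val 175 ∧ μ'.val 294 = μ.val 156 ∧ μ'.val 156 = μ.val 294 := by
  have hε : (0 : ℕ) < 2 := by norm_num
  obtain ⟨s0, s151, s294, s156, s300, s574, s22, s1, s7, sW, sAct, l576⟩ := swap_values
  have le : ∀ x ∈ e0, x < 576 := fun x hx => (e0_facts.1 x hx).1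
  let μ' : Model z 0 :=
    { val := fun p => μ.val (swapC p)
      mul := fun p q hp hq => val_swap_mul μ hp hq
      inj := fun p q hp hq h => by
        have e := μ.inj _ _ (swapC_lt hp).1 (swapC_lt hq).1 h
        rw [← (swapC_lt hp).2, e, (swapC_lt hq).2]
      mem := fun g => ⟨fun hg => by
        obtain ⟨p, hp, rfl⟩ := (μ.mem g).1 hg
        exact ⟨swapC p, (swapC_lt hp).1, by show μ.val (swapC (swapC p)) = _; rw [(swapC_lt hp).2]⟩,
        fun ⟨p, hp, e⟩ => e ▸ μ.comm_z (swapC_lt hp).1⟩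
      val_z := by show μ.val (swapC 174) = z; rw [s0 174 (by decide), μ.val_z] }
  let L' : Local μ' :=
    { M := L.M
      card := L.card
      val_mem := fun x hx => by show μ.val (swapC x) ∈ L.M; rw [s0 x hx]; exact L.val_mem x hx
      norm := fun g hg x hx => by
        obtain ⟨v, hv, ev⟩ := L.norm g hg x hx
        refine ⟨v, hv, ?_⟩
        show g * μ.val (swapC x) * g⁻¹ = μ.val (swapC v)
        rw [s0 x hx, s0 v hv]; exact ev
      cent := fun g hg hx => by
        obtain ⟨v, hv, ev⟩ := L.cent g hg fun x hx' => by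
          have h := hx x hx'
          change g * μ.val (swapC x) = μ.val (swapC x) * g at h
          rwa [s0 x hx'] at h
        exact ⟨v, hv, (congrArg μ.val (s0 v hv)).trans ev⟩ }
  -- the values in the model
  obtain ⟨hw0, i174, i0, i24, i374, w1, w2, w3, w4, w5⟩ := swap_words
  have hy : ∀ x ∈ wSet, A.y * μ.val x * A.y⁻¹ = μ.val (img 0 alGens x) := fun x hx =>
    (act_img hε μ l576 A.act hx).2
  have hy0 : ∀ x ∈ e0, A.y * μ.val x * A.y⁻¹ = μ.val (img 0 alGens x) := fun x hx => hy x (hw0 x hx).1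
  set y := A.y with hyd
  set Z := μ.val 174 with hZ
  have hZz : Z = z := μ.val_z
  have hyz : y * Z = μ.val 0 * y := by
    have h := hy0 174 (by decide)
    rw [i174] at h
    exact mul_inv_eq_iff_eq_mul.1 h
  have hy0' : y * μ.val 0 = μ.val 24 * y := by
    have h := hy0 0 (by decide)
    rw [i0] at h
    exact mul_inv_eq_iff_eq_mul.1 h
  have hy24 : y * μ.val 24 = Z * y := by
    have h := hy0 24 (by decide)
    rw [i24] at h
    exact mul_inv_eq_iff_eq_mul.1 h
  have hy374 : y * μ.val 374 = μ.val 550 * y := by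
    have h := hy0 374 (by decide)
    rw [i374] at h
    exact mul_inv_eq_iff_eq_mul.1 h
  have y3 : y * y * y = 1 := by rw [← A.y_cube, pow_succ, pow_two]
  set y' := z * y with hy'
  have hMz : z ∈ L.M := by
    have h := L.val_mem 174 (by decide)
    rwa [μ.val_z] at h
  have hy'Z : y' = Z * y := by rw [hy', hZz]
  have hv0 : ∀ p, p < 576 → μ'.val p = μ.val (swapC p) := fun _ _ => rfl
  refine ⟨μ', L', ⟨y', mul_mem hMz A.y_mem, ?_, fun i hi => ?_, ?_, fun p hp => ?_, 574, Or.inr rfl, ?_⟩,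
    rfl, rfl, congrArg μ.val s151, congrArg μ.val s294, congrArg μ.val s156⟩
  · -- order three
    calc y' ^ 3 = Z * (y * Z * y⁻¹) * (y * (y * Z * y⁻¹) * y⁻¹) * (y * y * y) := by
          rw [hy'Z, show (Z * y) ^ 3 = Z * y * (Z * y) * (Z * y) by simp [pow_succ, mul_assoc]]; group
      _ = 1 := by
          rw [mul_inv_eq_iff_eq_mul.2 hyz, mul_inv_eq_iff_eq_mul.2 hy0', y3, mul_one, hZ,
            ← μ.mul _ _ (by norm_num) (by norm_num),
            ← μ.mul _ _ (cMul_lt (by norm_num) (by norm_num)) (by norm_num), w1, μ.val_one]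
  · -- the action
    show z * y * μ.val (swapC (wGens.getD i 0)) * (z * y)⁻¹ = μ.val (swapC (alGens.getD i 0))
    obtain ⟨l1, e1⟩ := act_img hε μ l576 A.act (sW i hi)
    rw [← sAct i hi, μ.val_conj hε (by norm_num) l1, ← hZ, hZz]
    calc z * y * μ.val (swapC (wGens.getD i 0)) * (z * y)⁻¹
        = z * (y * μ.val (swapC (wGens.getD i 0)) * y⁻¹) * z⁻¹ := by group
      _ = _ := by rw [e1]
  · -- the relation with `22`
    show μ.val (swapC 22) * y' * (μ.val (swapC 22))⁻¹ * y' = 1
    rw [s22, μ.mul 22 374 (by norm_num) (by norm_num), hy'Z]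
    set r := μ.val 22
    have i374' : (μ.val 374)⁻¹ = μ.val 374 := by
      refine inv_eq_of_mul_eq_one_right ?_
      rw [← μ.mul _ _ (by norm_num) (by norm_num), show cMul 0 374 374 = 150 by decide +kernel, μ.val_one]
    have hr : r * y * r⁻¹ = y⁻¹ := eq_inv_of_mul_eq_one_left A.ry
    have h24 : y⁻¹ * Z * y = μ.val 24 := by rw [mul_assoc, ← hy24]; group
    calc r * μ.val 374 * (Z * y) * (r * μ.val 374)⁻¹ * (Z * y)
        = r * μ.val 374 * Z * (y * μ.val 374) * r⁻¹ * Z * y := by rw [mul_inv_rev, i374']; group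
      _ = r * (μ.val 374 * Z * μ.val 550) * r⁻¹ * (r * y * r⁻¹) * Z * y := by rw [hy374]; group
      _ = r * (μ.val 374 * Z * μ.val 550) * r⁻¹ * (y⁻¹ * Z * y) := by rw [hr]; group
      _ = 1 := by
          rw [h24, hZ, ← μ.mul _ _ (by norm_num) (by norm_num),
            ← μ.mul _ _ (cMul_lt (by norm_num) (by norm_num)) (by norm_num),
            ← μ.val_conj hε (by norm_num) (cMul_lt (cMul_lt (by norm_num) (by norm_num)) (by norm_num)),
            ← μ.mul _ _ (cConj_lt hε (by norm_num) (cMul_lt (cMul_lt (by norm_num) (by norm_num)) (by norm_num)))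
              (by norm_num), w2, μ.val_one]
  · -- in the local subgroup
    show μ.val (swapC p) ∈ L.M
    have hm : ∀ x ∈ e0, μ.val x ∈ L.M := L.val_mem
    simp only [List.mem_cons, List.not_mem_nil, or_false] at hp
    rcases hp with rfl | rfl | rfl | rfl
    · rw [s22, μ.mul _ _ (by norm_num) (by norm_num)]; exact mul_mem (A.mem_M 22 (by simp)) (hm 374 (by decide))
    · rw [s300]; exact A.mem_M 300 (by simp)
    · rw [s1, μ.mul _ _ (by norm_num) (by norm_num)]; exact mul_mem (A.mem_M 1 (by simp)) (hm 174 (by decide))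
    · rw [s7, μ.mul _ _ (by norm_num) (by norm_num)]; exact mul_mem (A.mem_M 7 (by simp)) (hm 0 (by decide))
  · -- the fourth power
    show (μ.val (swapC 300) * y') ^ 4 = μ.val (swapC 574)
    rw [s300, s574]
    set u := μ.val 300
    have hu : u * z = z * u := μ.comm_z (by norm_num)
    set v := u * y with hv
    have step : ∀ x ∈ e0, v * μ.val x * v⁻¹ = μ.val (cConj 0 300 (img 0 alGens x)) := fun x hx => by
      rw [μ.val_conj hε (by norm_num) (le _ (hw0 x hx).2), ← hy0 x hx, hv, show u = μ.val 300 from rfl]; group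
    have c300 : ∀ x ∈ e0, cConj 0 300 (img 0 alGens x) ∈ e0 := by decide +kernel
    have m1 := c300 174 (by decide)
    have m2 := c300 _ m1
    have m3 := c300 _ m2
    rw [i174] at m1
    have e1 := step 174 (by decide)
    rw [i174, ← hZ] at e1
    have e2 := step _ m1
    have e3 := step _ (c300 _ m1)
    have hm := congrArg μ.val w5
    rw [μ.mul _ _ (cMul_lt (cMul_lt (by norm_num) (le _ m1)) (le _ (c300 _ m1))) (le _ (c300 _ (c300 _ m1))),
      μ.mul _ _ (cMul_lt (by norm_num) (le _ m1)) (le _ (c300 _ m1)), μ.mul _ _ (by norm_num) (le _ m1),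
      μ.val_one, ← e3, ← e2, ← e1, ← hZ] at hm
    calc (u * y') ^ 4 = (Z * v) ^ 4 := by
          rw [hy', hZz, hv, ← mul_assoc, hu, mul_assoc]
      _ = Z * (v * Z * v⁻¹) * (v * (v * Z * v⁻¹) * v⁻¹) * (v * (v * (v * Z * v⁻¹) * v⁻¹) * v⁻¹) * v ^ 4 := by
          rw [show (Z * v) ^ 4 = Z * v * (Z * v) * (Z * v) * (Z * v) by simp [pow_succ, mul_assoc],
            show v ^ 4 = v * v * v * v by simp [pow_succ, mul_assoc]]
          group
      _ = μ.val 574 := by rw [hm, one_mul, hv, A.uy, ht]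

end CfsgLib.Recog.GTwoThree
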