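import Mathlib
import Cfsg.Agent.Lib.Recog.GTwoThree.Cert0
import Cfsg.Agent.Lib.Recog.GTwoThree.Cert1
import Cfsg.Agent.Lib.Recog.GTwoThree.Cert2
import Cfsg.Agent.Lib.Recog.GTwoThree.Cert3
import Cfsg.Agent.Lib.Recog.GTwoThree.Cert4
import Cfsg.Agent.Lib.Recog.GTwoThree.Cert5
import Cfsg.Agent.Lib.Recog.GTwoThree.Cert6
import Cfsg.Agent.Lib.Recog.GTwoThree.Cert7
import Cfsg.Agent.Lib.Recog.GTwoThree.Cert9
import Cfsg.Agent.Lib.Recog.GTwoThree.Cert10
import Cfsg.Agent.Lib.Recog.GTwoThree.Cert11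
import Cfsg.Agent.Lib.Recog.GTwoThree.Cert150
import Cfsg.Agent.Lib.Recog.GTwoThree.Identify
import Cfsg.Agent.Lib.Recog.GTwoThree.Swap
import Cfsg.Agent.Lib.Recog.GTwoThree.Extra

/-!
The twelve cases for the element of order three, and the subgroup isomorphic to the table group
(owner: helper23).
-/

set_option autoImplicit false
set_option maxRecDepth 100000

namespace CfsgLib.Recog.GTwoThree

open Check

/-- The twelve possible elements, up to inversion. -/
def xList : List ℕ := [148, 170, 196, 198, 218, 232, 236, 292, 294, 314, 328, 332]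

theorem xList_cover : ((List.range 576).all fun x =>
    !(!Nat.beq x 150 && Nat.beq (cMul 0 (cMul 0 x x) x) 150 &&
      Nat.beq (cConj 0 145 x) (cInv 0 x)) ||
    (xList.any (Nat.beq x) || xList.any (Nat.beq (cInv 0 x)))) = true := by decide +kernel

theorem conjugator_codes : cConj 0 52 0 = 566 ∧ img 0 alGens 566 = 151 ∧
    cConj 0 52 358 = 24 ∧ img 0 alGens 24 = 174 ∧ img 0 alGens 145 = 358 ∧
    (566 : ℕ) ∈ wSet ∧ (24 : ℕ) ∈ wSet ∧ (145 : ℕ) ∈ wSet := by decide +kernel

variable {G : Type*} [Group G] [Finite G] {z : G} {μ : Model z 0} {L : Local μ} (A : Amal μ L)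

/-- The fourth power of `u y` is not trivial. -/
theorem amal_t : A.t = 574 := by
  rcases A.ht with ht | ht
  swap
  · exact ht
  exfalso
  set a := letter μ A.y 1 with ha
  have hrels : ∀ r ∈ allRels (rels150.map Rel.word), wval a r = 1 :=
    allRels_one a (letter_flip μ A.y 1) fun r hr => by
      obtain ⟨R, hR, rfl⟩ := List.mem_map.1 hr
      exact rel_one μ A.y 1 A rfl R (ht.symm ▸ List.all_eq_true.1 facts150 R hR)
  obtain ⟨v, v0, hv⟩ := cert_sound a (letter_flip μ A.y 1) (letter_empty μ A.y 1)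
    (Subgroup.zpowers A.y) tree150 _ hrels [10]
    (fun x hx => by
      rw [List.mem_singleton] at hx
      subst hx
      rw [show a 10 = A.y by simp [ha, letter]]
      exact Subgroup.mem_zpowers _) steps150 run150
  have h := hv _ _ _ _ goal150
  rw [v0, one_mul, inv_one, mul_one] at h
  have hz : wval a [4, 4] = z := by
    rw [(wval_small μ A.y 1 (w := [4, 4]) (by decide)).2,
      show hEval [4, 4] = 174 from by decide +kernel, μ.val_z]
  rw [hz] at h
  obtain ⟨n, hn⟩ := h
  change A.y ^ n = z at hn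
  have z2 : z * z = 1 := by
    rw [← μ.val_z, ← μ.mul _ _ (by norm_num) (by norm_num),
      show cMul 0 174 174 = 150 from by decide +kernel, μ.val_one]
  have z3 : z ^ (3 : ℕ) = 1 := by
    rw [← hn, ← zpow_natCast, zpow_comm, zpow_natCast, A.y_cube, one_zpow]
  rw [pow_succ, pow_two, z2, one_mul] at z3
  have := μ.inj 174 150 (by norm_num) (by norm_num) (by rw [μ.val_z, μ.val_one, z3])
  norm_num at this

/-- A completed collapse is absurd. -/
theorem collapse {b : G} {x : ℕ} (ht : A.t = 574) (e : Extra μ A.y b x) {rels : List Rel}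
    {xw : List ℕ} (hf : rels.all (Rel.ok 574) = true ∧ allSmall xw = true ∧ hEval xw = x)
    {T : Tree} {steps : List ℕ} {j c : ℕ}
    (hrun : run T (allRels (rels.map Rel.word ++ bRels xw)) [0, 2, 6, 8, 12] steps 0 1 = some (j, c))
    {es : List ℕ} (hgoal : walk T j es 0 [10] 0 = true) : False := by
  set a := letter μ A.y b with ha
  have hrels : ∀ r ∈ allRels (rels.map Rel.word ++ bRels xw), wval a r = 1 := by
    refine allRels_one a (letter_flip μ A.y b) fun r hr => ?_
    rcases List.mem_append.1 hr with hr | hr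
    · obtain ⟨R, hR, rfl⟩ := List.mem_map.1 hr
      exact rel_one μ A.y b A rfl R (ht.symm ▸ List.all_eq_true.1 hf.1 R hR)
    · exact bRels_one μ A.y b e hf.2.1 hf.2.2 r hr
  obtain ⟨v, v0, hv⟩ := cert_sound a (letter_flip μ A.y b) (letter_empty μ A.y b)
    (fixGroup A b) T _ hrels [0, 2, 6, 8, 12]
    (fun u hu => Subgroup.subset_closure ⟨u, hu, rfl⟩) steps hrun
  have h := hv _ _ _ _ hgoal
  rw [v0, one_mul, inv_one, mul_one, wval_cons, wval_nil, mul_one,
    show a 10 = A.y by simp [ha, letter]] at h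
  exact fix_absurd A e.c1 h (y_conj_z A)

theorem extra_case {b : G} {x : ℕ} (ht : A.t = 574) (e : Extra μ A.y b x) (hx : x ∈ xList) :
    ∃ G₀ : Subgroup G, (∀ p < 576, μ.val p ∈ G₀) ∧ Nonempty (G₀ ≃* tableGroup) := by
  simp only [xList, List.mem_cons, List.not_mem_nil, or_false] at hx
  rcases hx with rfl | rfl | rfl | rfl | rfl | rfl | rfl | rfl | rfl | rfl | rfl | rfl
  · exact (collapse A ht e facts0 run0 goal0).elim
  · exact (collapse A ht e facts1 run1 goal1).elim
  · exact (collapse A ht e facts2 run2 goal2).elim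
  · exact (collapse A ht e facts3 run3 goal3).elim
  · exact (collapse A ht e facts4 run4 goal4).elim
  · exact (collapse A ht e facts5 run5 goal5).elim
  · exact (collapse A ht e facts6 run6 goal6).elim
  · exact (collapse A ht e facts7 run7 goal7).elim
  · exact exists_table_iso A ht e
  · exact (collapse A ht e facts9 run9 goal9).elim
  · exact (collapse A ht e facts10 run10 goal10).elim
  · exact (collapse A ht e facts11 run11 goal11).elim

/-- An element of order three centralising `val 151` gives the table group. -/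
theorem of_extra (ht : A.t = 574) {b : G} (h1 : b ≠ 1) (h3 : b ^ 3 = 1)
    (hinv : z * b * z⁻¹ = b⁻¹) (hc1 : b * μ.val 294 = μ.val 294 * b)
    (hc2 : b * μ.val 156 = μ.val 156 * b) (hs : b * μ.val 151 = μ.val 151 * b) :
    ∃ G₀ : Subgroup G, (∀ p < 576, μ.val p ∈ G₀) ∧ Nonempty (G₀ ≃* tableGroup) := by
  have hε : (0 : ℕ) < 2 := by norm_num
  obtain ⟨k1, k2, k3, k4, k5, w566, w24, w145⟩ := conjugator_codes
  have hact : ∀ v ∈ wSet, A.y * μ.val v * A.y⁻¹ = μ.val (img 0 alGens v) := fun v hv =>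
    (act_img hε μ (A := alGens) (by decide) A.act hv).2
  set g := A.y * μ.val 52 * A.y with hg
  have gz : g * z * g⁻¹ = μ.val 151 := by
    rw [← k2, ← hact 566 w566, ← k1, μ.val_conj hε (by norm_num) (by norm_num), ← y_conj_z A, hg]
    group
  have gv : g * μ.val 145 * g⁻¹ = z := by
    have h24 := hact 24 w24
    rw [k4, μ.val_z] at h24
    have h145 := hact 145 w145
    rw [k5] at h145
    refine Eq.trans ?_ h24
    rw [← k3, μ.val_conj hε (by norm_num) (by norm_num), ← h145, hg]
    group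
  have hxz : g⁻¹ * b * g * z = z * (g⁻¹ * b * g) := by
    calc g⁻¹ * b * g * z = g⁻¹ * (b * (g * z * g⁻¹)) * g := by group
      _ = g⁻¹ * ((g * z * g⁻¹) * b) * g := by rw [gz, hs]
      _ = _ := by group
  obtain ⟨x, hx, hxv⟩ := (μ.mem _).1 hxz
  have hb : b = g * μ.val x * g⁻¹ := by rw [hxv]; group
  have c3 : cMul 0 (cMul 0 x x) x = 150 := by
    refine μ.inj _ _ (cMul_lt (cMul_lt hx hx) hx) (by norm_num) ?_
    rw [μ.mul _ _ (cMul_lt hx hx) hx, μ.mul _ _ hx hx, μ.val_one, hxv]
    calc g⁻¹ * b * g * (g⁻¹ * b * g) * (g⁻¹ * b * g) = g⁻¹ * (b * b * b) * g := by group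
      _ = 1 := by rw [show b * b * b = 1 by rw [← h3, pow_succ, pow_two]]; group
  have cinv : cConj 0 145 x = cInv 0 x := by
    refine μ.inj _ _ (cConj_lt hε (by norm_num) hx) (cInv_lt hε hx).1 ?_
    rw [μ.val_conj hε (by norm_num) hx, μ.val_inv hε hx, hxv]
    calc μ.val 145 * (g⁻¹ * b * g) * (μ.val 145)⁻¹ =
          g⁻¹ * ((g * μ.val 145 * g⁻¹) * b * (g * μ.val 145 * g⁻¹)⁻¹) * g := by group
      _ = _ := by rw [gv, hinv]; group
  have hne : x ≠ 150 := fun h => h1 (by rw [hb, h, μ.val_one]; group)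
  have hc := List.all_eq_true.1 xList_cover x (List.mem_range.2 hx)
  simp only [Bool.or_eq_true, Bool.not_eq_true'] at hc
  rcases hc with hc | hc | hc
  · exfalso
    rw [c3, cinv] at hc
    have hb' : Nat.beq x 150 = false := by
      cases hq : Nat.beq x 150 with
      | false => rfl
      | true => exact absurd (Nat.eq_of_beq_eq_true hq) hne
    rw [hb', show Nat.beq 150 150 = true from rfl, Nat.beq_refl] at hc
    simp at hc
  · exact extra_case A ht ⟨hx, hb, h3, hc1, hc2, hinv, hs⟩ (mem_of_any hc)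
  · refine extra_case A ht (b := b⁻¹) ⟨(cInv_lt hε hx).1, ?_, ?_, ?_, ?_, ?_, ?_⟩ (mem_of_any hc)
    · rw [hb, μ.val_inv hε hx, hg]; group
    · rw [inv_pow, h3, inv_one]
    · exact (Commute.inv_left hc1).eq
    · exact (Commute.inv_left hc2).eq
    · calc z * b⁻¹ * z⁻¹ = (z * b * z⁻¹)⁻¹ := by group
        _ = _ := by rw [hinv]
    · exact (Commute.inv_left hs).eq

end CfsgLib.Recog.GTwoThree
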