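import Mathlib

/-!
A checker for certificates of coset enumerations (owner: helper23). Nodes stand for right cosets of
a subgroup `K`; a fact `(s, d, x)` says that the letter `x` takes the coset of `s` to that of `d`,
the letter `31` standing for the empty word. Every fact is either the definition of a new node, a
generator of `K` at the node `0`, or follows from earlier facts along a relator.
-/

set_option autoImplicit false

namespace CfsgLib.Recog.GTwoThree.Check

/-- A balanced tree of packed facts, sixteen to a leaf. -/
inductive Tree where
  | leaf (v : ℕ)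
  | node (l r : Tree)

def Tree.get : Tree → ℕ → ℕ
  | .leaf v, i => (v >>> (36 * (i % 16))) % 68719476736
  | .node l r, i => bif Nat.beq (i % 2) 0 then l.get (i / 2) else r.get (i / 2)

/-- The fact with a given number: `(s, d, x)`. -/
def fact (T : Tree) (i : ℕ) : ℕ × ℕ × ℕ :=
  let v := T.get i
  (v % 32768, v / 32768 % 32768, v / 1073741824)

def flip (x : ℕ) : ℕ := bif Nat.beq x 31 then 31 else bif Nat.beq (x % 2) 0 then x + 1 else x - 1

/-- An entry `2 i + b` is the fact `i`, backwards if `b = 1`. -/
def entry (T : Tree) (e : ℕ) : ℕ × ℕ × ℕ :=
  let f := fact T (e / 2)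
  bif Nat.beq (e % 2) 0 then f else (f.2.1, f.1, flip f.2.2)

/-- The entries lead from `cur` to `d`, reading the word `w`. -/
def walk (T : Tree) (lim : ℕ) : List ℕ → ℕ → List ℕ → ℕ → Bool
  | [], cur, w, d => Nat.beq cur d && w.isEmpty
  | e :: es, cur, w, d =>
    let f := entry T e
    Nat.blt (e / 2) lim && Nat.beq f.1 cur &&
      bif Nat.beq f.2.2 31 then walk T lim es f.2.1 w d
      else match w with
        | [] => false
        | y :: w' => Nat.beq y f.2.2 && walk T lim es f.2.1 w' d

/-- Unpack a list of entries. -/
def entries : ℕ → ℕ → List ℕ
  | 0, _ => []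
  | n + 1, v => v % 32768 :: entries n (v / 32768)

/-- The word of a rule: the relator rotated, and one letter moved to the left-hand side. -/
def ruleOk (T : Tree) (i : ℕ) (rels : List (List ℕ)) (q : ℕ) : Bool :=
  let ri := q % 1024
  let k := q / 1024 % 256
  let n := q / 262144 % 256
  let es := entries n (q / 67108864)
  let r := rels.getD ri []
  let w := r.drop k ++ r.take k
  let f := fact T i
  bif Nat.beq f.2.2 31 then walk T i es f.1 w f.2.1
  else match w with
    | [] => false
    | y :: w' => Nat.beq y (flip f.2.2) && walk T i es f.1 w' f.2.1

/-- One step: `0` a new node, `1` a generator of `K`, `2 + 4 q` a rule. -/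
def step (T : Tree) (rels : List (List ℕ)) (fixd : List ℕ) (i cur q : ℕ) : Option ℕ :=
  let f := fact T i
  bif Nat.beq q 0 then
    bif Nat.blt f.1 cur && (Nat.beq f.2.1 cur && !Nat.beq f.2.2 31) then some (cur + 1) else none
  else bif Nat.beq q 1 then
    bif Nat.beq f.1 0 && (Nat.beq f.2.1 0 && fixd.any (Nat.beq f.2.2)) then some cur else none
  else
    bif Nat.blt f.1 cur && (Nat.blt f.2.1 cur && ruleOk T i rels (q / 4)) then some cur else none

def run (T : Tree) (rels : List (List ℕ)) (fixd : List ℕ) : List ℕ → ℕ → ℕ → Option (ℕ × ℕ)
  | [], i, cur => some (i, cur)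
  | q :: qs, i, cur =>
    match step T rels fixd i cur q with
    | none => none
    | some c => run T rels fixd qs (i + 1) c

theorem run_append (T : Tree) (rels : List (List ℕ)) (fixd : List ℕ) (a b : List ℕ)
    {i cur j c : ℕ} (h : run T rels fixd a i cur = some (j, c)) :
    run T rels fixd (a ++ b) i cur = run T rels fixd b j c := by
  induction a generalizing i cur with
  | nil => simp only [run, Option.some.injEq, Prod.mk.injEq] at h; rw [h.1, h.2]; rfl
  | cons q qs ih =>
    simp only [run, List.cons_append] at h ⊢
    cases hs : step T rels fixd i cur q with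
    | none => rw [hs] at h; simp at h
    | some c' => rw [hs] at h; exact ih h

variable {G : Type*} [Group G]

/-- The value of a word. -/
def wval (a : ℕ → G) (w : List ℕ) : G := (w.map a).prod

theorem wval_nil (a : ℕ → G) : wval a [] = 1 := rfl

theorem wval_cons (a : ℕ → G) (x : ℕ) (w : List ℕ) : wval a (x :: w) = a x * wval a w := by
  simp [wval]

theorem wval_append (a : ℕ → G) (v w : List ℕ) : wval a (v ++ w) = wval a v * wval a w := by
  simp [wval]

/-- A fact holds. -/
def Holds (a : ℕ → G) (K : Subgroup G) (v : ℕ → G) (f : ℕ × ℕ × ℕ) : Prop :=
  v f.1 * a f.2.2 * (v f.2.1)⁻¹ ∈ K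

theorem walk_sound (a : ℕ → G) (ha : ∀ x, a (flip x) = (a x)⁻¹) (he : a 31 = 1) (K : Subgroup G)
    (T : Tree) (lim : ℕ) (v : ℕ → G) (h : ∀ i < lim, Holds a K v (fact T i)) :
    ∀ (es : List ℕ) (cur : ℕ) (w : List ℕ) (d : ℕ), walk T lim es cur w d = true →
      v cur * wval a w * (v d)⁻¹ ∈ K := by
  intro es
  induction es with
  | nil =>
    intro cur w d hw
    simp only [walk, Bool.and_eq_true, List.isEmpty_iff] at hw
    rw [Nat.eq_of_beq_eq_true hw.1, hw.2, wval_nil]
    simp
  | cons e es ih =>
    intro cur w d hw
    simp only [walk, Bool.and_eq_true] at hw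
    obtain ⟨⟨hlt, hcur⟩, hw⟩ := hw
    have hlt' : e / 2 < lim := of_decide_eq_true (by simpa [Nat.blt_eq] using hlt)
    have hf : v (entry T e).1 * a (entry T e).2.2 * (v (entry T e).2.1)⁻¹ ∈ K := by
      have h0 := h _ hlt'
      unfold entry
      cases hb : Nat.beq (e % 2) 0 with
      | true => exact h0
      | false =>
        simp only [cond_false]
        rw [ha]
        have := inv_mem h0
        simpa [Holds, mul_assoc] using this
    rw [Nat.eq_of_beq_eq_true hcur] at hf
    cases hx : Nat.beq (entry T e).2.2 31 with
    | true =>
      rw [hx, cond_true] at hw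
      rw [Nat.eq_of_beq_eq_true hx, he, mul_one] at hf
      have := mul_mem hf (ih _ _ _ hw)
      simpa [mul_assoc] using this
    | false =>
      rw [hx, cond_false] at hw
      cases w with
      | nil => simp at hw
      | cons y w' =>
        simp only [Bool.and_eq_true] at hw
        rw [Nat.eq_of_beq_eq_true hw.1, wval_cons]
        have := mul_mem hf (ih _ _ _ hw.2)
        simpa [mul_assoc] using this

/-- A certificate read in a group: the values of the nodes. -/
theorem run_sound (a : ℕ → G) (ha : ∀ x, a (flip x) = (a x)⁻¹) (he : a 31 = 1) (K : Subgroup G)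
    (T : Tree) (rels : List (List ℕ)) (hrels : ∀ r ∈ rels, wval a r = 1)
    (fixd : List ℕ) (hfix : ∀ x ∈ fixd, a x ∈ K) :
    ∀ (qs : List ℕ) (i cur j c : ℕ) (v : ℕ → G), v 0 = 1 → 0 < cur →
      (∀ k < i, Holds a K v (fact T k) ∧ (fact T k).1 < cur ∧ (fact T k).2.1 < cur) →
      run T rels fixd qs i cur = some (j, c) →
      ∃ v' : ℕ → G, v' 0 = 1 ∧ ∀ k < j, Holds a K v' (fact T k) := by
  intro qs
  induction qs with
  | nil =>
    intro i cur j c v h0 _ h hr
    simp only [run, Option.some.injEq, Prod.mk.injEq] at hr
    exact ⟨v, h0, fun k hk => (h k (hr.1 ▸ hk)).1⟩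
  | cons q qs ih =>
    intro i cur j c v h0 hcur h hr
    simp only [run] at hr
    cases hs : step T rels fixd i cur q with
    | none => rw [hs] at hr; simp at hr
    | some c' =>
      rw [hs] at hr
      simp only [step] at hs
      cases hq0 : Nat.beq q 0 with
      | true =>
        rw [hq0, cond_true] at hs
        cases hb : (Nat.blt (fact T i).1 cur && (Nat.beq (fact T i).2.1 cur && !Nat.beq (fact T i).2.2 31)) with
        | false => rw [hb] at hs; simp at hs
        | true =>
          rw [hb, cond_true, Option.some.injEq] at hs
          simp only [Bool.and_eq_true] at hb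
          obtain ⟨h1, h2, -⟩ := hb
          have h1' : (fact T i).1 < cur := of_decide_eq_true (by simpa [Nat.blt_eq] using h1)
          have h2' := Nat.eq_of_beq_eq_true h2
          refine ih (i + 1) c' j c (Function.update v cur (v (fact T i).1 * a (fact T i).2.2))
            (by rw [Function.update_of_ne (by omega)]; exact h0) (by omega) ?_ hr
          intro k hk
          rcases Nat.lt_succ_iff_lt_or_eq.1 hk with hk | rfl
          · obtain ⟨hh, e1, e2⟩ := h k hk
            refine ⟨?_, by omega, by omega⟩
            unfold Holds
            rw [Function.update_of_ne (by omega), Function.update_of_ne (by omega)]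
            exact hh
          · refine ⟨?_, by omega, by omega⟩
            unfold Holds
            rw [h2', Function.update_self, Function.update_of_ne (by omega)]
            simp
      | false =>
        rw [hq0, cond_false] at hs
        cases hq1 : Nat.beq q 1 with
        | true =>
          rw [hq1, cond_true] at hs
          cases hb : (Nat.beq (fact T i).1 0 && (Nat.beq (fact T i).2.1 0 && fixd.any (Nat.beq (fact T i).2.2))) with
          | false => rw [hb] at hs; simp at hs
          | true =>
            rw [hb, cond_true, Option.some.injEq] at hs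
            subst hs
            simp only [Bool.and_eq_true, List.any_eq_true] at hb
            obtain ⟨h1, h2, x, hx, h3⟩ := hb
            refine ih (i + 1) cur j c v h0 hcur ?_ hr
            intro k hk
            rcases Nat.lt_succ_iff_lt_or_eq.1 hk with hk | rfl
            · exact h k hk
            · rw [Nat.eq_of_beq_eq_true h1, Nat.eq_of_beq_eq_true h2]
              refine ⟨?_, hcur, hcur⟩
              unfold Holds
              rw [Nat.eq_of_beq_eq_true h1, Nat.eq_of_beq_eq_true h2, h0,
                Nat.eq_of_beq_eq_true h3, one_mul, inv_one, mul_one]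
              exact hfix x hx
        | false =>
          rw [hq1, cond_false] at hs
          cases hb : (Nat.blt (fact T i).1 cur && (Nat.blt (fact T i).2.1 cur && ruleOk T i rels (q / 4))) with
          | false => rw [hb] at hs; simp at hs
          | true =>
            rw [hb, cond_true, Option.some.injEq] at hs
            subst hs
            simp only [Bool.and_eq_true] at hb
            obtain ⟨h1, h2, h3⟩ := hb
            refine ih (i + 1) cur j c v h0 hcur ?_ hr
            intro k hk
            rcases Nat.lt_succ_iff_lt_or_eq.1 hk with hk | rfl
            · exact h k hk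
            · refine ⟨?_, of_decide_eq_true (by simpa [Nat.blt_eq] using h1),
                of_decide_eq_true (by simpa [Nat.blt_eq] using h2)⟩
              simp only [ruleOk] at h3
              generalize hr' : rels.getD (q / 4 % 1024) [] = r at h3
              generalize hk' : q / 4 / 1024 % 256 = m at h3
              have hrot : wval a (r.drop m ++ r.take m) = 1 := by
                have hr1 : wval a r = 1 := by
                  rw [← hr']
                  by_cases hlen : q / 4 % 1024 < rels.length
                  · rw [List.getD_eq_getElem _ _ hlen]; exact hrels _ (List.getElem_mem hlen)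
                  · rw [List.getD_eq_default _ _ (by omega)]; rfl
                rw [wval_append]
                rw [← List.take_append_drop m r, wval_append] at hr1
                exact mul_eq_one_comm.1 hr1
              unfold Holds
              cases hx : Nat.beq (fact T k).2.2 31 with
              | true =>
                rw [hx, cond_true] at h3
                have := walk_sound a ha he K T k v (fun u hu => (h u hu).1) _ _ _ _ h3
                rw [hrot, mul_one] at this
                rwa [Nat.eq_of_beq_eq_true hx, he, mul_one]
              | false =>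
                rw [hx, cond_false] at h3
                generalize r.drop m ++ r.take m = w at h3 hrot
                cases w with
                | nil => simp at h3
                | cons y w' =>
                  simp only [Bool.and_eq_true] at h3
                  have := walk_sound a ha he K T k v (fun u hu => (h u hu).1) _ _ _ _ h3.2
                  rw [wval_cons, Nat.eq_of_beq_eq_true h3.1, ha] at hrot
                  rwa [← inv_mul_eq_one.1 hrot] at this

/-- The conclusions drawn from a checked certificate. -/
theorem cert_sound (a : ℕ → G) (ha : ∀ x, a (flip x) = (a x)⁻¹) (he : a 31 = 1) (K : Subgroup G)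
    (T : Tree) (rels : List (List ℕ)) (hrels : ∀ r ∈ rels, wval a r = 1)
    (fixd : List ℕ) (hfix : ∀ x ∈ fixd, a x ∈ K) (qs : List ℕ) {j c : ℕ}
    (hr : run T rels fixd qs 0 1 = some (j, c)) :
    ∃ v : ℕ → G, v 0 = 1 ∧ ∀ es s w d, walk T j es s w d = true →
      v s * wval a w * (v d)⁻¹ ∈ K := by
  obtain ⟨v, h0, h⟩ := run_sound a ha he K T rels hrels fixd hfix qs 0 1 j c (fun _ => 1) rfl
    (by norm_num) (fun k hk => absurd hk (Nat.not_lt_zero k)) hr
  exact ⟨v, h0, walk_sound a ha he K T j v h⟩

end CfsgLib.Recog.GTwoThree.Check
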