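import Mathlib
import Cfsg.Agent.Lib.Known.G2Three

/-!
Elements of `G₂(3)` for the letters of the enumeration, and words for the root elements in them
(owner: helper23; written by a script).
-/

set_option autoImplicit false
set_option maxRecDepth 100000

namespace CfsgLib.Recog.GTwoThree

open CfsgLib.Known.G2Three

/-- The words in the root elements of the fourteen letters. -/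
def chevWords : List (List (ℕ × ℕ)) := [[(9, 1)], [(9, 2)], [(3, 2), (11, 1), (3, 1)], [(3, 2), (11, 2), (3, 1)], [(9, 1), (1, 1), (9, 1), (7, 1), (1, 2)], [(1, 1), (7, 2), (9, 2), (1, 2), (9, 2)], [(6, 1), (7, 1), (5, 1), (10, 2), (9, 2)], [(9, 1), (10, 1), (5, 2), (7, 2), (6, 2)], [(11, 1), (4, 2), (9, 2), (7, 2), (4, 2), (5, 1)], [(5, 2), (4, 1), (7, 1), (9, 1), (4, 1), (11, 2)], [(1, 2), (5, 2), (11, 1), (4, 2), (5, 1), (0, 2)], [(0, 1), (5, 2), (4, 1), (11, 2), (5, 1), (1, 1)], [(9, 2), (7, 2)], [(7, 1), (9, 1)]]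

/-- The words in the letters of the twelve root elements. -/
def rootWords : List (List ℕ) := [[0, 2, 13, 5, 10, 12, 2, 11], [0, 13, 7, 2, 11, 12, 3, 11], [1, 13, 10, 0, 11, 12, 0], [4, 10, 12, 5, 13, 0, 11, 5], [1, 13, 10, 12, 11, 12, 0], [13, 11, 13, 10, 5, 2, 0, 11], [2, 12, 7, 2, 12, 7, 12, 1], [1, 13], [3, 7, 12, 6, 2], [0], [10, 2, 10, 3, 11, 6, 12, 4], [13, 11, 3, 4, 12, 1, 10, 3]]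

/-- The matrices of the letters. -/
def letterMats : List (Matrix (Fin 7) (Fin 7) Z3) := [
  Matrix.of ![![1, 2, 0, 0, 0, 0, 0], ![0, 1, 0, 0, 0, 0, 0], ![0, 0, 1, 0, 0, 0, 0], ![0, 0, 0, 1, 0, 0, 0], ![0, 0, 1, 0, 1, 0, 0], ![0, 0, 0, 2, 0, 1, 0], ![2, 2, 0, 0, 0, 0, 1]],
  Matrix.of ![![1, 1, 0, 0, 0, 0, 0], ![0, 1, 0, 0, 0, 0, 0], ![0, 0, 1, 0, 0, 0, 0], ![0, 0, 0, 1, 0, 0, 0], ![0, 0, 2, 0, 1, 0, 0], ![0, 0, 0, 1, 0, 1, 0], ![1, 2, 0, 0, 0, 0, 1]],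
  Matrix.of ![![1, 1, 0, 1, 0, 0, 0], ![0, 1, 0, 0, 0, 0, 0], ![0, 2, 1, 2, 0, 0, 0], ![0, 0, 0, 1, 0, 0, 0], ![1, 0, 2, 0, 1, 1, 0], ![0, 1, 0, 1, 0, 1, 0], ![1, 0, 2, 0, 0, 1, 1]],
  Matrix.of ![![1, 2, 0, 2, 0, 0, 0], ![0, 1, 0, 0, 0, 0, 0], ![0, 1, 1, 1, 0, 0, 0], ![0, 0, 0, 1, 0, 0, 0], ![2, 0, 1, 0, 1, 2, 0], ![0, 2, 0, 2, 0, 1, 0], ![2, 0, 1, 0, 0, 2, 1]],
  Matrix.of ![![0, 2, 2, 2, 0, 0, 2], ![1, 0, 1, 2, 1, 0, 2], ![0, 2, 1, 0, 1, 0, 0], ![1, 1, 0, 2, 2, 2, 1], ![1, 1, 2, 2, 0, 0, 2], ![2, 2, 0, 0, 1, 2, 1], ![0, 0, 2, 2, 2, 1, 0]],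
  Matrix.of ![![0, 0, 1, 2, 2, 0, 2], ![1, 0, 1, 2, 1, 0, 2], ![0, 1, 2, 0, 2, 0, 0], ![0, 2, 1, 0, 2, 1, 1], ![1, 2, 0, 2, 2, 0, 2], ![1, 2, 0, 2, 0, 1, 1], ![1, 0, 2, 1, 1, 2, 0]],
  Matrix.of ![![1, 1, 0, 1, 0, 0, 0], ![0, 1, 0, 0, 0, 0, 0], ![0, 2, 1, 2, 0, 0, 0], ![0, 1, 2, 2, 0, 0, 0], ![1, 0, 2, 0, 1, 1, 0], ![1, 0, 2, 1, 1, 2, 0], ![1, 2, 0, 2, 0, 1, 1]],
  Matrix.of ![![1, 2, 2, 2, 0, 0, 0], ![0, 1, 0, 0, 0, 0, 0], ![0, 1, 2, 1, 0, 0, 0], ![0, 0, 1, 1, 0, 0, 0], ![2, 2, 1, 0, 2, 2, 0], ![0, 0, 2, 2, 2, 1, 0], ![2, 2, 0, 0, 1, 2, 1]],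
  Matrix.of ![![1, 0, 2, 2, 0, 0, 0], ![0, 2, 0, 0, 0, 0, 0], ![0, 1, 2, 1, 0, 0, 0], ![0, 2, 0, 1, 0, 0, 0], ![1, 2, 1, 1, 1, 1, 0], ![1, 0, 1, 1, 0, 2, 0], ![0, 1, 0, 2, 2, 1, 2]],
  Matrix.of ![![1, 0, 2, 2, 0, 0, 0], ![0, 2, 0, 0, 0, 0, 0], ![0, 1, 2, 1, 0, 0, 0], ![0, 2, 0, 1, 0, 0, 0], ![1, 2, 1, 1, 1, 1, 0], ![1, 0, 1, 1, 0, 2, 0], ![0, 1, 0, 2, 2, 1, 2]],
  Matrix.of ![![1, 0, 0, 0, 1, 1, 0], ![0, 2, 2, 1, 2, 1, 1], ![1, 0, 1, 0, 2, 2, 1], ![1, 0, 2, 2, 2, 2, 0], ![0, 2, 2, 1, 1, 1, 0], ![0, 1, 1, 2, 0, 0, 0], ![0, 0, 2, 1, 0, 0, 0]],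
  Matrix.of ![![1, 0, 0, 0, 2, 2, 0], ![0, 0, 0, 0, 0, 1, 1], ![2, 0, 0, 1, 2, 2, 1], ![2, 0, 0, 1, 2, 2, 2], ![0, 1, 2, 1, 2, 0, 1], ![0, 2, 1, 2, 2, 1, 2], ![0, 0, 1, 2, 0, 0, 2]],
  Matrix.of ![![1, 1, 0, 2, 0, 0, 0], ![0, 1, 0, 0, 0, 0, 0], ![0, 1, 1, 0, 0, 0, 0], ![0, 0, 0, 1, 0, 0, 0], ![2, 2, 2, 2, 1, 0, 0], ![0, 0, 0, 1, 0, 1, 0], ![1, 2, 0, 2, 0, 2, 1]],
  Matrix.of ![![1, 2, 0, 1, 0, 0, 0], ![0, 1, 0, 0, 0, 0, 0], ![0, 2, 1, 0, 0, 0, 0], ![0, 0, 0, 1, 0, 0, 0], ![1, 2, 1, 2, 1, 0, 0], ![0, 0, 0, 2, 0, 1, 0], ![2, 2, 0, 2, 0, 1, 1]]]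

end CfsgLib.Recog.GTwoThree
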