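import Mathlib
import Cfsg.Agent.Lib.Recog.GTwoThree.ChevData
import Cfsg.Agent.Lib.Recog.GTwoThree.Identify

/-!
`G₂(3)` is the table group (owner: helper23).
-/

set_option autoImplicit false
set_option maxRecDepth 100000

namespace CfsgLib.Recog.GTwoThree

open Check
open CfsgLib.Known.G2Three
open Cfsg.Lie
open CfsgLib.Lie.Chev

/-- The value of a word in root elements. -/
def rootVal (w : List (ℕ × ℕ)) : Known.G2Three.G :=
  (w.map fun p => xG certG2 Z3 p.1 1 ^ p.2).prod

/-- Its matrix. -/
def rootMat (w : List (ℕ × ℕ)) : Matrix (Fin 7) (Fin 7) Z3 :=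
  (w.map fun p => ((chevG2.x Z3 p.1 1).submatrix shortIdx shortIdx) ^ p.2).prod

/-- The letters in `G₂(3)`. -/
def chevLetter (x : ℕ) : Known.G2Three.G := rootVal (chevWords.getD x [])

def chevMat (x : ℕ) : Matrix (Fin 7) (Fin 7) Z3 := letterMats.getD x 1

theorem rho_rootVal (w : List (ℕ × ℕ)) : rho (rootVal w) = rootMat w := by
  rw [rootVal, map_list_prod, rootMat, List.map_map]
  congr 1
  refine List.map_congr_left fun p _ => ?_
  simp only [Function.comp, map_pow, rho_gen]

theorem chevWords_ok : ∀ x < 14, rootMat (chevWords.getD x []) = chevMat x := by decide +kernel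

theorem chev_inv : ∀ x < 14, chevMat x * chevMat (Check.flip x) = 1 := by decide +kernel

theorem chev_rels : ∀ w ∈ rels8.map Rel.word ++ bRels xWord8,
    (w.map chevMat).prod = 1 := by decide +kernel

theorem chev_fix : (∀ x ∈ fixLetters, chevMat x * chevMat 0 * chevMat (Check.flip x) = chevMat 0 ∨
      chevMat x * chevMat 0 * chevMat (Check.flip x) = chevMat 1) ∧
    chevMat 10 * chevMat 0 * chevMat 11 ≠ chevMat 0 ∧
    chevMat 10 * chevMat 0 * chevMat 11 ≠ chevMat 1 ∧
    chevMat 10 * chevMat 0 * chevMat 11 ≠ 1 ∧
    chevMat 0 * chevMat 0 * chevMat 0 = 1 := by decide +kernel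

theorem root_words : ∀ r < 12, ∀ t : Z3, (chevG2.x Z3 r t).submatrix shortIdx shortIdx =
    ((rootWords.getD r []).map chevMat).prod ^ t.val := by decide +kernel

theorem rho_letter (x : ℕ) : rho (chevLetter x) = chevMat x := by
  by_cases hx : x < 14
  · rw [chevLetter, rho_rootVal, chevWords_ok x hx]
  · rw [chevLetter, chevMat, List.getD_eq_default _ _ (by simp [chevWords]; omega),
      List.getD_eq_default _ _ (by simp [letterMats]; omega)]
    exact map_one rho

attribute [local irreducible] chevLetter rootVal chevMat tableGroup

set_option maxHeartbeats 1000000 in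
theorem chev_table_iso : Nonempty (Known.G2Three.G ≃* tableGroup) := by
  have ha : ∀ x, chevLetter (Check.flip x) = (chevLetter x)⁻¹ := by
    intro x
    by_cases hx : x < 14
    · refine eq_inv_of_mul_eq_one_right (rho_injective ?_)
      rw [map_mul, map_one, rho_letter, rho_letter, chev_inv x hx]
    · have hf : 14 ≤ Check.flip x := by
        by_contra h
        have hff : Check.flip (Check.flip x) = x := by
          unfold Check.flip
          cases h31 : Nat.beq x 31 with
          | true => simp [Nat.eq_of_beq_eq_true h31]
          | false =>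
            cases hp : Nat.beq (x % 2) 0 with
            | true =>
              simp only [cond_true, cond_false]
              have h0 := Nat.eq_of_beq_eq_true hp
              exfalso
              unfold Check.flip at h
              rw [h31, hp] at h
              simp only [cond_true, cond_false] at h
              omega
            | false =>
              exfalso
              have h0 : x % 2 ≠ 0 := fun h' => by rw [h'] at hp; simp at hp
              unfold Check.flip at h
              rw [h31, hp] at h
              simp only [cond_false] at h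
              omega
        have := flip_lt (show Check.flip x < 14 by omega)
        omega
      have h1 : ∀ u, 14 ≤ u → chevLetter u = 1 := fun u hu => rho_injective (by
        rw [rho_letter, map_one, chevMat,
          List.getD_eq_default _ _ (by simp [letterMats]; omega)])
      rw [h1 _ hf, h1 x (by omega), inv_one]
  have h14 : ∀ x, 14 ≤ x → chevLetter x = 1 := fun x hx => rho_injective (by
    rw [rho_letter, map_one, chevMat, List.getD_eq_default _ _ (by simp [letterMats]; omega)])
  have wv : ∀ w, rho (wval chevLetter w) = (w.map chevMat).prod := fun w => by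
    rw [wval, map_list_prod, List.map_map]
    congr 1
    exact List.map_congr_left fun x _ => rho_letter x
  have hrels : ∀ r ∈ allRels (rels8.map Rel.word ++ bRels xWord8), wval chevLetter r = 1 :=
    allRels_one chevLetter ha fun r hr => rho_injective (by rw [wv, chev_rels r hr, map_one])
  set c := chevLetter 0 with hc
  have hy : chevLetter 10 ∉ Subgroup.closure (chevLetter '' {x | x ∈ fixLetters}) := by
    intro hy
    obtain ⟨h1, h2, h3, h4, h5⟩ := chev_fix
    have hc3 : c ^ 3 = 1 := rho_injective (by
      rw [map_pow, hc, rho_letter, map_one, pow_succ, pow_two, h5])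
    have hcases : ∀ g : Known.G2Three.G, g ∈ Subgroup.zpowers c →
        rho g = 1 ∨ rho g = chevMat 0 ∨ rho g = chevMat 1 := by
      intro g hg
      obtain ⟨n, rfl⟩ := Subgroup.mem_zpowers_iff.1 hg
      rw [zpow_eq_zpow_emod' n hc3, show ((3 : ℕ) : ℤ) = 3 from rfl]
      have hci : rho c⁻¹ = chevMat 1 := by
        rw [hc, ← ha 0, rho_letter]; rfl
      have : n % 3 = 0 ∨ n % 3 = 1 ∨ n % 3 = 2 := by omega
      rcases this with e | e | e <;> rw [e]
      · left; rw [zpow_zero, map_one]
      · right; left; rw [zpow_one, hc, rho_letter]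
      · right; right
        rw [← hci]
        refine congrArg rho (eq_inv_of_mul_eq_one_left ?_)
        rw [show (2 : ℤ) = ((2 : ℕ) : ℤ) from rfl, zpow_natCast, ← pow_succ, hc3]
    have hN : Subgroup.closure (chevLetter '' {x | x ∈ fixLetters}) ≤
        Subgroup.normalizer (Subgroup.zpowers c : Set Known.G2Three.G) := by
      refine (Subgroup.closure_le _).2 ?_
      rintro _ ⟨x, hx, rfl⟩
      rw [SetLike.mem_coe, Subgroup.mem_normalizer_iff]
      have hx14 : x < 14 := by
        have h : ∀ x ∈ fixLetters, x < 14 := by decide
        exact h x hx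
      have hmem : chevLetter x * c * (chevLetter x)⁻¹ ∈ Subgroup.zpowers c := by
        rcases h1 x hx with e | e
        · have : chevLetter x * c * (chevLetter x)⁻¹ = c := rho_injective (by
            rw [map_mul, map_mul, ← ha, hc, rho_letter, rho_letter, rho_letter, e])
          rw [this]; exact Subgroup.mem_zpowers c
        · have : chevLetter x * c * (chevLetter x)⁻¹ = c⁻¹ := rho_injective (by
            rw [map_mul, map_mul, ← ha, hc, rho_letter, rho_letter, rho_letter, e, ← ha,
              rho_letter]
            rfl)
          rw [this]; exact inv_mem (Subgroup.mem_zpowers c)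
      let φ := MulAut.conj (chevLetter x)
      have hmap : (Subgroup.zpowers c).map φ.toMonoidHom = Subgroup.zpowers c := by
        refine Subgroup.eq_of_le_of_card_ge ?_ ?_
        · rintro _ ⟨u, ⟨n, rfl⟩, rfl⟩
          show φ (c ^ n) ∈ _
          rw [map_zpow]
          exact zpow_mem hmem n
        · exact (Nat.card_congr
            (Subgroup.equivMapOfInjective _ _ φ.injective).toEquiv).le
      intro h
      constructor
      · intro hh
        have := Subgroup.mem_map_of_mem φ.toMonoidHom hh
        rwa [hmap] at this
      · intro hh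
        rw [← hmap] at hh
        obtain ⟨u, hu, e⟩ := hh
        have : φ u = φ h := e
        rwa [← φ.injective this]
    have := ((Subgroup.mem_normalizer_iff.1 (hN hy)) c).1 (Subgroup.mem_zpowers c)
    have e : rho (chevLetter 10 * c * (chevLetter 10)⁻¹) = chevMat 10 * chevMat 0 * chevMat 11 := by
      rw [map_mul, map_mul, ← ha, hc, rho_letter, rho_letter, rho_letter]; rfl
    rcases hcases _ this with h | h | h <;> rw [e] at h
    · exact h4 h
    · exact h2 h
    · exact h3 h
  obtain ⟨θ, hrange, hker⟩ := exists_table_hom chevLetter ha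
    (by rw [h14 31 (by norm_num)]) h14 hrels hy
  have htop : Subgroup.closure (Set.range chevLetter) = ⊤ := by
    set T := Subgroup.closure (Set.range chevLetter) with hT
    rw [eq_top_iff]
    rintro ⟨g, hg⟩ -
    have key : g ∈ T.map (chevG2.group Z3).subtype := by
      refine (Subgroup.closure_le _).2 ?_ hg
      rintro u ⟨r, t, e⟩
      have hu : u ∈ chevG2.group Z3 := Subgroup.subset_closure ⟨r, t, e⟩
      refine ⟨⟨u, hu⟩, ?_, rfl⟩
      have hr : (r : ℕ) < 12 := by
        have h12 : chevG2.nroots = 12 := by decide
        have := r.isLt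
        omega
      have : (⟨u, hu⟩ : Known.G2Three.G) = wval chevLetter (rootWords.getD r []) ^ t.val := by
        apply rho_injective
        rw [map_pow, wv, ← root_words r hr t]
        show (u : Matrix chevG2.Idx chevG2.Idx Z3).submatrix shortIdx shortIdx = _
        rw [e, ChevalleyDatum.x, dif_pos r.isLt]
      show (⟨u, hu⟩ : Known.G2Three.G) ∈ T
      rw [this]
      exact pow_mem (list_prod_mem fun v hv => by
        obtain ⟨x, -, rfl⟩ := List.mem_map.1 hv; exact Subgroup.subset_closure ⟨x, rfl⟩) _
    obtain ⟨v, hv, e⟩ := key
    have : v = ⟨g, hg⟩ := Subtype.ext e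
    exact this ▸ hv
  let e0 : Known.G2Three.G ≃* Subgroup.closure (Set.range chevLetter) :=
    (Subgroup.topEquiv).symm.trans (MulEquiv.subgroupCongr htop.symm)
  let ψ := θ.comp e0.toMonoidHom
  have hψ : ψ.range = tableGroup := by
    rw [← hrange]
    refine le_antisymm ?_ ?_
    · rintro _ ⟨v, rfl⟩; exact ⟨_, rfl⟩
    · rintro _ ⟨v, rfl⟩; exact ⟨e0.symm v, by simp [ψ]⟩
  haveI := (CfsgLib.Lie.Chev.isSimple certG2 Z3 (connected_of_mem (by simp))
    (perfectData_of_big certG2 (by decide +kernel) Z3 ⟨2, by decide, by decide⟩)).1
  have hinj : Function.Injective ψ := by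
    rcases ψ.normal_ker.eq_bot_or_eq_top with h | h
    · exact (MonoidHom.ker_eq_bot_iff ψ).1 h
    · exfalso
      refine hy ?_
      have hm : (⟨chevLetter 10, Subgroup.subset_closure ⟨10, rfl⟩⟩ :
          Subgroup.closure (Set.range chevLetter)) ∈ θ.ker := by
        have h10 : chevLetter 10 ∈ ψ.ker := h ▸ Subgroup.mem_top _
        exact h10
      exact hker _ hm
  exact ⟨(MonoidHom.ofInjective hinj).trans (MulEquiv.subgroupCongr hψ)⟩

end CfsgLib.Recog.GTwoThree
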