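import Cfsg.Agent.Lib.Known.G2Three
import Cfsg.Agent.Lib.TwoGroups.StrongEmbedding
import Cfsg.Agent.Lib.Perm.PrimeOrderCount

/-!
Owner: helper5. A subgroup `G₂(3)` containing the centraliser of one of its involutions is the whole group.

Otherwise it is strongly embedded, so a subgroup of odd order is transitive on its 7371 involutions; such a
subgroup has 13 dividing its order once, and Sylow's count of the 13-subgroups fails.
-/

set_option autoImplicit false
set_option linter.style.haveILetI false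

namespace CfsgLib.Recog.GTwoThree

open Subgroup
open CfsgLib.Signalizer (orderOf_conj)
open CfsgLib.TwoGroups

/-- An odd subgroup of `G₂(3)` has order prime to `13` or not divisible by `7371`. -/
theorem not_dvd_odd (D : Subgroup Known.G2Three.G) (hodd : Odd (Nat.card D)) : ¬ 7371 ∣ Nat.card D := by
  classical
  intro hd
  haveI : Fact (Nat.Prime 13) := ⟨by norm_num⟩
  obtain ⟨e, he⟩ : Nat.card D ∣ 66339 := by
    have h : Nat.card D ∣ 2 ^ 6 * 66339 := by
      have h := Subgroup.card_subgroup_dvd_card D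
      rw [Known.G2Three.card_G] at h
      exact h.trans (dvd_of_eq (by norm_num))
    exact Nat.Coprime.dvd_of_dvd_mul_left ((Nat.coprime_two_right.2 hodd).pow_right 6) h
  obtain ⟨d, hdD⟩ := hd
  have he9 : d * e = 9 := by
    rw [hdD, mul_assoc] at he; omega
  have hd' : d = 1 ∨ d = 3 ∨ d = 9 := by
    have h := Nat.mem_divisors.2 ⟨Dvd.intro e he9, by norm_num⟩
    rw [show Nat.divisors 9 = {1, 3, 9} by decide] at h
    simpa using h
  -- a Sylow 13-subgroup is self-centralising
  obtain ⟨P⟩ : Nonempty (Sylow 13 D) := inferInstance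
  have hfac : (Nat.card D).factorization 13 = 1 := by
    refine le_antisymm ?_ ((Fact.out : Nat.Prime 13).factorization_pos_of_dvd Nat.card_pos.ne' ⟨567 * d, by omega⟩)
    by_contra hlt
    have h2 : 13 ^ 2 ∣ Nat.card D :=
      ((Fact.out : Nat.Prime 13).pow_dvd_iff_le_factorization Nat.card_pos.ne').2 (by omega)
    rw [hdD] at h2
    rcases hd' with rfl | rfl | rfl <;> norm_num at h2
  have hP : Nat.card (P : Subgroup D) = 13 := by rw [P.card_eq_multiplicity, hfac, pow_one]
  haveI : Nontrivial (P : Subgroup D) := Finite.one_lt_card_iff_nontrivial.1 (by omega)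
  obtain ⟨⟨x, hxP⟩, hx1⟩ := exists_ne (1 : (P : Subgroup D))
  have hx : orderOf x = 13 := by
    rw [← Subgroup.orderOf_mk x hxP]
    refine ((Nat.dvd_prime (Fact.out : Nat.Prime 13)).1 (by
      have h := orderOf_dvd_natCard (⟨x, hxP⟩ : (P : Subgroup D))
      rwa [hP] at h)).resolve_left fun h => hx1 ?_
    exact orderOf_eq_one_iff.1 h
  have hC : Nat.card (centralizer ((P : Subgroup D) : Set D)) ∣ 13 := by
    have hq : ∀ q : ℕ, q.Prime → q < 13 → q ≠ 2 → ¬ q ∣ Nat.card (centralizer ((P : Subgroup D) : Set D)) := by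
      intro q hq hlt h2 hdvd
      haveI := Fact.mk hq
      obtain ⟨y, hy⟩ := exists_prime_orderOf_dvd_card' q hdvd
      have hc : Commute (y : D) x := (mem_centralizer_iff.1 y.2 x hxP).symm
      have ho : orderOf ((((y : D) * x : D)) : Known.G2Three.G) = q * 13 := by
        rw [Subgroup.orderOf_coe, hc.orderOf_mul_eq_mul_orderOf_of_coprime, Subgroup.orderOf_coe, hy, hx]
        rw [Subgroup.orderOf_coe, hy, hx]
        exact (Nat.coprime_primes hq Fact.out).2 (by omega)
      exact h2 ((Known.G2Three.order_pairs hq Fact.out hlt).1 ⟨_, ho⟩).1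
    have h := (Subgroup.card_subgroup_dvd_card (centralizer ((P : Subgroup D) : Set D)))
    rw [hdD] at h
    have h3 := (Nat.prime_three.coprime_iff_not_dvd).2 (hq 3 Nat.prime_three (by norm_num) (by norm_num))
    have h7 := ((by norm_num : Nat.Prime 7).coprime_iff_not_dvd).2 (hq 7 (by norm_num) (by norm_num) (by norm_num))
    have h37 : Nat.Coprime (Nat.card (centralizer ((P : Subgroup D) : Set D))) (3 ^ 4 * 7 * d) := by
      refine ((h3.symm.pow_right 4).mul_right h7.symm).mul_right ?_
      rcases hd' with rfl | rfl | rfl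
      · exact Nat.coprime_one_right _
      · exact h3.symm
      · exact h3.symm.pow_right 2
    refine h37.dvd_of_dvd_mul_left ?_
    rw [show 3 ^ 4 * 7 * d * 13 = 7371 * d by ring]
    exact h
  -- the normaliser
  have hN : Nat.card (normalizer ((P : Subgroup D) : Set D)) ∣ 13 * 3 := by
    have h1 := card_dvd_of_injective _ (QuotientGroup.kerLift_injective (P : Subgroup D).normalizerMonoidHom)
    rw [normalizerMonoidHom_ker] at h1
    haveI : IsCyclic (P : Subgroup D) := isCyclic_of_prime_card hP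
    rw [IsCyclic.card_mulAut, hP, Nat.totient_prime Fact.out] at h1
    set C := (centralizer ((P : Subgroup D) : Set D)).subgroupOf (normalizer ((P : Subgroup D) : Set D)) with hCdef
    rw [← Subgroup.index_eq_card] at h1
    have hoddI : Odd C.index :=
      hodd.of_dvd_nat ((Subgroup.index_dvd_card C).trans (Subgroup.card_subgroup_dvd_card _))
    have h3 : C.index ∣ 3 := Nat.Coprime.dvd_of_dvd_mul_left
      ((Nat.coprime_two_right.2 hoddI).pow_right 2) (by norm_num at h1 ⊢; exact h1)
    have hCc : Nat.card C ∣ 13 := dvd_trans (by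
      rw [Nat.card_congr (subgroupOfEquivOfLe (centralizer_le_normalizer _)).toEquiv]) hC
    rw [← C.card_mul_index]
    exact Nat.mul_dvd_mul hCc h3
  -- Sylow's count
  have hcong := card_sylow_modEq_one 13 D
  have hidx := (normalizer ((P : Subgroup D) : Set D)).card_mul_index
  have hidx' : Nat.card (Sylow 13 D) = (normalizer ((P : Subgroup D) : Set D)).index := P.card_eq_index_normalizer
  rw [← hidx', hdD] at hidx
  have hle : 13 ∣ Nat.card (normalizer ((P : Subgroup D) : Set D)) :=
    (dvd_of_eq hP.symm).trans (Subgroup.card_dvd_of_le le_normalizer)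
  obtain ⟨k, hk⟩ := hle
  rw [hk] at hN hidx
  have hk3 : k = 1 ∨ k = 3 := (Nat.dvd_prime Nat.prime_three).1 (Nat.dvd_of_mul_dvd_mul_left (by norm_num) hN)
  unfold Nat.ModEq at hcong
  rcases hk3 with rfl | rfl <;> rcases hd' with rfl | rfl | rfl <;> omega

theorem eq_top_of_centralizer_le {G : Type*} [Group G] [Finite G] (G0 : Subgroup G)
    (iso : ↥G0 ≃* ↥(Cfsg.Lie.chevG2.group (ZMod 3))) (z : G) (hz : z ∈ G0) (hz2 : orderOf z = 2)
    (hC : centralizer ({z} : Set G) ≤ G0) : G0 = ⊤ := by
  classical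
  by_contra htop
  set φ : Known.G2Three.G →* G := G0.subtype.comp iso.symm.toMonoidHom with hφ
  have hφi : Function.Injective φ := G0.subtype_injective.comp iso.symm.injective
  have hord : ∀ t : G0, orderOf (iso t) = orderOf (t : G) := fun t => by
    rw [iso.orderOf_eq, Subgroup.orderOf_coe]
  have hconj : ∀ s t : G0, orderOf (s : G) = 2 → orderOf (t : G) = 2 → IsConj s t := by
    intro s t hs ht
    have h := CfsgLib.HallGen.ChevG2.isConj_involutions (F := ZMod 3) (by rw [ZMod.card]; decide)
      (iso s) (iso t) ((hord s).trans hs) ((hord t).trans ht)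
    simpa using MonoidHom.map_isConj iso.symm.toMonoidHom h
  have hcent : ∀ t ∈ G0, orderOf t = 2 → ∀ a : G, a * t = t * a → a ∈ G0 := by
    intro t ht ht2 a ha
    obtain ⟨b, hb⟩ := isConj_iff.1 (hconj ⟨z, hz⟩ ⟨t, ht⟩ hz2 ht2)
    have hb' : (b : G) * z * (b : G)⁻¹ = t := congrArg Subtype.val hb
    have h1 : (b : G)⁻¹ * a * b ∈ G0 := hC (mem_centralizer_singleton_iff.2 (by
      rw [← hb'] at ha
      calc (b : G)⁻¹ * a * b * z = (b : G)⁻¹ * (a * ((b : G) * z * (b : G)⁻¹)) * b := by group
        _ = (b : G)⁻¹ * ((b : G) * z * (b : G)⁻¹ * a) * b := by rw [ha]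
        _ = z * ((b : G)⁻¹ * a * b) := by group))
    have h2 := G0.mul_mem (G0.mul_mem b.2 h1) (G0.inv_mem b.2)
    rwa [show (b : G) * ((b : G)⁻¹ * a * b) * (b : G)⁻¹ = a by group] at h2
  have hH : Cfsg.IsStronglyEmbedded G0 := by
    refine (CfsgLib.Signalizer.stronglyEmbedded_iff_conj G0).2 ⟨htop, ?_, fun t ht ht2 g hg => ?_⟩
    · rw [even_iff_two_dvd, ← hz2]
      exact Subgroup.orderOf_dvd_natCard G0 hz
    · obtain ⟨b, hb⟩ := isConj_iff.1 (hconj ⟨t, ht⟩ ⟨g * t * g⁻¹, hg⟩ ht2 ((orderOf_conj g t).trans ht2))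
      have hb' : (b : G) * t * (b : G)⁻¹ = g * t * g⁻¹ := congrArg Subtype.val hb
      have h1 : (b : G)⁻¹ * g ∈ G0 := hcent t ht ht2 _ (by
        calc (b : G)⁻¹ * g * t = (b : G)⁻¹ * (g * t * g⁻¹) * g := by group
          _ = (b : G)⁻¹ * ((b : G) * t * (b : G)⁻¹) * g := by rw [hb']
          _ = t * ((b : G)⁻¹ * g) := by group)
      simpa using G0.mul_mem b.2 h1
  obtain ⟨u, -, hu⟩ := SetLike.exists_of_lt (lt_top_iff_ne_top.2 htop)
  have hxy : ((1 : G) : G ⧸ G0) ≠ (u : G ⧸ G0) := fun e => hu (by simpa using QuotientGroup.eq.1 e)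
  set D : Subgroup Known.G2Three.G :=
    (MulAction.stabilizer G (u : G ⧸ G0)).comap φ with hD
  have hfix : ∀ k : Known.G2Three.G, φ k • ((1 : G) : G ⧸ G0) = ((1 : G) : G ⧸ G0) := fun k => by
    rw [SE.smul_mk_eq_iff, inv_one, one_mul, mul_one]
    exact (iso.symm k).2
  refine not_dvd_odd D ?_ ?_
  · -- odd order
    rw [← Nat.not_even_iff_odd, even_iff_two_dvd]
    intro h2
    haveI := Fact.mk Nat.prime_two
    obtain ⟨d, hd⟩ := exists_prime_orderOf_dvd_card' 2 h2
    have h := SE.odd_orderOf_of_fixes hH hxy (hfix d) (MulAction.mem_stabilizer_iff.1 d.2)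
    rw [orderOf_injective φ hφi, Subgroup.orderOf_coe, hd] at h
    exact absurd h (by decide)
  · -- transitive on the involutions
    obtain ⟨s, hs⟩ := exists_prime_orderOf_dvd_card' (G := Known.G2Three.G) 2 (by
      rw [Known.G2Three.card_G]; norm_num)
    let f : D → {y : Known.G2Three.G // IsConj s y} := fun d => ⟨d * s * (d : Known.G2Three.G)⁻¹,
      isConj_iff.2 ⟨d, rfl⟩⟩
    have hf : Function.Surjective f := by
      rintro ⟨y, hy⟩
      obtain ⟨c, rfl⟩ := isConj_iff.1 hy
      obtain ⟨d, hdx, hdy, hd⟩ := SE.exists_conj_fixing hH hxy (s := φ s) (t := φ (c * s * c⁻¹))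
        (by rw [orderOf_injective φ hφi, hs]) (hfix _) (by rw [orderOf_injective φ hφi, orderOf_conj, hs]) (hfix _)
      have hd0 : d ∈ G0 := by simpa using (SE.smul_mk_eq_iff d (1 : G)).1 hdx
      have hφd : φ (iso ⟨d, hd0⟩) = d := by simp [hφ]
      refine ⟨⟨iso ⟨d, hd0⟩, MulAction.mem_stabilizer_iff.2 (by rw [hφd]; exact hdy)⟩, Subtype.ext (hφi ?_)⟩
      show φ (iso ⟨d, hd0⟩ * s * (iso ⟨d, hd0⟩)⁻¹) = _
      rw [map_mul, map_mul, map_inv, hφd]
      exact hd
    have hcard : Nat.card {y : Known.G2Three.G // IsConj s y} = 7371 := by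
      have h := CfsgLib.Perm.card_isConj_mul_card_centralizer s
      rw [Known.G2Three.card_centralizer hs, Known.G2Three.card_G] at h
      omega
    -- fibres are the cosets of a centraliser
    rw [← hcard]
    let C : Subgroup D := (centralizer ({s} : Set Known.G2Three.G)).comap D.subtype
    have e : Nat.card (D ⧸ C) = Nat.card {y : Known.G2Three.G // IsConj s y} := by
      refine Nat.card_congr (Equiv.ofBijective (Quotient.lift f ?_) ⟨?_, ?_⟩)
      · intro a b hab
        have h := mem_centralizer_singleton_iff.1 ((QuotientGroup.leftRel_apply (s := C)).1 hab)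
        refine Subtype.ext ?_
        show (a : Known.G2Three.G) * s * (a : Known.G2Three.G)⁻¹ = b * s * (b : Known.G2Three.G)⁻¹
        simp only [Subgroup.coe_subtype, Subgroup.coe_mul, InvMemClass.coe_inv] at h
        calc (a : Known.G2Three.G) * s * (a : Known.G2Three.G)⁻¹
            = a * (s * ((a : Known.G2Three.G)⁻¹ * b)) * (b : Known.G2Three.G)⁻¹ := by group
          _ = a * ((a : Known.G2Three.G)⁻¹ * b * s) * (b : Known.G2Three.G)⁻¹ := by rw [h]
          _ = _ := by group
      · refine Quotient.ind₂ fun a b hab => Quotient.sound (QuotientGroup.leftRel_apply.2 ?_)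
        have h : (a : Known.G2Three.G) * s * (a : Known.G2Three.G)⁻¹ = b * s * (b : Known.G2Three.G)⁻¹ :=
          congrArg Subtype.val hab
        refine mem_centralizer_singleton_iff.2 ?_
        simp only [Subgroup.coe_subtype, Subgroup.coe_mul, InvMemClass.coe_inv]
        calc (a : Known.G2Three.G)⁻¹ * b * s = (a : Known.G2Three.G)⁻¹ * (b * s * (b : Known.G2Three.G)⁻¹) * b := by group
          _ = (a : Known.G2Three.G)⁻¹ * (a * s * (a : Known.G2Three.G)⁻¹) * b := by rw [h]
          _ = _ := by group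
      · intro y; obtain ⟨d, rfl⟩ := hf y; exact ⟨⟦d⟧, rfl⟩
    rw [← e]
    exact Subgroup.card_quotient_dvd_card C

end CfsgLib.Recog.GTwoThree
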