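import Mathlib
import Cfsg.Agent.Lib.Recog.GTwoThree.Check
import Cfsg.Agent.Lib.Recog.GTwoThree.Amalgam

/-!
The relators used in the coset enumerations, checked in the group (owner: helper23). The letters
`2 i` and `2 i + 1` are the generators `c₁, c₂, i₁, i₂, s, y, b` and their inverses.
-/

set_option autoImplicit false
set_option maxRecDepth 100000

namespace CfsgLib.Recog.GTwoThree

open Check

/-- The codes of the generators of the centraliser and of their inverses. -/
def hLetters : List ℕ := [294, cInv 0 294, 156, cInv 0 156, 30, cInv 0 30, 168, cInv 0 168, 151, cInv 0 151]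

/-- The code of a word in the generators of the centraliser. -/
def hEval (w : List ℕ) : ℕ := cProd 0 (w.map fun x => hLetters.getD x 150)

def invWord (w : List ℕ) : List ℕ := (w.map Check.flip).reverse

/-- Free reduction. -/
def reduce (w : List ℕ) : List ℕ :=
  w.foldr (fun x acc => match acc with
    | [] => [x]
    | y :: t => bif Nat.beq y (Check.flip x) then t else x :: y :: t) []

/-- The word of `g = y k y` with `k` the element with code 52. -/
def gWord : List ℕ := [10, 4, 1, 6, 2, 10]

/-- The two factors `w₁, w₂` of a relator, with the rule it obeys. -/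
inductive Rel where
  | h (w : List ℕ)
  | act (w₁ w₂ : List ℕ)
  | cube
  | ry (w₁ w₂ : List ℕ)
  | uy (w₁ w₂ : List ℕ)

def Rel.word : Rel → List ℕ
  | .h w => w
  | .act w₁ w₂ => [10] ++ w₁ ++ [11] ++ w₂
  | .cube => [10, 10, 10]
  | .ry w₁ w₂ => w₁ ++ [10] ++ w₂ ++ [10]
  | .uy w₁ w₂ => (w₁ ++ [10]) ++ (w₁ ++ [10]) ++ (w₁ ++ [10]) ++ (w₁ ++ [10]) ++ w₂

def allSmall (w : List ℕ) : Bool := w.all fun x => Nat.blt x 10

/-- Validity when the fourth power of `u y` has code `t`. -/
def Rel.ok (t : ℕ) : Rel → Bool
  | .h w => allSmall w && Nat.beq (hEval w) 150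
  | .act w₁ w₂ => allSmall w₁ && allSmall w₂ && wSet.any (Nat.beq (hEval w₁)) &&
      Nat.beq (cMul 0 (img 0 alGens (hEval w₁)) (hEval w₂)) 150
  | .cube => true
  | .ry w₁ w₂ => allSmall w₁ && allSmall w₂ && Nat.beq (hEval w₁) 22 &&
      Nat.beq (cMul 0 22 (hEval w₂)) 150
  | .uy w₁ w₂ => allSmall w₁ && allSmall w₂ && Nat.beq (hEval w₁) 300 &&
      Nat.beq (cMul 0 t (hEval w₂)) 150

/-- The relators of the extra element with the word `xw` for its conjugate in the centraliser. -/
def bRels (xw : List ℕ) : List (List ℕ) :=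
  [[13] ++ reduce (gWord ++ xw ++ invWord gWord), [12, 12, 12], [12, 0, 13, 1], [12, 2, 13, 3],
    [4, 4, 12, 5, 5, 12], [8, 12, 9, 13]]

/-- The relators with their inverses and the trivial ones. -/
def allRels (l : List (List ℕ)) : List (List ℕ) :=
  l ++ l.map invWord ++ (List.range 14).map fun x => [x, Check.flip x]

section Words

variable {G : Type*} [Group G] (a : ℕ → G) (ha : ∀ x, a (Check.flip x) = (a x)⁻¹)

include ha in
theorem wval_invWord (w : List ℕ) : wval a (invWord w) = (wval a w)⁻¹ := by
  induction w with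
  | nil => simp [invWord, wval]
  | cons x w ih =>
    simp only [invWord, List.map_cons, List.reverse_cons]
    simp only [invWord] at ih
    rw [wval_cons a x w, mul_inv_rev, wval_append, ih, wval_cons, wval_nil, mul_one, ha]

include ha in
theorem wval_reduce (w : List ℕ) : wval a (reduce w) = wval a w := by
  induction w with
  | nil => rfl
  | cons x w ih =>
    rw [wval_cons, ← ih, reduce, List.foldr_cons]
    change wval a (match reduce w with
      | [] => [x]
      | y :: t => bif Nat.beq y (Check.flip x) then t else x :: y :: t) = a x * wval a (reduce w)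
    cases hr : reduce w with
    | nil => simp [wval]
    | cons y t =>
      dsimp only
      cases hb : Nat.beq y (Check.flip x) with
      | false => rw [cond_false, wval_cons]
      | true =>
        rw [cond_true, wval_cons, Nat.eq_of_beq_eq_true hb, ha, mul_inv_cancel_left]

include ha in
theorem allRels_one {l : List (List ℕ)} (h : ∀ r ∈ l, wval a r = 1) :
    ∀ r ∈ allRels l, wval a r = 1 := by
  intro r hr
  simp only [allRels, List.mem_append, List.mem_map] at hr
  rcases hr with (hr | ⟨r', hr', rfl⟩) | ⟨x, -, rfl⟩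
  · exact h r hr
  · rw [wval_invWord a ha, h r' hr', inv_one]
  · rw [wval_cons, wval_cons, wval_nil, mul_one, ha, mul_inv_cancel]

end Words

section Letters

variable {G : Type*} [Group G] {z : G} (μ : Model z 0) (y b : G)

/-- The value of a letter. -/
def letter (x : ℕ) : G :=
  if x < 10 then μ.val (hLetters.getD x 150) else
    if x = 10 then y else if x = 11 then y⁻¹ else if x = 12 then b else if x = 13 then b⁻¹ else 1

theorem hLetters_facts : (∀ x < 10, hLetters.getD x 150 < 576 ∧
    hLetters.getD (Check.flip x) 150 = cInv 0 (hLetters.getD x 150) ∧ Check.flip x < 10) ∧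
    hEval gWord.tail.dropLast = 52 := by decide +kernel

theorem letter_flip (x : ℕ) : letter μ y b (Check.flip x) = (letter μ y b x)⁻¹ := by
  by_cases hx : x < 10
  · obtain ⟨h1, h2, h3⟩ := hLetters_facts.1 x hx
    unfold letter
    rw [if_pos h3, if_pos hx, h2, μ.val_inv (by norm_num) h1]
  · by_cases h14 : x < 14
    · interval_cases x
      · rw [show Check.flip 10 = 11 from rfl]; simp [letter]
      · rw [show Check.flip 11 = 10 from rfl]; simp [letter]
      · rw [show Check.flip 12 = 13 from rfl]; simp [letter]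
      · rw [show Check.flip 13 = 12 from rfl]; simp [letter]
    · have hf : 14 ≤ Check.flip x := by
        have hge : 14 ≤ x := by omega
        unfold Check.flip
        cases Nat.beq x 31 with
        | true => simp
        | false =>
          cases hb : Nat.beq (x % 2) 0 with
          | true => simp; omega
          | false =>
            simp only [cond_false]
            have : x % 2 ≠ 0 := fun h => by rw [h] at hb; simp at hb
            omega
      unfold letter
      simp [show ¬ Check.flip x < 10 by omega, show Check.flip x ≠ 10 by omega, show Check.flip x ≠ 11 by omega,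
        show Check.flip x ≠ 12 by omega, show Check.flip x ≠ 13 by omega, hx, show x ≠ 10 by omega,
        show x ≠ 11 by omega, show x ≠ 12 by omega, show x ≠ 13 by omega]

theorem letter_empty : letter μ y b 31 = 1 := by simp [letter]

theorem wval_small {w : List ℕ} (h : allSmall w = true) :
    hEval w < 576 ∧ wval (letter μ y b) w = μ.val (hEval w) := by
  simp only [allSmall, List.all_eq_true] at h
  have hlt : ∀ x ∈ w, x < 10 := fun x hx => Nat.lt_of_succ_le (Nat.le_of_ble_eq_true (h x hx))
  obtain ⟨h1, h2⟩ := μ.cProd_val (l := w.map fun x => hLetters.getD x 150) (fun v hv => by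
    obtain ⟨x, hx, rfl⟩ := List.mem_map.1 hv; exact (hLetters_facts.1 x (hlt x hx)).1)
  refine ⟨h1, h2.symm ▸ ?_⟩
  rw [wval, List.map_map]
  exact congrArg List.prod (List.map_congr_left fun x hx => by simp [letter, hlt x hx])

theorem wval_gWord : wval (letter μ y b) gWord = y * μ.val 52 * y := by
  have h := (wval_small μ y b (w := gWord.tail.dropLast) (by decide)).2
  rw [hLetters_facts.2] at h
  rw [show gWord = [10] ++ gWord.tail.dropLast ++ [10] from rfl, wval_append, wval_append, h]
  simp [wval, letter]

theorem rel_one {L : Local μ} (A : Amal μ L) (hy : y = A.y) (r : Rel) (hr : r.ok A.t = true) :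
    wval (letter μ y b) r.word = 1 := by
  have hY : letter μ y b 10 = A.y := by simp [letter, hy]
  have hY' : letter μ y b 11 = A.y⁻¹ := by simp [letter, hy]
  cases r with
  | h w =>
    simp only [Rel.ok, Bool.and_eq_true] at hr
    obtain ⟨h1, h2⟩ := wval_small μ y b hr.1
    rw [Rel.word, h2, Nat.eq_of_beq_eq_true hr.2, μ.val_one]
  | act w₁ w₂ =>
    simp only [Rel.ok, Bool.and_eq_true] at hr
    obtain ⟨⟨⟨s1, s2⟩, hm⟩, he⟩ := hr
    obtain ⟨l1, v1⟩ := wval_small μ y b s1
    obtain ⟨l2, v2⟩ := wval_small μ y b s2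
    obtain ⟨l3, v3⟩ := act_img (by norm_num) μ (A := alGens) (by decide) A.act (mem_of_any hm)
    have := congrArg μ.val (Nat.eq_of_beq_eq_true he)
    rw [μ.mul _ _ l3 l2, μ.val_one, ← v3] at this
    simp only [Rel.word, wval_append, wval_cons, wval_nil, mul_one, hY, hY', v1, v2]
    exact this
  | cube =>
    simp only [Rel.word, wval_cons, wval_nil, mul_one, hY]
    rw [← A.y_cube, pow_succ, pow_two, mul_assoc]
  | ry w₁ w₂ =>
    simp only [Rel.ok, Bool.and_eq_true] at hr
    obtain ⟨⟨⟨s1, s2⟩, h1⟩, h2⟩ := hr
    obtain ⟨l1, v1⟩ := wval_small μ y b s1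
    obtain ⟨l2, v2⟩ := wval_small μ y b s2
    have := congrArg μ.val (Nat.eq_of_beq_eq_true h2)
    rw [μ.mul _ _ (by norm_num) l2, μ.val_one] at this
    simp only [Rel.word, wval_append, wval_cons, wval_nil, mul_one, hY, v1, v2,
      Nat.eq_of_beq_eq_true h1, eq_inv_of_mul_eq_one_right this]
    exact A.ry
  | uy w₁ w₂ =>
    simp only [Rel.ok, Bool.and_eq_true] at hr
    obtain ⟨⟨⟨s1, s2⟩, h1⟩, h2⟩ := hr
    obtain ⟨l1, v1⟩ := wval_small μ y b s1
    obtain ⟨l2, v2⟩ := wval_small μ y b s2
    have ht : A.t < 576 := by rcases A.ht with h | h <;> omega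
    have := congrArg μ.val (Nat.eq_of_beq_eq_true h2)
    rw [μ.mul _ _ ht l2, μ.val_one, ← A.uy] at this
    simp only [Rel.word, wval_append, wval_cons, wval_nil, mul_one, hY, v1, v2,
      Nat.eq_of_beq_eq_true h1]
    rw [← this, pow_succ, pow_succ, pow_two]

/-- What is known about the extra element. -/
structure Extra (x : ℕ) : Prop where
  x_lt : x < 576
  conj : b = y * μ.val 52 * y * μ.val x * (y * μ.val 52 * y)⁻¹
  cube : b ^ 3 = 1
  c1 : b * μ.val 294 = μ.val 294 * b
  c2 : b * μ.val 156 = μ.val 156 * b
  inverted : z * b * z⁻¹ = b⁻¹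
  s : b * μ.val 151 = μ.val 151 * b

theorem bRels_one {x : ℕ} (e : Extra μ y b x) {xw : List ℕ} (hs : allSmall xw = true)
    (hx : hEval xw = x) : ∀ r ∈ bRels xw, wval (letter μ y b) r = 1 := by
  intro r hr
  have hb : letter μ y b 12 = b := by simp [letter]
  have hb' : letter μ y b 13 = b⁻¹ := by simp [letter]
  have small : ∀ v < 10, letter μ y b v = μ.val (hLetters.getD v 150) := fun v hv => by
    simp [letter, hv]
  have inv_of : ∀ v < 10, letter μ y b (Check.flip v) = (μ.val (hLetters.getD v 150))⁻¹ := fun v hv => by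
    rw [letter_flip, small v hv]
  have i1 : letter μ y b 1 = (μ.val 294)⁻¹ := inv_of 0 (by norm_num)
  have i3 : letter μ y b 3 = (μ.val 156)⁻¹ := inv_of 2 (by norm_num)
  have i5 : letter μ y b 5 = (μ.val 30)⁻¹ := inv_of 4 (by norm_num)
  have i9 : letter μ y b 9 = (μ.val 151)⁻¹ := inv_of 8 (by norm_num)
  have j0 : letter μ y b 0 = μ.val 294 := small 0 (by norm_num)
  have j2 : letter μ y b 2 = μ.val 156 := small 2 (by norm_num)
  have j4 : letter μ y b 4 = μ.val 30 := small 4 (by norm_num)
  have j8 : letter μ y b 8 = μ.val 151 := small 8 (by norm_num)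
  simp only [bRels, List.mem_cons, List.not_mem_nil, or_false] at hr
  rcases hr with rfl | rfl | rfl | rfl | rfl | rfl
  · rw [wval_append, wval_reduce _ (letter_flip μ y b), wval_append, wval_append,
      wval_invWord _ (letter_flip μ y b), wval_gWord, (wval_small μ y b hs).2, hx, wval_cons,
      wval_nil, mul_one, hb', ← e.conj, inv_mul_cancel]
  · simp only [wval_cons, wval_nil, mul_one, hb]
    rw [← e.cube, pow_succ, pow_two, mul_assoc]
  · simp only [wval_cons, wval_nil, mul_one, hb, hb', j0, i1]
    rw [← mul_assoc, e.c1]; group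
  · simp only [wval_cons, wval_nil, mul_one, hb, hb', j2, i3]
    rw [← mul_assoc, e.c2]; group
  · simp only [wval_cons, wval_nil, mul_one, hb, j4, i5]
    have hzz : μ.val 30 * μ.val 30 = z := by
      rw [← μ.mul _ _ (by norm_num) (by norm_num), show cMul 0 30 30 = 174 from by decide +kernel,
        μ.val_z]
    calc μ.val 30 * (μ.val 30 * (b * ((μ.val 30)⁻¹ * ((μ.val 30)⁻¹ * b))))
        = μ.val 30 * μ.val 30 * b * (μ.val 30 * μ.val 30)⁻¹ * b := by group
      _ = 1 := by rw [hzz, e.inverted, inv_mul_cancel]
  · simp only [wval_cons, wval_nil, mul_one, hb, hb', j8, i9]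
    rw [← mul_assoc, ← e.s]; group

end Letters

end CfsgLib.Recog.GTwoThree
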